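import Cfsg.Agent.H10.FrakH
import Cfsg.Agent.H10.Misc

/-!
The asymmetric `L`-lemma: action on a noncentral chief factor.
-/

set_option autoImplicit false

namespace H10

open Cfsg

variable {G : Type*} [Group G] {p : ℕ}

/-- a noncentral minimal normal `p`-subgroup in the situation of the asymmetric `L`-lemma -/
structure ALm (p : ℕ) (V Y R : Subgroup G) (g : G) : Prop where
  vn : V.Normal
  vp : IsPGroup p V
  rp : IsPGroup p R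
  min : ∀ Z : Subgroup G, Z.Normal → Z ≤ V → Z = ⊥ ∨ Z = V
  nc : ⁅V, (⊤ : Subgroup G)⁆ ≠ ⊥
  yr : Y ≤ R
  rc : R ≤ CC(Y)
  vy : V ≤ NN(Y)
  vr : V ≤ NN(R)
  gen1 : R ⊔ cj g Y = ⊤
  gen2 : R ⊔ cj g⁻¹ Y = ⊤

namespace ALm

variable {V Y R : Subgroup G} {g : G} (h : ALm p V Y R g)
include h

theorem symm : ALm p V Y R g⁻¹ :=
  { h with gen1 := h.gen2, gen2 := by rw [inv_inv]; exact h.gen1 }

theorem nn (X : Subgroup G) : X ≤ NN(V) := haveI := h.vn; le_NN_of_normal X V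

theorem cjV (x : G) : cj x V = V := haveI := h.vn; cj_eq_of_normal x V

theorem cl (X : Subgroup G) : ⁅V, X⁆ ≤ V := comm_le_left (h.nn X)

theorem ne_bot : V ≠ ⊥ := fun e => h.nc (by rw [e]; simp)

theorem eq_bot {Z : Subgroup G} (h1 : Z ≤ V) (h2 : Z ≤ CC((⊤ : Subgroup G))) : Z = ⊥ := by
  rcases h.min Z (normal_of_top_le_NN ((le_CC_symm h2).trans (CC_le_NN Z))) h1 with e | e
  · exact e
  · exact absurd (comm_eq_bot.2 (e ▸ h2)) h.nc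

theorem comm_top : ⁅V, (⊤ : Subgroup G)⁆ = V :=
  (h.min _ (normal_of_top_le_NN (right_le_NN_comm _ _)) (h.cl _)).resolve_left h.nc

theorem gen3 : cj g R ⊔ Y = ⊤ := by
  have := congrArg (cj g) h.gen2
  rwa [cj_sup, cj_cj_inv, cj_top] at this

theorem cY (x : G) : ⁅V, cj x Y⁆ ≤ cj x Y := by
  refine comm_le_right ?_
  have := cj_mono x h.vy
  rwa [h.cjV, cj_normalizer] at this

theorem cYR (x : G) : cj x Y ≤ CC(cj x R) := by
  have := cj_mono x (le_CC_symm h.rc)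
  rwa [cj_centralizer] at this

theorem cj_comm (x : G) (X : Subgroup G) : cj x ⁅V, X⁆ = ⁅V, cj x X⁆ := by
  rw [cj_commutator, h.cjV]

theorem cY1 : ⁅V, Y⁆ ≤ Y := comm_le_right h.vy

variable [hp : Fact p.Prime] [Finite G]

theorem abel : V ≤ CC(V) := by
  rcases h.min ⁅V, V⁆ (normal_of_top_le_NN (le_NN_commutator (h.nn _) (h.nn _))) (h.cl _) with e | e
  · exact comm_eq_bot.1 e
  · exact absurd (eq_bot_of_le_comm' h.vp h.vp (le_NN_self V) e.ge) h.ne_bot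

theorem snn {A B : Subgroup G} (hA : A ≤ V) (hB : B ≤ V) : A ≤ NN(B) :=
  hA.trans (h.abel.trans ((CC_anti hB).trans (CC_le_NN B)))

omit hp [Finite G] in
theorem comm_sup (A B : Subgroup G) : ⁅V, A ⊔ B⁆ = ⁅V, A⁆ ⊔ ⁅V, B⁆ := by
  have hle : ⁅V, A⁆ ⊔ ⁅V, B⁆ ≤ V := sup_le (h.cl _) (h.cl _)
  exact le_antisymm (comm_sup_le' (le_NN_of_comm_le_of_le le_sup_left hle)
    (le_NN_of_comm_le_of_le le_sup_right hle) le_sup_left le_sup_right)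
    (sup_le (Subgroup.commutator_mono le_rfl le_sup_left)
      (Subgroup.commutator_mono le_rfl le_sup_right))

omit hp [Finite G] in
theorem sup1 : ⁅V, R⁆ ⊔ ⁅V, cj g Y⁆ = V := by rw [← h.comm_sup, h.gen1, h.comm_top]

omit hp [Finite G] in
theorem inf1 : ⁅V, cj g Y⁆ ⊓ CC(Y) = ⊥ := by
  refine h.eq_bot (inf_le_left.trans (h.cl _)) ?_
  rw [← h.gen3, CC_sup]
  exact le_inf (inf_le_left.trans ((h.cY g).trans (h.cYR g))) inf_le_right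

theorem cy : V ⊓ CC(Y) = ⁅V, R⁆ := by
  have h1 : ⁅V, R⁆ ≤ CC(Y) := (comm_le_right h.vr).trans h.rc
  conv_lhs => rw [← h.sup1]
  rw [dedekind_left h1 (h.snn (h.cl _) (h.cl _)), h.inf1, sup_bot_eq]

theorem sup2 : ⁅V, Y⁆ ⊔ (V ⊓ CC(cj g Y)) = V := by
  have := congrArg (cj g) h.symm.sup1
  rwa [← h.cy, cj_sup, h.cj_comm, cj_cj_inv, cj_inf, h.cjV, cj_centralizer, sup_comm] at this

omit hp [Finite G] in
theorem cYY : ⁅V, Y⁆ ≤ CC(Y) := h.cY1.trans (h.yr.trans h.rc)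

theorem cy2 : V ⊓ CC(Y) = ⁅V, Y⁆ ⊔ (V ⊓ CC(Y ⊔ cj g Y)) := by
  conv_lhs => rw [← h.sup2]
  rw [dedekind_left h.cYY (h.snn (h.cl _) inf_le_left), CC_sup, inf_assoc, inf_comm CC(cj g Y)]

theorem star {l : G} (hl : l ∈ Y ⊔ cj g Y) (hc : cj l Y ≤ CC(Y)) :
    resOf p (ncl R (R ⊔ Subgroup.zpowers l)) ≤ CC(V) := by
  set J := R ⊔ Subgroup.zpowers l with hJ
  have h1 : ⁅V, cj l Y⁆ ≤ ⁅V, Y⁆ := by
    have h2 : ⁅V, cj l Y⁆ ≤ (⁅V, Y⁆ ⊔ ⁅V, cj g Y⁆) ⊓ CC(Y) := by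
      refine le_inf ?_ ((h.cY l).trans hc)
      rw [← h.comm_sup]
      exact Subgroup.commutator_mono le_rfl (cj_le_of_mem hl le_sup_left)
    rwa [dedekind_left h.cYY (h.snn (h.cl _) (h.cl _)), h.inf1, sup_bot_eq] at h2
  have h2 : l ∈ NN(⁅V, Y⁆) := mem_NN_of_cj_le (by rw [h.cj_comm]; exact h1)
  have hz : ∀ {X : Subgroup G}, l ∈ X → Subgroup.zpowers l ≤ X := fun hX =>
    (Subgroup.zpowers_le).2 hX
  have hRY : R ≤ NN(Y) := h.rc.trans (CC_le_NN Y)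
  have h3 : J ≤ NN(⁅V, Y⁆) := sup_le (le_NN_commutator (h.nn R) hRY) (hz h2)
  have hlc : Subgroup.zpowers l ≤ CC(V ⊓ CC(Y ⊔ cj g Y)) :=
    (hz hl).trans (le_CC_symm inf_le_right)
  have h4 : ⁅V ⊓ CC(Y), Subgroup.zpowers l⁆ ≤ ⁅V, Y⁆ := by
    rw [h.cy2]
    refine comm_sup_le (le_NN_self _) (h.snn inf_le_left (h.cl _)) (comm_le_left (hz h2)) ?_
    rw [comm_eq_bot'.2 hlc]; exact bot_le
  have hVY : ⁅V, Y⁆ ≤ V ⊓ CC(Y) := le_inf (h.cl _) h.cYY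
  have h5 : J ≤ NN(V ⊓ CC(Y)) := sup_le (le_NN_inf (h.nn R) (le_NN_CC hRY))
    (le_NN_of_comm_le_left (h4.trans hVY))
  have hE : ncl R J ≤ J := ncl_le_of_le le_sup_left
  -- bottom
  have b1 : ncl R J ≤ CC(⁅V, Y⁆) := ncl_le_CC (h.rc.trans (CC_anti h.cY1)) h3
  -- top
  have b3 : ⁅V, ncl R J⁆ ≤ V ⊓ CC(Y) := by
    rw [Subgroup.commutator_comm]
    exact comm_ncl_le (by rw [Subgroup.commutator_comm, h.cy]) (le_sup_left.trans h5) (h.nn _) h5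
  -- middle
  have b2 : ⁅V ⊓ CC(Y), resOf p J⁆ ≤ ⁅V, Y⁆ := by
    have hN : J ≤ NN(J ⊓ stabMod (V ⊓ CC(Y)) ⁅V, Y⁆) := by
      refine le_NN_of_cj_le fun x hx => ?_
      have hx' : cj x (J ⊓ stabMod (V ⊓ CC(Y)) ⁅V, Y⁆) ≤ J := cj_le_of_mem hx inf_le_left
      refine le_inf hx' (le_stabMod.2 ⟨hx'.trans h3, ?_⟩)
      have := cj_mono x (le_stabMod.1 (inf_le_right :
        J ⊓ stabMod (V ⊓ CC(Y)) ⁅V, Y⁆ ≤ _)).2
      rwa [cj_commutator, cj_eq_of_mem_NN (h5 hx), cj_eq_of_mem_NN (h3 hx)] at this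
    have hl1 : Subgroup.zpowers l ≤ J ⊓ stabMod (V ⊓ CC(Y)) ⁅V, Y⁆ :=
      le_inf le_sup_right (le_stabMod.2 ⟨hz h2, by rwa [Subgroup.commutator_comm]⟩)
    have h6 : resOf p J ≤ J ⊓ stabMod (V ⊓ CC(Y)) ⁅V, Y⁆ :=
      (resOf_mono (sup_le le_sup_right (hl1.trans le_sup_left))).trans
        (resOf_sup_le h.rp (le_sup_left.trans hN))
    rw [Subgroup.commutator_comm]
    exact (le_stabMod.1 (h6.trans inf_le_right)).2
  have s1 : resOf p (ncl R J) ≤ CC(V ⊓ CC(Y)) :=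
    resOf_le_CC_of_step (h.vp.to_le (h.cl Y))
      ((Subgroup.commutator_mono le_rfl (resOf_mono hE)).trans b2) ((resOf_le _).trans b1)
  exact resOf_le_CC_of_step (h.vp.to_le inf_le_left)
    ((Subgroup.commutator_mono le_rfl (resOf_le _)).trans b3) s1

theorem not_le_CC {X : Subgroup G} (hX : X ⊔ R = ⊤) : ¬ X ≤ CC(V) := fun hc => by
  have := h.comm_top
  rw [← hX, h.comm_sup, comm_eq_bot'.2 hc, bot_sup_eq] at this
  exact h.ne_bot (eq_bot_of_le_comm' h.vp h.rp (h.nn R) this.ge)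

theorem le_CC {D : Subgroup G} (h1 : D ≤ Y) (h2 : D ≤ NN(cj g Y)) : D ≤ CC(V) := by
  have h3 : ⁅⁅V, cj g Y⁆, D⁆ = ⊥ := by
    refine h.eq_bot ((Subgroup.commutator_mono (h.cl _) le_rfl).trans (h.cl _)) ?_
    have e : cj g R ⊔ R = ⊤ := top_le_iff.1 (h.gen3.ge.trans (sup_le_sup_left h.yr _))
    rw [← e, CC_sup]
    refine le_inf (((Subgroup.commutator_mono (h.cY g) le_rfl).trans (comm_le_left h2)).trans
      (h.cYR g)) ?_
    exact (Subgroup.commutator_mono (h.cl _) h1).trans (h.cY1.trans (le_CC_symm h.rc))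
  rw [← h.sup1, CC_sup, ← h.cy]
  exact le_inf (h1.trans (le_CC_symm inf_le_right)) (comm_eq_bot'.1 h3)

end ALm

variable [hp : Fact p.Prime] [Finite G]

/-- `V/W` is a chief factor of `H` -/
structure ChF (H V W : Subgroup G) : Prop where
  nv : H ≤ NN(V)
  nw : H ≤ NN(W)
  lt : W < V
  min : ∀ Z : Subgroup G, H ≤ NN(Z) → W ≤ Z → Z ≤ V → Z = W ∨ Z = V

theorem resOf_le_CC_of_chf {H O X : Subgroup G} (hO : IsPGroup p O) (hn : H ≤ NN(O))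
    (h : ∀ V W, ChF H V W → V ≤ O → ⁅V, resOf p X⁆ ≤ W) : resOf p X ≤ CC(O) := by
  obtain ⟨W, ⟨h1, h2, h3⟩, hmax⟩ := exists_maximal_subgroup
    (P := fun W : Subgroup G => W ≤ O ∧ H ≤ NN(W) ∧ resOf p X ≤ CC(W)) (X := ⊥)
    ⟨bot_le, by rw [NN_bot]; exact le_top, by rw [CC_bot]; exact le_top⟩
  rcases eq_or_lt_of_le h1 with e | hlt
  · exact e ▸ h3
  obtain ⟨V, ⟨h4, h5, h6⟩, hmin⟩ := exists_minimal_subgroup
    (P := fun V : Subgroup G => V ≤ O ∧ H ≤ NN(V) ∧ W < V) (X := O) ⟨le_rfl, hn, hlt⟩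
  have hc : ChF H V W := ⟨h5, h2, h6, fun Z a b c => by
    rcases eq_or_lt_of_le b with e | e
    · exact Or.inl e.symm
    · exact Or.inr (hmin Z ⟨c.trans h4, a, e⟩ c)⟩
  exact absurd (hmax V ⟨h4, h5, resOf_le_CC_of_step (hO.to_le h1) (h V W hc h4) h3⟩ h6.le) h6.ne'

theorem CharPIn.isPGroup_of_chf {H X : Subgroup G} (hH : CharPIn p H) (hX : X ≤ H)
    (h : ∀ V W, ChF H V W → V ≤ pCoreOf p H → ⁅V, resOf p X⁆ ≤ W) : IsPGroup p X :=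
  hH.isPGroup hX (resOf_le_CC_of_chf (isPGroup_pCoreOf H) (le_NN_pCoreOf H) h)

omit hp [Finite G] in
theorem ChF.alm {H V W Y R : Subgroup G} (h : ChF H V W) [(W.subgroupOf H).Normal]
    (hVH : V ≤ H) (hV : IsPGroup p V) (hR : IsPGroup p R) (hRH : R ≤ H) (nc : ¬ ⁅V, H⁆ ≤ W)
    (yr : Y ≤ R) (rc : R ≤ CC(Y)) (vy : V ≤ NN(Y)) (vr : V ≤ NN(R)) {g : G} (hg : g ∈ H)
    (gen1 : R ⊔ cj g Y = H) (gen2 : R ⊔ cj g⁻¹ Y = H) :
    ALm p (bar H W V) (bar H W Y) (bar H W R) (QuotientGroup.mk (⟨g, hg⟩ : H)) := by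
  have hYH := yr.trans hRH
  have hWH := h.lt.le.trans hVH
  refine ⟨bar_normal hVH h.nv, isPGroup_bar hV, isPGroup_bar hR, fun Z hZ hle => ?_, fun e => nc ?_,
    bar_mono yr, ?_, bar_le_NN hYH vy, bar_le_NN hRH vr, ?_, ?_⟩
  · have h1 : unbar H W Z ≤ V := by
      have := unbar_mono hle
      rwa [unbar_bar hVH, sup_eq_left.2 (inf_le_right.trans h.lt.le)] at this
    rcases h.min _ (le_NN_unbar_of_normal Z) ((le_inf hWH le_rfl).trans (inf_le_unbar Z)) h1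
      with e | e
    · left; rw [← bar_unbar Z, e, bar_eq_bot hWH]
    · right; rw [← bar_unbar Z, e]
  · rwa [← bar_self, ← bar_commutator hVH le_rfl, bar_eq_bot (comm_le_of_le hVH le_rfl)] at e
  · rw [bar_le_CC_iff hRH hYH, comm_eq_bot.2 rc]; exact bot_le
  · rw [← bar_cj hg hYH, ← bar_sup hRH (cj_le_of_mem hg hYH), gen1, bar_self]
  · rw [← QuotientGroup.mk_inv]
    change _ ⊔ cj (QuotientGroup.mk (⟨g⁻¹, H.inv_mem hg⟩ : H)) _ = _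
    rw [← bar_cj (H.inv_mem hg) hYH, ← bar_sup hRH (cj_le_of_mem (H.inv_mem hg) hYH), gen2,
      bar_self]

end H10
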