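import Cfsg.Agent.H10.AL1
import Cfsg.Agent.H6.Baer

/-!
The asymmetric `L`-lemma.
-/

set_option autoImplicit false

namespace H10

open Cfsg

variable {G : Type*} [Group G] {p : ℕ} [hp : Fact p.Prime] [Finite G]

theorem exists_not_pgroup_cj {Y L : Subgroup G} (hYL : Y ≤ L) (h : ¬ Y ≤ pCoreOf p L) :
    ∃ g ∈ L, ¬ IsPGroup p (Y ⊔ cj g Y : Subgroup G) := by
  by_contra hc
  push Not at hc
  refine h fun y hy => ?_
  obtain ⟨P⟩ : Nonempty (Sylow p L) := inferInstance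
  have h1 : (⟨y, hYL hy⟩ : L) ∈ (P : Subgroup L).normalCore := by
    refine H6.baer_suzuki_elt (fun g => ?_) P
    refine (isPGroup_subgroupOf (hc g g.2) L).to_le ?_
    rw [Subgroup.closure_le]
    rintro x (rfl | rfl)
    · exact Subgroup.mem_sup_left hy
    · exact Subgroup.mem_sup_right (conj_mem_cj hy)
  exact ⟨_, le_pCore' (P.isPGroup'.to_le (Subgroup.normalCore_le _)) h1, rfl⟩

/-- the hypotheses of the asymmetric `L`-lemma -/
structure ALs (p : ℕ) (Y R H L : Subgroup G) : Prop where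
  rp : IsPGroup p R
  yr : Y ≤ R
  rc : R ≤ CC(Y)
  wc : WCIn p R ⊤
  nn : NN(R) ≤ NN(Y)
  asym : ¬ IsSymmetricIn Y
  hc : CharPIn p H
  rh : R ≤ H
  hmin : ∀ P, R ≤ P → P ≤ H → ¬ Y ≤ pCoreOf p P → P = H
  lh : L ≤ H
  yl : Y ≤ L
  yo : ¬ Y ≤ pCoreOf p L
  lmin : ∀ P, P ≤ L → Y ≤ P → ¬ Y ≤ pCoreOf p P → P = L

namespace ALs

variable {Y R H L : Subgroup G} (h : ALs p Y R H L)
include h

omit hp [Finite G] in
theorem yp : IsPGroup p Y := h.rp.to_le h.yr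

omit hp [Finite G] in
theorem oR : pCoreOf p H ≤ NN(R) :=
  h.wc.le_NN' h.rp le_top (isPGroup_pCoreOf H) (h.rh.trans (le_NN_pCoreOf H)) le_top

omit hp [Finite G] in
theorem sup_eq : L ⊔ R = H :=
  h.hmin _ le_sup_right (sup_le h.lh h.rh) fun e => h.yo (le_pCoreOf_of_le le_sup_left h.yl e)

omit hp [Finite G] in
theorem eq_of_subn {P : Subgroup G} (h1 : Y ≤ P) (h2 : SubnIn P L) : P = L :=
  h.lmin P h2.le h1 fun e => h.yo (e.trans h2.pCoreOf_le)

omit hp [Finite G] in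
theorem gen {g : G} (hg : g ∈ L) (hn : ¬ IsPGroup p (Y ⊔ cj g Y : Subgroup G)) :
    Y ⊔ cj g Y = L ∧ R ⊔ cj g Y = H := by
  have h1 : Y ⊔ cj g Y = L := by
    refine h.lmin _ (sup_le h.yl (cj_le_of_mem hg h.yl)) le_sup_left fun e => hn ?_
    exact (isPGroup_sup_of_NN' (isPGroup_pCoreOf _) (isPGroup_cj g h.yp)
      (le_sup_right.trans (le_NN_pCoreOf _))).to_le (sup_le_sup_right e _)
  refine ⟨h1, ?_⟩
  rw [← h.sup_eq, ← h1, sup_right_comm, sup_eq_right.2 h.yr]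

theorem exists_gen : ∃ g ∈ L, Y ⊔ cj g Y = L ∧ R ⊔ cj g Y = H ∧ R ⊔ cj g⁻¹ Y = H := by
  obtain ⟨g, hg, hn⟩ := exists_not_pgroup_cj h.yl h.yo
  refine ⟨g, hg, (h.gen hg hn).1, (h.gen hg hn).2, (h.gen (L.inv_mem hg) fun e => hn ?_).2⟩
  have := isPGroup_cj g e
  rwa [cj_sup, cj_cj_inv, sup_comm] at this

theorem charP : CharPIn p L := by
  obtain ⟨g, hg, h1, -⟩ := h.exists_gen
  refine h.hc.of_NN h.lh ?_
  rw [← h1]
  refine le_NN_sup (h.oR.trans h.nn) ?_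
  have := cj_mono g (h.oR.trans h.nn)
  rwa [cj_eq_of_mem_NN (le_NN_pCoreOf H (h.lh hg)), cj_normalizer] at this

omit hp [Finite G] in
theorem alm {V W : Subgroup G} (hc : ChF H V W) [(W.subgroupOf H).Normal] (hV : V ≤ pCoreOf p H)
    (nc : ¬ ⁅V, H⁆ ≤ W) {g : G} (hg : g ∈ L) (h1 : R ⊔ cj g Y = H) (h2 : R ⊔ cj g⁻¹ Y = H) :
    ALm p (bar H W V) (bar H W Y) (bar H W R) (QuotientGroup.mk (⟨g, h.lh hg⟩ : H)) :=
  hc.alm (hV.trans (pCoreOf_le H)) ((isPGroup_pCoreOf H).to_le hV) h.rp h.rh nc h.yr h.rc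
    (hV.trans (h.oR.trans h.nn)) (hV.trans h.oR) (h.lh hg) h1 h2

theorem star {l : G} (hl : l ∈ L) (hc : cj l Y ≤ CC(Y)) : l ∈ NN(Y) := by
  obtain ⟨g, hg, h0, h1, h2⟩ := h.exists_gen
  have hYH := h.yl.trans h.lh
  have hJ : R ⊔ Subgroup.zpowers l ≤ H := sup_le h.rh (Subgroup.zpowers_le.2 (h.lh hl))
  have hE : ncl R (R ⊔ Subgroup.zpowers l) ≤ H := (ncl_le_of_le le_sup_left).trans hJ
  have hP : IsPGroup p (ncl R (R ⊔ Subgroup.zpowers l)) := by
    refine h.hc.isPGroup_of_chf hE fun V W hW hV => ?_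
    by_cases nc : ⁅V, H⁆ ≤ W
    · exact (Subgroup.commutator_mono le_rfl ((resOf_le _).trans hE)).trans nc
    haveI := normal_subgroupOf hW.nw
    have := (h.alm hW hV nc hg h1 h2).star (l := QuotientGroup.mk (⟨l, h.lh hl⟩ : H))
      (by
        rw [← bar_cj (h.lh hg) hYH, ← bar_sup hYH (cj_le_of_mem (h.lh hg) hYH), h0]
        exact mem_bar _ hl)
      (by
        rw [← bar_cj (h.lh hl) hYH, bar_le_CC_iff (cj_le_of_mem (h.lh hl) hYH) hYH,
          comm_eq_bot.2 hc]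
        exact bot_le)
    rw [Subgroup.commutator_comm, ← bar_le_CC_iff ((resOf_le _).trans hE) (hV.trans (pCoreOf_le H)),
      bar_resOf hE, bar_ncl h.rh hJ]
    refine le_trans (resOf_mono (ncl_mono le_rfl ?_)) this
    rw [bar_le_iff hJ]
    refine sup_le ((bar_le_iff h.rh).1 le_sup_left) (Subgroup.zpowers_le.2 ?_)
    exact (mem_unbar (h.lh hl)).2 (Subgroup.mem_sup_right (Subgroup.mem_zpowers _))
  exact h.nn (mem_NN.2 (h.wc _ hP (le_ncl _ _) le_top l trivial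
    (cj_le_ncl R (Subgroup.mem_sup_right (Subgroup.mem_zpowers l)))))

theorem star' {l : G} (hl : l ∈ L) (h1 : cj l Y ≤ NN(Y)) (h2 : Y ≤ NN(cj l Y)) : l ∈ NN(Y) := by
  refine h.star hl ?_
  have := asym_le_CC h.asym l 1 (by rwa [cj_one]) (by rwa [cj_one])
  rwa [cj_one] at this

theorem le_NN_of_pgroup {T : Subgroup G} (hT : IsPGroup p T) (h1 : Y ≤ T) (h2 : T ≤ L) :
    T ≤ NN(Y) := by
  rw [← eq_of_inf_NN_le hT (P := T ⊓ NN(Y)) inf_le_left fun d hd => ?_]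
  · exact inf_le_right
  have h3 : Y ≤ T ⊓ NN(Y) := le_inf h1 (le_NN_self Y)
  refine ⟨hd.1, h.star' (h2 hd.1) ((cj_le_of_mem_NN hd.2 h3).trans inf_le_right) ?_⟩
  rw [← cj_normalizer, le_cj_iff]
  exact (cj_le_of_mem_NN (Subgroup.inv_mem _ hd.2) h3).trans inf_le_right

theorem le_NN {X : Subgroup G} (h1 : Y ≤ X) (h2 : X < L) : X ≤ NN(Y) := fun x hx => by
  have h3 : Y ≤ pCoreOf p X := by
    by_contra h3
    exact h2.ne (h.lmin X h2.le h1 h3)
  have h4 := h.le_NN_of_pgroup (isPGroup_pCoreOf X) h3 ((pCoreOf_le X).trans h2.le)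
  refine h.star' (h2.le hx) ((cj_le_of_mem_NN (le_NN_pCoreOf X hx) h3).trans h4) ?_
  rw [← cj_normalizer, le_cj_iff]
  exact (cj_le_of_mem_NN (le_NN_pCoreOf X (X.inv_mem hx)) h3).trans h4

omit hp [Finite G] in
theorem inf_lt : L ⊓ NN(Y) < L :=
  lt_of_le_of_ne inf_le_left fun e => h.yo (le_pCoreOf h.yp h.yl (e.ge.trans inf_le_right))

theorem sup_cj {x : G} (hx : x ∈ L) (hn : x ∉ NN(Y)) : cj x Y ⊔ R = H := by
  have key : ∀ x ∈ L, Y ⊔ cj x Y ≠ L → cj x Y ≤ NN(Y) := fun x hx e =>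
    le_sup_right.trans (h.le_NN le_sup_left
      (lt_of_le_of_ne (sup_le h.yl (cj_le_of_mem hx h.yl)) e))
  have h1 : Y ⊔ cj x Y = L := by
    by_contra e
    refine hn (h.star' hx (key x hx e) ?_)
    rw [← cj_normalizer, le_cj_iff]
    refine key _ (L.inv_mem hx) fun e' => e ?_
    have := congrArg (cj x) e'
    rwa [cj_sup, cj_cj_inv, cj_eq_of_mem hx, sup_comm] at this
  rw [← h.sup_eq, ← h1, sup_comm Y, sup_assoc, sup_eq_right.2 h.yr]

theorem minimalOver : IsMinimalOver (Y.subgroupOf L) := by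
  refine ⟨?_, (L ⊓ NN(Y)).subgroupOf L, ⟨⟨fun e => h.inf_lt.ne ?_, fun X hX => ?_⟩,
    Subgroup.comap_mono (le_inf h.yl (le_NN_self Y))⟩, fun X ⟨h1, h2⟩ => ?_⟩
  · apply Subgroup.map_injective L.subtype_injective
    rw [ncl_eq_map h.yl, map_top_subtype]
    exact h.eq_of_subn (le_ncl _ _) (subnIn_of_normal (ncl_le_of_le h.yl) (le_NN_ncl _ _))
  · exact le_antisymm inf_le_left (Subgroup.subgroupOf_eq_top.1 e)
  · by_contra e
    have h3 : X.map L.subtype < L := lt_of_le_of_ne (Subgroup.map_subtype_le X) fun e' =>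
      e (Subgroup.map_injective L.subtype_injective (by rw [e', map_top_subtype]))
    exact hX.not_ge (map_subtype_le_iff.1 (le_inf h3.le (h.le_NN (le_map_subtype_iff.2
      ⟨h.yl, (Subgroup.comap_mono (le_inf h.yl (le_NN_self Y))).trans hX.le⟩) h3)))
  · have h3 : X.map L.subtype < L := lt_of_le_of_ne (Subgroup.map_subtype_le X) fun e' =>
      h1.1 (Subgroup.map_injective L.subtype_injective (by rw [e', map_top_subtype]))
    refine (h1.le_iff.1 (map_subtype_le_iff.1 (le_inf h3.le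
      (h.le_NN (le_map_subtype_iff.2 ⟨h.yl, h2⟩) h3)))).resolve_left (fun e => h.inf_lt.ne ?_) |>.symm
    exact le_antisymm inf_le_left (Subgroup.subgroupOf_eq_top.1 e)

theorem noncentral {V W : Subgroup G} (hW : ChF H V W) (hV : V ≤ pCoreOf p H)
    (nc : ¬ ⁅V, H⁆ ≤ W) : ¬ ⁅V, resOf p L⁆ ≤ W := fun e => by
  obtain ⟨g, hg, -, h1, h2⟩ := h.exists_gen
  haveI := normal_subgroupOf hW.nw
  have hr := (resOf_le (p := p) L).trans h.lh
  have h3 : resOf p L ⊔ Y = L :=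
    h.eq_of_subn le_sup_right (subnIn_of_resOf_le le_sup_left (sup_le (resOf_le L) h.yl))
  refine (h.alm hW hV nc hg h1 h2).not_le_CC (X := bar H W (resOf p L)) ?_ ?_
  · rw [← bar_sup hr h.rh, ← sup_eq_right.2 h.yr, ← sup_assoc, h3, h.sup_eq, bar_self]
  · rwa [bar_le_CC_iff hr (hV.trans (pCoreOf_le H)), Subgroup.commutator_comm]

theorem ncl_le : ncl (pCoreOf p L ⊓ Y) L ≤ pCoreOf p H := by
  obtain ⟨g, hg, -, h1, h2⟩ := h.exists_gen
  have hYH := h.yl.trans h.lh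
  have hD : pCoreOf p L ⊓ Y ≤ H := inf_le_right.trans hYH
  have hE := ncl_le_of_le hD
  refine (ncl_mono le_rfl h.lh).trans (le_pCoreOf ?_ hE (le_NN_ncl _ _))
  refine h.hc.isPGroup_of_chf hE fun V W hW hV => ?_
  refine (Subgroup.commutator_mono le_rfl (resOf_le _)).trans ?_
  by_cases nc : ⁅V, H⁆ ≤ W
  · exact (Subgroup.commutator_mono le_rfl hE).trans nc
  haveI := normal_subgroupOf hW.nw
  rw [Subgroup.commutator_comm]
  refine comm_ncl_le ?_ (hD.trans hW.nw) hW.nv hW.nw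
  rw [← bar_le_CC_iff hD (hV.trans (pCoreOf_le H))]
  refine (h.alm hW hV nc hg h1 h2).le_CC (bar_mono inf_le_right) ?_
  rw [← bar_cj (h.lh hg) hYH]
  refine bar_le_NN (cj_le_of_mem (h.lh hg) hYH) (inf_le_left.trans ?_)
  have h3 : pCoreOf p L ≤ NN(Y) := le_sup_left.trans (h.le_NN_of_pgroup
    (isPGroup_sup_of_NN' (isPGroup_pCoreOf L) h.yp (h.yl.trans (le_NN_pCoreOf L))) le_sup_right
    (sup_le (pCoreOf_le L) h.yl))
  have := cj_mono g h3
  rwa [cj_eq_of_mem_NN (le_NN_pCoreOf L hg), cj_normalizer] at this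

end ALs

end H10
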