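import Cfsg.Agent.H10.N9
import Cfsg.Agent.H10.K3
import Cfsg.Agent.H13.MaxCl
import Cfsg.Agent.S3888
import Cfsg.Agent.S4208

/-!
Elements of odd order acting on an elementary abelian `2`-group with commutator space of order `4`.
-/

set_option autoImplicit false

namespace H10
namespace Bf

open Cfsg Subgroup
open scoped commutatorElement

section bits

variable {A : Type*} [CommGroup A]

/-- coordinates -/
def ph (a b c d : A) (n : ℕ) : A := (bif n.testBit 0 then a else 1) *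
  (bif n.testBit 1 then b else 1) * (bif n.testBit 2 then c else 1) * (bif n.testBit 3 then d else 1)

/-- a matrix acting on bit vectors -/
def ap (a b c d n : ℕ) : ℕ := (bif n.testBit 0 then a else 0) ^^^
  (bif n.testBit 1 then b else 0) ^^^ (bif n.testBit 2 then c else 0) ^^^
  (bif n.testBit 3 then d else 0)

/-- a certificate for even order -/
def chk (W : ℕ → ℕ) : Bool := [1, 2, 4, 8].all (fun i => W^[12] i == i) &&
  [1, 2, 4, 8].any fun i => (List.range 4).any fun j => (W^[3] i ^^^ i).testBit j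

/-- four words -/
def chk2 (X Y : ℕ → ℕ) : Bool :=
  chk (X ∘ Y) || chk (X ∘ X ∘ Y) || chk (X ∘ X ∘ Y ∘ X ∘ Y) || chk (X ∘ Y ∘ X ∘ Y ∘ Y)

set_option synthInstance.maxSize 4096 in
theorem dec : ∀ k < 4, ∀ k' < 4, ∀ l < 4, ∀ l' < 4, (l = 0 ∧ l' = 0) ∨
    chk2 (ap 2 3 (4 ^^^ k) (8 ^^^ k')) (ap (1 ^^^ 4 * l) (2 ^^^ 4 * l') 8 12) = true := by
  decide +kernel

theorem ph_xor (h2 : ∀ a : A, a * a = 1) (a b c d : A) (m n : ℕ) :
    ph a b c d (m ^^^ n) = ph a b c d m * ph a b c d n := by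
  have k : ∀ (g : A) (p q : Bool), (bif (p ^^ q) then g else 1) =
      (bif p then g else 1) * (bif q then g else 1) := fun g p q => by
    cases p <;> cases q <;> simp [h2]
  simp only [ph, Nat.testBit_xor, k]
  ac_rfl

theorem core (h2 : ∀ a : A, a * a = 1) {Γ : Type*} [Group Γ] (ρ : Γ →* MulAut A)
    (hodd : ∀ g : Γ, Odd (orderOf g)) {x y : Γ} {a b c d : A}
    (inj : ∀ n, ph a b c d n = 1 → ∀ j < 4, n.testBit j = false) {k k' l l' : ℕ} (hk : k < 4)
    (hk' : k' < 4) (hl : l < 4) (hl' : l' < 4) (x0 : ρ x a = ph a b c d 2)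
    (x1 : ρ x b = ph a b c d 3) (x2 : ρ x c = ph a b c d (4 ^^^ k))
    (x3 : ρ x d = ph a b c d (8 ^^^ k')) (y0 : ρ y a = ph a b c d (1 ^^^ 4 * l))
    (y1 : ρ y b = ph a b c d (2 ^^^ 4 * l')) (y2 : ρ y c = ph a b c d 8)
    (y3 : ρ y d = ph a b c d 12) : l = 0 ∧ l' = 0 := by
  let R : Γ → (ℕ → ℕ) → Prop := fun g f => ∀ n, ρ g (ph a b c d n) = ph a b c d (f n)
  have r1 : ∀ {g p q r s}, ρ g a = ph a b c d p → ρ g b = ph a b c d q → ρ g c = ph a b c d r →
      ρ g d = ph a b c d s → R g (ap p q r s) := fun {g p q r s} e1 e2 e3 e4 n => by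
    have k : ∀ (u : A) (m : ℕ) (t : Bool), ρ g u = ph a b c d m →
        ρ g (bif t then u else 1) = ph a b c d (bif t then m else 0) := fun u m t e => by
      cases t
      · simp [ph]
      · exact e
    rw [ap, ph_xor h2, ph_xor h2, ph_xor h2, ← k _ _ _ e1, ← k _ _ _ e2, ← k _ _ _ e3,
      ← k _ _ _ e4, ← map_mul, ← map_mul, ← map_mul]
    rfl
  have r2 : ∀ {g h f f'}, R g f → R h f' → R (g * h) (f ∘ f') := fun e e' n => by
    rw [map_mul, MulAut.mul_apply, e', e]; rfl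
  have r3 : ∀ {g f}, R g f → ∀ m, R (g ^ m) f^[m] := fun {g f} e m => by
    induction m with
    | zero => intro n; simp
    | succ m ih => rw [pow_succ]; exact r2 ih e
  have r4 : ∀ {g f}, R g f → chk f = false := fun {g f} e => by
    by_contra h
    simp only [chk, Bool.not_eq_false, Bool.and_eq_true, List.all_eq_true, List.any_eq_true,
      beq_iff_eq, List.mem_range] at h
    obtain ⟨h1, i, hi, j, hj, h3⟩ := h
    have h4 : g ^ 3 ∈ (MulAction.stabilizer (MulAut A) (ph a b c d i)).comap ρ :=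
      mem_of_pow_mem (n := 4) (Nat.Coprime.pow_right 2 (Nat.coprime_two_right.2 (hodd _))) (by
        rw [← pow_mul]
        exact (r3 e 12 i).trans (by rw [h1 i hi]))
    have h5 := (r3 e 3 i).symm.trans h4
    rw [inj _ (by rw [ph_xor h2, h5, h2]) j hj] at h3
    exact absurd h3 (by simp)
  have X := r1 x0 x1 x2 x3
  have Y := r1 y0 y1 y2 y3
  refine (dec k hk k' hk' l hl l' hl').resolve_right ?_
  simp [chk2, r4 (r2 X Y), r4 (r2 X (r2 X Y)), r4 (r2 X (r2 X (r2 Y (r2 X Y)))),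
    r4 (r2 X (r2 Y (r2 X (r2 Y Y))))]

end bits

variable {G : Type*} [Group G] [Finite G]

/-- `x ∈ H` acts on `M` with commutator space the four-group `V` -/
structure Tr (M H V : Subgroup G) (x : G) : Prop where
  mem : x ∈ H
  le : V ≤ M
  four : IsKleinFour V
  comm : ∀ m ∈ M, x * m * x⁻¹ * m⁻¹ ∈ V
  ne : x ∉ CC(V)

variable {M H V W U : Subgroup G} {x y z : G}

theorem Tr.nn (h : Tr M H V x) : x ∈ NN(V) := mem_NN_of_conj_mem fun v hv => by
  simpa using mul_mem (h.comm v (h.le hv)) hv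

omit [Finite G] in
theorem Tr.cnj [M.Normal] (h : Tr M H V x) {g : G} (hg : g ∈ H) : Tr M H (cj g V) (g * x * g⁻¹) where
  mem := mul_mem (mul_mem hg h.mem) (inv_mem hg)
  le := (cj_mono g h.le).trans (cj_eq_of_normal g M).le
  four := H6.isKleinFour_map_conj h.four g
  comm m hm := mem_cj.2 (by
    have := h.comm (g⁻¹ * m * g) (by simpa using Normal.conj_mem inferInstance m hm g⁻¹)
    simpa [mul_assoc] using this)
  ne := by rw [← cj_centralizer, conj_mem_cj_iff]; exact h.ne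

theorem odd_of (hH : Odd (Nat.card H)) (hx : x ∈ H) : Odd (orderOf x) :=
  hH.of_dvd_nat (orderOf_dvd_natCard H hx)

theorem Tr.pair [M.Normal] (hM : IsElementaryAbelian 2 M) (hH : Odd (Nat.card H))
    (h : Tr M H V x) (h' : Tr M H W y) (h0 : V ⊓ W = ⊥) : y ∈ CC(V) := by
  letI : CommGroup M := haveI := hM.1; IsMulCommutative.instCommGroup
  have h2 : ∀ a : M, a * a = 1 := fun a => Subtype.ext ((sq (a : G)).symm.trans (hM.2 a a.2))
  have bas : ∀ {V x}, Tr M H V x → ∃ a b : M, a ≠ 1 ∧ b ≠ 1 ∧ a * b ≠ 1 ∧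
      MulAut.conjNormal x a = b ∧ MulAut.conjNormal x b = a * b ∧
      ∀ u : M, (u : G) ∈ V ↔ u = 1 ∨ u = a ∨ u = b ∨ u = a * b := fun {V x} h => by
    obtain ⟨t, t', ot, -, -, -, ht⟩ := H6.kleinFour_elts h.four
    have t1 := H6.ord2_ne_one ot
    have tV := (ht t).2 (by simp)
    have o := odd_of hH h.mem
    have tV' := (mem_normalizer_iff.1 h.nn t).1 tV
    have n1 : x * t * x⁻¹ ≠ 1 := by simpa using t1
    have n2 := H6.four_odd_ne h.four o h.nn h.ne tV t1
    refine ⟨⟨t, h.le tV⟩, ⟨_, h.le tV'⟩, fun e => t1 (congrArg Subtype.val e),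
      fun e => n1 (congrArg Subtype.val e), fun e => n2 ?_, rfl,
      Subtype.ext (H6.four_odd_cycle h.four o h.nn h.ne tV t1), fun u => ?_⟩
    · rw [← inv_eq_of_mul_eq_one_right (show t * (x * t * x⁻¹) = 1 from congrArg Subtype.val e),
        inv_eq_of_mul_eq_one_left (H6.kleinFour_mul_self h.four tV)]
    · simp only [H6.kleinFour_mem_iff h.four tV tV' t1 n1 n2.symm, Subtype.ext_iff]
      rfl
  obtain ⟨a, b, a1, b1, ab, xa, xb, hV⟩ := bas h
  obtain ⟨c, d, c1, d1, cd, yc, yd, hW⟩ := bas h'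
  have pV : ∀ u : M, (u : G) ∈ V → ∃ k < 4, u = ph a b c d k := fun u hu => by
    rcases (hV u).1 hu with rfl | rfl | rfl | rfl
    exacts [⟨0, by norm_num, by simp [ph]⟩, ⟨1, by norm_num, by simp [ph, Nat.testBit]⟩,
      ⟨2, by norm_num, by simp [ph, Nat.testBit]⟩, ⟨3, by norm_num, by simp [ph, Nat.testBit]⟩]
  have pW : ∀ u : M, (u : G) ∈ W → ∃ k < 4, u = ph a b c d (4 * k) := fun u hu => by
    rcases (hW u).1 hu with rfl | rfl | rfl | rfl
    exacts [⟨0, by norm_num, by simp [ph]⟩, ⟨1, by norm_num, by simp [ph, Nat.testBit]⟩,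
      ⟨2, by norm_num, by simp [ph, Nat.testBit]⟩, ⟨3, by norm_num, by simp [ph, Nat.testBit]⟩]
  have cm : ∀ {V x}, Tr M H V x → ∀ u : M, ((MulAut.conjNormal x u * u⁻¹ : M) : G) ∈ V :=
    fun h u => h.comm u u.2
  obtain ⟨k, hk, e1⟩ := pV _ (cm h c)
  obtain ⟨k', hk', e2⟩ := pV _ (cm h d)
  obtain ⟨l, hl, e3⟩ := pW _ (cm h' a)
  obtain ⟨l', hl', e4⟩ := pW _ (cm h' b)
  rw [mul_inv_eq_iff_eq_mul, mul_comm] at e1 e2 e3 e4
  obtain ⟨rfl, rfl⟩ := core h2 (MulAut.conjNormal.comp H.subtype) (x := ⟨x, h.mem⟩)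
    (y := ⟨y, h'.mem⟩) (a := a) (b := b) (c := c) (d := d)
    (fun g => by rw [← orderOf_coe]; exact odd_of hH g.2) (fun n e => by
      rw [ph, mul_assoc, mul_eq_one_iff_eq_inv] at e
      have m1 : (((bif n.testBit 0 then a else 1) * (bif n.testBit 1 then b else 1) : M) : G) ∈ V :=
        (hV _).2 (by cases n.testBit 0 <;> cases n.testBit 1 <;> simp)
      have m2 : (((bif n.testBit 2 then c else 1) * (bif n.testBit 3 then d else 1) : M) : G) ∈ W :=
        (hW _).2 (by cases n.testBit 2 <;> cases n.testBit 3 <;> simp)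
      have m3 := Subtype.ext (a2 := (1 : M)) (h0.le ⟨m1, by rw [e]; exact W.inv_mem m2⟩)
      rw [m3, eq_comm, inv_eq_one] at e
      intro j hj
      revert m3 e
      interval_cases j <;> cases n.testBit 0 <;> cases n.testBit 1 <;> cases n.testBit 2 <;>
        cases n.testBit 3 <;> simp [a1, b1, ab, c1, d1, cd]) hk hk' hl hl'
    (xa.trans (by simp [ph, Nat.testBit])) (xb.trans (by simp [ph, Nat.testBit]))
    (e1.trans (by rw [ph_xor h2]; simp [ph, Nat.testBit]))
    (e2.trans (by rw [ph_xor h2]; simp [ph, Nat.testBit]))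
    (e3.trans (by rw [ph_xor h2]; simp [ph, Nat.testBit]))
    (e4.trans (by rw [ph_xor h2]; simp [ph, Nat.testBit]))
    (yc.trans (by simp [ph, Nat.testBit])) (yd.trans (by simp [ph, Nat.testBit]))
  simp only [ph, mul_zero, Nat.zero_testBit, cond_false, mul_one] at e3 e4
  refine mem_CC.2 fun v hv => (mul_inv_eq_iff_eq_mul.1 ?_).symm
  refine congrArg Subtype.val (show MulAut.conjNormal y (⟨v, h.le hv⟩ : M) = ⟨v, h.le hv⟩ from ?_)
  rcases (hV ⟨v, h.le hv⟩).1 hv with e | e | e | e <;> simp [e, e3, e4]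

end Bf
end H10
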