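import Cfsg.Agent.H10.Bf1
import Cfsg.Agent.S0100

/-!
Blocks of conjugate four-groups `[M, x]`.
-/

set_option autoImplicit false

namespace H10
namespace Bf

open Cfsg Subgroup
open scoped commutatorElement

theorem idx27 {P : Type*} [Group P] [Finite P] (hP : IsPGroup 3 P) (hr : PRankLE 3 2 P)
    (N : Subgroup P) [N.Normal] (h1 : commutator P ≤ N) (h2 : ∀ x, x ^ 3 ∈ N) : N.index ≤ 27 := by
  haveI : Fact (Nat.Prime 3) := ⟨Nat.prime_three⟩
  have gen : ∀ x y z : P, closure {x, y, z} = ⊤ → N.index ≤ 27 := fun x y z h => by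
    let f := QuotientGroup.mk' N
    haveI : IsMulCommutative (P ⧸ N) := Normal.quotient_commutative_iff_commutator_le.2 h1
    have c : ∀ A B : Subgroup (P ⧸ N), Nat.card (A ⊔ B : Subgroup _) ≤ Nat.card A * Nat.card B :=
      fun A B => card_sup_mul_card_inf (le_NN_of_normal A B) ▸ Nat.le_mul_of_pos_right _ Nat.card_pos
    have d : ∀ x, Nat.card (zpowers (f x)) ≤ 3 := fun x => by
      rw [Nat.card_zpowers]
      exact orderOf_le_of_pow_eq_one (by norm_num)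
        (by rw [← map_pow]; exact (QuotientGroup.eq_one_iff _).2 (h2 x))
    have e : (⊤ : Subgroup (P ⧸ N)) ≤ zpowers (f x) ⊔ (zpowers (f y) ⊔ zpowers (f z)) := by
      rw [← map_top_of_surjective f (QuotientGroup.mk'_surjective N), ← h, map_le_iff_le_comap,
        closure_le]
      rintro _ (rfl | rfl | rfl)
      exacts [mem_sup_left (mem_zpowers _), mem_sup_right (mem_sup_left (mem_zpowers _)),
        mem_sup_right (mem_sup_right (mem_zpowers _))]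
    rw [index_eq_card, ← card_top]
    exact (card_le_of_le e).trans ((c _ _).trans (Nat.mul_le_mul (d x)
      ((c _ _).trans (Nat.mul_le_mul (d y) (d z)))))
  obtain ⟨n, hn⟩ := IsPGroup.iff_card.1 hP
  rcases Cfsg.Agent.S3888.result (by norm_num) n hn hr with ⟨K, _, k1, k2⟩ |
    ⟨-, x, y, z, h, -⟩ | ⟨-, -, x, y, z, -, h, -⟩ | ⟨-, h3, h⟩
  · obtain ⟨a, ha⟩ := k1.exists_generator
    obtain ⟨b, hb⟩ := k2.exists_generator
    obtain ⟨b, rfl⟩ := QuotientGroup.mk_surjective b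
    refine gen a b 1 (eq_top_iff.2 fun g _ => ?_)
    obtain ⟨i, hi⟩ := mem_zpowers_iff.1 (hb g)
    obtain ⟨j, hj⟩ := mem_zpowers_iff.1 (ha ⟨_, QuotientGroup.eq.1 hi⟩)
    rw [show g = b ^ i * (a : P) ^ j by rw [← coe_zpow, hj]; simp]
    exact mul_mem (zpow_mem (subset_closure (by simp)) i) (zpow_mem (subset_closure (by simp)) j)
  · exact gen x y z h
  · exact gen x y z h
  · have h4 : Nat.card (commutator P) = _ := (H13.MC.of_class hn h3 h).2 1 le_rfl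
    have h5 := (commutator P).card_mul_index
    obtain ⟨m, rfl⟩ := Nat.exists_eq_add_of_le' h3
    rw [h4, hn, show m + 2 - 1 - 1 = m by omega, pow_add] at h5
    have := index_antitone h1
    rw [Nat.eq_of_mul_eq_mul_left (by positivity) h5] at this
    omega

variable {G : Type*} [Group G] [Finite G] {M H V W U : Subgroup G} {x y z : G}

omit [Finite G] in
theorem ex_ne (h : V ⊓ W ≠ ⊥) : ∃ t, (t ∈ V ∧ t ∈ W) ∧ t ≠ 1 :=
  (bot_or_exists_ne_one _).resolve_left h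

variable [M.Normal] (hM : IsElementaryAbelian 2 M) (hH : Odd (Nat.card H))
include hM hH

theorem Tr.trans (h1 : Tr M H V x) (h2 : Tr M H W y) (h3 : Tr M H U z) (a : V ⊓ W ≠ ⊥)
    (b : W ⊓ U ≠ ⊥) : V ⊓ U ≠ ⊥ := by
  intro h0
  obtain ⟨u, ⟨uV, uW⟩, u1⟩ := ex_ne a
  obtain ⟨w, ⟨wW, wU⟩, w1⟩ := ex_ne b
  have k : ∀ s ∈ V, s ∈ U → s = 1 := fun s a b => h0.le ⟨a, b⟩
  have uw : u ≠ w := fun e => u1 (k u uV (e ▸ wU))
  have hm := H6.kleinFour_mem_iff h2.four uW wW u1 w1 uw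
  have oy := odd_of hH h2.mem
  obtain ⟨n, n1, n2, n3⟩ : ∃ n ∈ H, n * u * n⁻¹ = u * w ∧ ∀ m ∈ M, n * m * n⁻¹ * m⁻¹ ∈ W := by
    rcases (hm _).1 ((mem_normalizer_iff.1 h2.nn u).1 uW) with e | e | e | e
    · exact absurd (by simpa using e) u1
    · exact absurd e (H6.four_odd_ne h2.four oy h2.nn h2.ne uW u1)
    · refine ⟨y * y, mul_mem h2.mem h2.mem, ?_, fun m hm => ?_⟩
      · rw [← e, ← H6.four_odd_cycle h2.four oy h2.nn h2.ne uW u1]; group
      · have := mul_mem (h2.comm _ (Normal.conj_mem inferInstance m hm y)) (h2.comm m hm)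
        simpa [mul_assoc] using this
    · exact ⟨y, h2.mem, e, h2.comm⟩
  by_cases h4 : cj n V ⊓ U = ⊥
  · have c1 := mem_CC.1 ((h1.cnj n1).pair hM hH h3 h4) _ (n2 ▸ conj_mem_cj uV)
    have c2 := mem_CC.1 (h1.pair hM hH h3 h0) _ uV
    refine H6.four_odd_ne h3.four (odd_of hH h3.mem) h3.nn h3.ne wU w1 ?_
    rw [mul_assoc, ← mul_assoc z, ← c2, mul_assoc, mul_right_inj] at c1
    rw [← c1, mul_inv_cancel_right]
  obtain ⟨_, ⟨ht, tU⟩, t1⟩ := ex_ne h4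
  obtain ⟨s, sV, rfl⟩ := mem_cj'.1 ht
  have s1 : s ≠ 1 := by simpa using t1
  rcases (hm _).1 (n3 s (h1.le sV)) with e | e | e | e <;> rw [mul_inv_eq_iff_eq_mul] at e
  · exact s1 (k s sV (by rwa [e, one_mul] at tU))
  · exact t1 (k _ (e ▸ mul_mem uV sV) tU)
  · exact s1 (k s sV ((mul_mem_cancel_left wU).1 (e ▸ tU)))
  · have e2 := k _ (mul_mem uV sV) ((mul_mem_cancel_left wU).1 (by
      rwa [← mul_assoc, ← (H6.kleinFour_commute h2.four uW wW).eq, ← e]))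
    obtain rfl := eq_inv_of_mul_eq_one_right e2
    have := inv_mem tU
    rw [conj_inv, inv_inv, n2] at this
    exact u1 (k u uV ((mul_mem_cancel_right wU).1 this))

theorem Tr.le_sup (h1 : Tr M H V x) (h2 : Tr M H W y) (h3 : Tr M H U z) (a : V ⊓ W ≠ ⊥)
    (b : V ⊓ U ≠ ⊥) (hne : V ≠ W) : U ≤ V ⊔ W := by
  have k : ∀ {U S : Subgroup G}, IsKleinFour U → ∀ t ∈ U ⊓ S, ∀ t' ∈ U ⊓ S, t ≠ 1 → t' ≠ 1 →
      t ≠ t' → U ≤ S := fun h t ht t' ht' t1 t2 e g hg => by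
    rcases (H6.kleinFour_mem_iff h ht.1 ht'.1 t1 t2 e g).1 hg with rfl | rfl | rfl | rfl
    exacts [one_mem _, ht.2, ht'.2, mul_mem ht.2 ht'.2]
  by_contra h
  have k' : ∀ t ∈ U ⊓ (V ⊔ W), ∀ t' ∈ U ⊓ (V ⊔ W), t ≠ 1 → t' ≠ 1 → t = t' :=
    fun t ht t' ht' t1 t2 => by_contra fun e => h (k h3.four t ht t' ht' t1 t2 e)
  obtain ⟨u, ⟨uV, uU⟩, u1⟩ := ex_ne b
  obtain ⟨w, ⟨wW, wU⟩, w1⟩ := ex_ne (h2.trans hM hH h1 h3 (by rwa [inf_comm]) b)
  obtain rfl := k' u ⟨uU, mem_sup_left uV⟩ w ⟨wU, mem_sup_right wW⟩ u1 w1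
  have u2 : x * u * x⁻¹ ≠ 1 := by simpa using u1
  have uV' := (mem_normalizer_iff.1 h1.nn u).1 uV
  have h4 := h2.cnj h1.mem
  obtain ⟨t, ⟨tW, tU⟩, t1⟩ := ex_ne (h4.trans hM hH h1 h3
    (fun e => u2 (e.le ⟨conj_mem_cj wW, uV'⟩)) b)
  obtain rfl := k' u ⟨uU, mem_sup_left uV⟩ t ⟨tU, cj_le_of (fun s hs => by
    simpa using mul_mem (mem_sup_left (h1.comm s (h2.le hs))) (mem_sup_right hs)) tW⟩ u1 t1
  have h5 := H5.eq_of_le_of_card_le (k h1.four u ⟨uV, tW⟩ _ ⟨uV', conj_mem_cj wW⟩ u1 u2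
    (H6.four_odd_ne h1.four (odd_of hH h1.mem) h1.nn h1.ne uV u1).symm)
    (by rw [h1.four.card_four, h4.four.card_four])
  exact hne (cj_inj.1 ((cj_eq_of_mem_NN h1.nn).trans h5))

theorem Tr.noncyc (h : Tr M H V x) {r : ℕ} (hr : r.Prime) (hr2 : r ≠ 2) {F : Subgroup G}
    (hF : F ≤ H) (hE : IsElementaryAbelian r F) (h3 : Nat.card F = r ^ 3)
    (hf : ∀ f ∈ F, V ⊓ cj f V ≠ ⊥) : ¬ IsCyclic (F ⊓ CC(V) : Subgroup G) := by
  haveI := Fact.mk hr
  obtain ⟨W, h1, h2⟩ : ∃ W, V ≤ W ∧ CC(W).relIndex F ∣ 168 := by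
    by_cases h0 : F ≤ NN(V)
    · exact ⟨V, le_rfl, (H6.four_relIndex_dvd h.four h0).trans (by norm_num)⟩
    obtain ⟨f, f1, f2⟩ := SetLike.not_le_iff_exists.1 h0
    have f3 : V ≠ cj f V := fun e => f2 (mem_NN.2 e.symm)
    have h4 := h.cnj (hF f1)
    have e : ncl V F = V ⊔ cj f V := le_antisymm (ncl_le_iff.2 fun g hg =>
      h.le_sup hM hH h4 (h.cnj (hF hg)) (hf f f1) (hf g hg) f3)
      (sup_le (le_ncl _ _) (cj_le_ncl _ f1))
    have hW := elab_of_le hM (sup_le h.le h4.le)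
    refine ⟨_, le_sup_left, (relIndex_CC_dvd (e ▸ le_NN_ncl V F)).trans
      (Cfsg.Agent.S4208.result (p := 2) (n := 3) (r := 3) ?_ ?_)⟩
    on_goal 2 =>
      haveI := hW.1
      rw [le_bot_iff.1 (H3.frattini_le_of (p := 2) (commutator_eq_bot _).le
        fun x => Subtype.ext (hW.2 x x.2)), index_bot]
    all_goals
      have h5 := card_sup_mul_card_inf (L := V) (N := cj f V) (h.le.trans ((elab_le_CC hM).trans
        ((CC_anti h4.le).trans (CC_le_NN _))))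
      have h6 := (one_lt_card_iff_ne_bot _).2 (hf f f1)
      have h7 := card_lt_of_lt (inf_lt_left.2 fun h' => f3 (H5.eq_of_le_of_card_le h'
        (card_cj f V).le))
      have h8 := card_dvd_of_le (inf_le_left : V ⊓ cj f V ≤ V)
      rw [card_cj, h.four.card_four] at *
      generalize Nat.card (V ⊓ cj f V : Subgroup G) = m at *
      interval_cases m <;> omega
  obtain ⟨k, hk⟩ := relIndex_pow_of_isPGroup (elab_isPGroup hE) CC(W)
  have hk1 : k ≤ 1 := by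
    by_contra! h4
    have h5 : r ^ 2 ∣ 2 ^ 3 * 21 := (pow_dvd_pow r h4).trans (hk ▸ h2)
    have h6 := (((Nat.coprime_primes hr Nat.prime_two).2 hr2).pow 2 3).dvd_of_dvd_mul_left h5
    have h7 := hr.two_le
    have h8 : r ≤ 4 := by nlinarith [Nat.le_of_dvd (by norm_num) h6]
    interval_cases r <;> omega
  intro hc
  have h4 := card_inf_mul_relIndex CC(W) F
  have h5 : Nat.card (F ⊓ CC(V) : Subgroup G) ≤ r := Nat.le_of_dvd hr.pos (by
    rw [← IsCyclic.exponent_eq_card]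
    exact Monoid.exponent_dvd_of_forall_pow_eq_one fun g => Subtype.ext (hE.2 g g.2.1))
  have h6 := (card_le_of_le (show CC(W) ⊓ F ≤ F ⊓ CC(V) from
    le_inf inf_le_right (inf_le_left.trans (CC_anti h1)))).trans h5
  have h7 := Nat.mul_le_mul h6 (hk ▸ Nat.pow_le_pow_right hr.pos hk1)
  rw [h4, h3, ← pow_succ'] at h7
  have := (Nat.pow_le_pow_iff_right hr.one_lt).1 h7
  omega

omit [M.Normal] hM in
theorem rel3 (hV : IsKleinFour V) {A : Subgroup G} (hA : A ≤ H) (hn : A ≤ NN(V)) :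
    (∀ g ∈ A, g ^ 3 ∈ CC(V)) ∧ commutator A ≤ CC(V).subgroupOf A := by
  haveI : Fact (Nat.Prime 3) := ⟨Nat.prime_three⟩
  haveI := normal_subgroupOf (hn.trans (NN_le_NN_CC V))
  have h1 : CC(V).relIndex A ∣ 3 := (Nat.coprime_two_right.2 (hH.of_dvd_nat
    ((relIndex_dvd_card _ _).trans (card_dvd_of_le hA)))).dvd_of_dvd_mul_left
    (H6.four_relIndex_dvd hV hn)
  refine ⟨fun g hg => ?_, Normal.quotient_commutative_iff_commutator_le.1 ?_⟩
  · obtain ⟨c, hc⟩ := h1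
    rw [hc, pow_mul]
    exact pow_mem ((CC(V).subgroupOf A).pow_index_mem ⟨g, hg⟩) c
  · haveI := isCyclic_of_card_dvd_prime (α := A ⧸ CC(V).subgroupOf A) h1
    infer_instance

omit [M.Normal] hM hH in
theorem step3 {A B D : Subgroup G} (hA : IsPGroup 3 A) (hB : B ≤ A) (h : ¬ B ≤ D) :
    3 * B.relIndex A ≤ (B ⊓ D).relIndex A := by
  haveI : Fact (Nat.Prime 3) := ⟨Nat.prime_three⟩
  obtain ⟨k, hk⟩ := relIndex_pow_of_isPGroup (hA.to_le hB) (B ⊓ D)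
  rw [← relIndex_mul_relIndex _ _ _ inf_le_left hB, hk]
  refine Nat.mul_le_mul_right _ (Nat.le_self_pow ?_ 3)
  rintro rfl
  exact h ((relIndex_eq_one.1 hk).trans inf_le_right)

theorem Tr.main (h : Tr M H V x) (hx : IsPGroup 3 (zpowers x)) {p : ℕ} (hp : p.Prime)
    (hp2 : p ≠ 2) {E : Subgroup G} (hEH : E ≤ H) (hE : IsElementaryAbelian p E)
    (hE3 : Nat.card E = p ^ 3) : ∃ (r : ℕ) (F : Subgroup G), r.Prime ∧ r ≠ 2 ∧
      IsElementaryAbelian r F ∧ Nat.card F = r ^ 3 ∧ ¬ IsCyclic (F ⊓ CC(V) : Subgroup G) := by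
  haveI : Fact (Nat.Prime 3) := ⟨Nat.prime_three⟩
  obtain ⟨P, hP, hxP⟩ := exists_isSylowIn_ge hx (zpowers_le.2 h.mem)
  by_cases h3 : ∀ A : Subgroup P, A.Normal → IsMulCommutative A → (∀ a ∈ A, a ^ 3 = 1) →
    Nat.card A ≠ 3 ^ 3
  swap
  · push Not at h3
    obtain ⟨A, An, Ac, Ae, A3⟩ := h3
    have hF := elab_map (p := 3) P.subtype ⟨Ac, Ae⟩
    have hFH := (map_subtype_le A).trans hP.le
    have hc := (card_map_subtype A).trans A3
    refine ⟨3, _, Nat.prime_three, by norm_num, hF, hc,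
      h.noncyc hM hH Nat.prime_three (by norm_num) hFH hF hc fun f hf h0 => h.ne ?_⟩
    have c1 := h.pair hM hH (h.cnj (hFH hf)) h0
    have c2 := h.pair hM hH (h.cnj (hFH (mul_mem hf hf))) (by
      rwa [← cj_eq_bot (g := f * f), cj_inf, ← cj_mul, ← pow_two, ← pow_succ, hF.2 f hf, cj_one,
        inf_comm, pow_two] at h0)
    have c3 := mem_CC.1 (elab_le_CC hF hf) _ (mul_mem hf ((mem_normalizer_iff.1
      (le_NN_map_subtype A (hxP (mem_zpowers x))) _).1 (inv_mem hf)))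
    have : x = f * x * f⁻¹ * (f * f * x * (f * f)⁻¹)⁻¹ * (f * x * f⁻¹) := by
      calc x = (f * (x * f⁻¹ * x⁻¹) * f * f⁻¹)⁻¹ * (f * x * f⁻¹) := by group
        _ = _ := by rw [c3]; group
    rw [this]
    exact mul_mem (mul_mem c1 (inv_mem c2)) c1
  have hr : ∀ D ≤ H, IsElementaryAbelian 3 D → Nat.card D ≤ 3 ^ 2 := fun D h1 h2 => by
    obtain ⟨g, -, hg⟩ := hP.exists_cj_le (elab_isPGroup h2) h1
    have h4 := elab_subgroupOf (elab_cj g h2) P
    rw [← card_cj g, ← card_subgroupOf_of_le hg]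
    exact Cfsg.Agent.S0100.result (by norm_num) hP.isPGroup h3 _ h4.1 h4.2
  have hp3 : p ≠ 3 := by
    rintro rfl
    have := hr E hEH hE
    omega
  by_cases h4 : ∀ f ∈ E, V ⊓ cj f V ≠ ⊥
  · exact ⟨p, E, hp, hp2, hE, hE3, h.noncyc hM hH hp hp2 hEH hE hE3 h4⟩
  exfalso
  push Not at h4
  obtain ⟨e, he, h0⟩ := h4
  let K : Subgroup G :=
    { carrier := {g | g ∈ H ∧ V ⊓ cj g V ≠ ⊥}
      one_mem' := ⟨one_mem _, by
        rw [cj_one, inf_idem]; exact fun e => h.ne (by rw [e, CC_bot]; trivial)⟩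
      mul_mem' := fun {a b} ha hb => ⟨mul_mem ha.1 hb.1, h.trans hM hH (h.cnj ha.1)
        (h.cnj (mul_mem ha.1 hb.1)) ha.2 (by rw [cj_mul, ← cj_inf, Ne, cj_eq_bot]; exact hb.2)⟩
      inv_mem' := fun {a} ha => ⟨inv_mem ha.1, by
        rw [Ne, ← cj_eq_bot (g := a), cj_inf, cj_cj_inv, inf_comm]; exact ha.2⟩ }
  have T : ∀ i : ℕ, Tr M H (cj (e ^ i) V) _ := fun i => h.cnj (pow_mem (hEH he) i)
  have d0 : ∀ i j : ℕ, i < j → j < 4 → cj (e ^ i) V ⊓ cj (e ^ j) V = ⊥ := fun i j h1 h2 => by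
    obtain ⟨k, rfl⟩ := Nat.exists_eq_add_of_lt h1
    by_contra h5
    rw [add_assoc, pow_add, cj_mul, ← cj_inf, cj_eq_bot] at h5
    have h6 := hp.two_le
    refine (mem_of_pow_mem (N := K) (Nat.Coprime.coprime_dvd_left (orderOf_dvd_of_pow_eq_one
      (hE.2 e he)) ((Nat.coprime_of_lt_prime (by omega) (by omega) hp)))
      ⟨pow_mem (hEH he) _, h5⟩).2 h0
  have d : ∀ i < 4, ∀ j < 4, i ≠ j → e ^ i * x * (e ^ i)⁻¹ ∈ CC(cj (e ^ j) V) :=
    fun i hi j hj hij => (T j).pair hM hH (T i) (by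
      rcases lt_or_gt_of_ne hij with h1 | h1
      exacts [(inf_comm _ _).trans (d0 i j h1 hj), d0 j i h1 hi])
  let J := H ⊓ ⨅ j < 4, NN(cj (e ^ j) V)
  have hJ : ∀ j < 4, J ≤ NN(cj (e ^ j) V) := fun j hj => inf_le_right.trans (biInf_le _ hj)
  obtain ⟨A, hA⟩ := exists_isSylowIn 3 J
  have hA3 := fun j hj => rel3 hH (T j).four (hA.le.trans inf_le_left) (hA.le.trans (hJ j hj))
  have a : ∀ i < 4, ∃ a ∈ A, a ∉ CC(cj (e ^ i) V) ∧ ∀ j < i, a ∈ CC(cj (e ^ j) V) := fun i hi => by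
    have h5 : ∀ j < 4, resOf 3 J ≤ CC(cj (e ^ j) V) := fun j hj => resOf_le_of_pow fun g hg =>
      ⟨1, (rel3 hH (T j).four inf_le_left (hJ j hj)).1 g hg⟩
    obtain ⟨r, r1, a, a1, e1⟩ := (mem_sup_of_NN' (hA.le.trans (le_NN_resOf J))).1
      (hA.resOf_sup.ge (show e ^ i * x * (e ^ i)⁻¹ ∈ J from ⟨(T i).mem,
        mem_iInf.2 fun j => mem_iInf.2 fun hj => by
        by_cases hij : i = j
        exacts [hij ▸ (T i).nn, CC_le_NN _ (d i hi j hj hij)]⟩))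
    exact ⟨a, a1, fun h6 => (T i).ne (e1 ▸ mul_mem (h5 i hi r1) h6), fun j hj =>
      (mul_mem_cancel_left (h5 j (hj.trans hi) r1)).1 (e1 ▸ d i hi j (hj.trans hi) hj.ne')⟩
  have b : ∀ i ≤ 4, 3 ^ i ≤ (A ⊓ ⨅ j < i, CC(cj (e ^ j) V)).relIndex A := fun i hi => by
    induction i with
    | zero => exact Nat.one_le_iff_ne_zero.2 index_ne_zero_of_finite
    | succ i ih =>
      obtain ⟨a, a1, a2, a3⟩ := a i hi
      rw [Nat.iInf_lt_succ, ← inf_assoc, pow_succ']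
      exact (Nat.mul_le_mul_left _ (ih (by omega))).trans (step3 hA.isPGroup inf_le_left
        fun h5 => a2 (h5 ⟨a1, mem_iInf.2 fun j => mem_iInf.2 (a3 j)⟩))
  have h5 : commutator A ≤ (A ⊓ ⨅ j < 4, CC(cj (e ^ j) V)).subgroupOf A := fun g hg =>
    ⟨g.2, mem_iInf.2 fun j => mem_iInf.2 fun hj => (hA3 j hj).2 hg⟩
  haveI := Normal.of_commutator_le _ h5
  have := (b 4 le_rfl).trans (idx27 hA.isPGroup (fun D d1 d2 => card_map_subtype D ▸ hr _
    ((map_subtype_le D).trans (hA.le.trans inf_le_left)) (elab_map _ ⟨d1, d2⟩)) _ h5 fun g =>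
    ⟨pow_mem g.2 3, mem_iInf.2 fun j => mem_iInf.2 fun hj => (hA3 j hj).1 g g.2⟩)
  omega

end Bf
end H10
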