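import Cfsg.Agent.H10.Cores
import Cfsg.Agent.H12.Crit
import Cfsg.Agent.H12.Norm
import Cfsg.Agent.H9.NarrowAmb
import Cfsg.Agent.H15.TB
import Cfsg.Agent.S3888

/-!
Chief `p`-factors of `p`-constrained groups of `p`-rank at most two.
-/

set_option autoImplicit false
set_option linter.unusedSectionVars false

namespace H10

open Cfsg Subgroup
open scoped commutatorElement

variable {G : Type*} [Group G] [Finite G] {p : ℕ} [hp : Fact p.Prime]

theorem cf_inf_relIndex {X Y Z : Subgroup G} (h : IsChiefFactor X Y) [Z.Normal]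
    (hn : ¬ X ⊓ Z ≤ Y) : (Y ⊓ Z).relIndex (X ⊓ Z) = Y.relIndex X := by
  have := h.2.1
  have := h.2.2.1
  have e := H12.chief_sup_eq h (Z := X ⊓ Z) inf_le_left hn
  have e2 : (Y ⊓ Z).relIndex (X ⊓ Z) = Y.relIndex (X ⊓ Z) := by
    rw [← inf_relIndex_right (Y ⊓ Z), ← inf_relIndex_right Y (X ⊓ Z)]
    congr 1
    exact le_antisymm (inf_le_inf_right _ inf_le_left)
      (le_inf (le_inf inf_le_left (inf_le_right.trans inf_le_right)) inf_le_right)
  rw [e2]
  conv_rhs => rw [← e]
  rw [relIndex_sup_left]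

theorem cf_avoid_dvd {X Y N M : Subgroup G} [N.Normal] (hXM : X ≤ M) (hn : X ⊓ N ≤ Y) :
    Y.relIndex X ∣ N.relIndex M := by
  have h1 : Y.relIndex X ∣ N.relIndex X := by
    rw [← inf_relIndex_left X N]
    exact relIndex_dvd_of_le_left X hn
  refine h1.trans ?_
  have : N.relIndex X = (N.subgroupOf M).relIndex (X.subgroupOf M) := by
    rw [relIndex_subgroupOf hXM]
  rw [this]
  exact relIndex_dvd_index_of_normal _ _

/-- a chief factor inside an abelian subgroup of rank two -/
theorem cf_abelian {X Y : Subgroup G} (h : IsChiefFactor X Y) (hX : IsPGroup p X)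
    (hc : IsMulCommutative X) (hr : PRankLE p 2 X) : Y.relIndex X ≤ p ^ 2 := by
  letI : CommGroup X := { (inferInstance : Group X) with mul_comm := hc.is_comm.comm }
  let f : X →* X := powMonoidHom p
  have h1 : f.range ≤ Y.subgroupOf X := by
    rintro _ ⟨x, rfl⟩
    exact H12.chief_pow_mem h hX x x.2
  have h2 : Nat.card f.ker ≤ p ^ 2 := hr f.ker inferInstance fun a ha => ha
  have h3 : f.range.index = Nat.card f.ker := by
    have a := f.range.card_mul_index
    have b := f.ker.card_mul_index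
    rw [index_ker] at b
    have : 0 < Nat.card f.range := Nat.card_pos
    nlinarith
  exact (Nat.le_of_dvd (Nat.pos_of_ne_zero FiniteIndex.index_ne_zero)
    (index_dvd_of_le h1)).trans (h3 ▸ h2)

theorem cf_meta (hp2 : p ≠ 2) {X Y : Subgroup G} (h : IsChiefFactor X Y) (hX : IsPGroup p X)
    (hm : IsMetacyclic X) : Y.relIndex X ≤ p ^ 2 := by
  have := h.2.2.1
  have h1 := H9.isMetacyclic_map hm (QuotientGroup.mk' Y)
  have he : ∀ a ∈ X.map (QuotientGroup.mk' Y), a ^ p = 1 := by
    rintro _ ⟨x, hx, rfl⟩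
    rw [← map_pow, QuotientGroup.mk'_apply, QuotientGroup.eq_one_iff]
    exact H12.chief_pow_mem h hX x hx
  rw [← H1.card_map_mk'_eq_relIndex]
  by_cases hc : IsCyclic (X.map (QuotientGroup.mk' Y))
  · exact (H9.card_le_prime_of_isCyclic hc he).trans (Nat.le_self_pow two_ne_zero p)
  · rw [← (H9.omega_of_isMetacyclic hp2 (hX.map _) h1 hc).2]
    exact card_le_of_le fun a ha => subset_closure ⟨ha, he a ha⟩

theorem lcs_le_of_relIndex {R : Subgroup G} [R.Normal] (hR : IsPGroup p R) (a : ℕ) :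
    ∀ (i : ℕ) (X Y : Subgroup G) [X.Normal] [Y.Normal], Y ≤ X → X ≤ R → Y.relIndex X = p ^ a →
      R.lowerCentralSeries i ≤ X → R.lowerCentralSeries (i + a) ≤ Y := by
  induction a using Nat.strong_induction_on with
  | _ a ih =>
  intro i X Y _ _ hYX hXR hi hl
  by_cases hXY : X ≤ Y
  · exact (R.lowerCentralSeries_antitone (Nat.le_add_right i a)).trans (hl.trans hXY)
  obtain ⟨Y', hY', hYY'⟩ := H12.exists_chief_below (lt_of_le_not_ge hYX hXY)
  have := hY'.2.2.1
  have h1 : R.lowerCentralSeries (i + 1) ≤ Y' :=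
    (commutator_mono hl le_rfl).trans (H12.chief_commutator_le hY' (hR.to_le hXR) hR)
  have h2 := relIndex_mul_relIndex Y Y' X hYY' hY'.1.le
  rw [hi] at h2
  obtain ⟨b, hb, e⟩ := (Nat.dvd_prime_pow hp.out).1 (Dvd.intro _ h2)
  have hba : b < a := by
    refine lt_of_le_of_ne hb fun e' => ?_
    rw [e, e'] at h2
    have : Y'.relIndex X = 1 := by
      have hpos : 0 < p ^ a := pow_pos hp.out.pos a
      nlinarith
    exact hY'.1.not_ge (relIndex_eq_one.1 this)
  exact (R.lowerCentralSeries_antitone (by omega)).trans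
    (ih b hba (i + 1) Y' Y hYY' (hY'.1.le.trans hXR) e h1)

theorem cf_max {R X Y : Subgroup G} [R.Normal] (h : IsChiefFactor X Y) (hXR : X ≤ R) {n : ℕ}
    (hn : Nat.card R = p ^ n) (hl : R.lowerCentralSeries (n - 2) ≠ ⊥) : Y.relIndex X ≤ p ^ 2 := by
  have := h.2.1
  have := h.2.2.1
  have hR : IsPGroup p R := IsPGroup.of_card hn
  have e1 : (⊥ : Subgroup G).relIndex Y * Y.relIndex X * X.relIndex R = p ^ n := by
    rw [relIndex_mul_relIndex _ _ _ bot_le h.1.le, relIndex_mul_relIndex _ _ _ bot_le hXR,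
      relIndex_bot_left, hn]
  obtain ⟨a, -, ha⟩ := (Nat.dvd_prime_pow hp.out).1 (Dvd.intro_left _ e1)
  obtain ⟨b, -, hb⟩ := (Nat.dvd_prime_pow hp.out).1
    ((Dvd.intro _ rfl).trans (Dvd.intro _ e1) : (⊥ : Subgroup G).relIndex Y ∣ p ^ n)
  obtain ⟨c, -, hc⟩ := (Nat.dvd_prime_pow hp.out).1
    ((Dvd.intro_left _ rfl).trans (Dvd.intro _ e1) : Y.relIndex X ∣ p ^ n)
  rw [ha, hb, hc, ← pow_add, ← pow_add] at e1
  have e2 := Nat.pow_right_injective hp.out.two_le e1
  rw [hc]
  refine Nat.pow_le_pow_right hp.out.pos ?_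
  by_contra hc3
  apply hl
  have h1 := lcs_le_of_relIndex hR a 0 R X hXR le_rfl ha le_rfl
  have h2 : R.lowerCentralSeries (0 + a + 1) ≤ Y :=
    (commutator_mono h1 le_rfl).trans (H12.chief_commutator_le h (hR.to_le hXR) hR)
  have h3 := lcs_le_of_relIndex hR b _ Y ⊥ bot_le (h.1.le.trans hXR) hb h2
  exact eq_bot_iff.2 ((R.lowerCentralSeries_antitone (by omega)).trans h3)

theorem cf_abel_normal {R X Y N : Subgroup G} [R.Normal] [N.Normal] (h : IsChiefFactor X Y)
    (hXR : X ≤ R) (hR : IsPGroup p R) (hr : PRankLE p 2 R) (hc : IsMulCommutative N)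
    (hi : N.relIndex R ≤ p ^ 2) : Y.relIndex X ≤ p ^ 2 := by
  by_cases hn : X ⊓ N ≤ Y
  · exact (Nat.le_of_dvd (Nat.pos_of_ne_zero FiniteIndex.index_ne_zero)
      (cf_avoid_dvd hXR hn)).trans hi
  · rw [← cf_inf_relIndex h hn]
    exact cf_abelian (H12.chief_inf h hn) (hR.to_le (inf_le_left.trans hXR))
      (H1.isMulCommutative_iff'.2 fun a ha b hb => H1.isMulCommutative_iff'.1 hc a ha.2 b hb.2)
      (H9.prank_of_le hr (inf_le_left.trans hXR))

theorem cf_abel_index {R X Y A : Subgroup G} [hRn : R.Normal] (h : IsChiefFactor X Y)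
    (hXR : X ≤ R) (hR : IsPGroup p R) (hr : PRankLE p 2 R) (hAR : A ≤ R)
    (hc : IsMulCommutative A) (hi : A.relIndex R ≤ p) : Y.relIndex X ≤ p ^ 2 := by
  by_cases hA : A.Normal
  · exact cf_abel_normal h hXR hR hr hc (hi.trans (Nat.le_self_pow two_ne_zero p))
  have hc' := H1.isMulCommutative_iff'.1 hc
  obtain ⟨g, hg⟩ : ∃ g : G, ¬ A.map (MulAut.conj g).toMonoidHom ≤ A := by
    by_contra hh
    push Not at hh
    exact hA ⟨fun a ha g => hh g ⟨a, ha, rfl⟩⟩
  set B := A.map (MulAut.conj g).toMonoidHom with hB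
  have hBR : B ≤ R := by
    rintro _ ⟨a, ha, rfl⟩
    exact hRn.conj_mem a (hAR ha) g
  have hRR : R.map (MulAut.conj g).toMonoidHom = R := by
    refine eq_of_le_of_card_ge ?_ (by rw [card_map_of_injective (MulAut.conj g).injective])
    rintro _ ⟨a, ha, rfl⟩
    exact hRn.conj_mem a ha g
  have hiB : B.relIndex R = A.relIndex R := by
    conv_lhs => rw [← hRR]
    exact relIndex_map_map_of_injective _ _ (MulAut.conj g).injective
  have hcB : ∀ a ∈ B, ∀ b ∈ B, a * b = b * a := by
    rintro _ ⟨a, ha, rfl⟩ _ ⟨b, hb, rfl⟩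
    rw [← map_mul, ← map_mul, hc' a ha b hb]
  have hsup : A ⊔ B = R := by
    have h1 : A < A ⊔ B := lt_of_le_not_ge le_sup_left fun e => hg (le_sup_right.trans e)
    have h2 := H9.mul_card_le_of_lt (hR.to_le (sup_le hAR hBR)) h1
    refine eq_of_le_of_card_ge (sup_le hAR hBR) (le_trans ?_ h2)
    have h3 := relIndex_mul_relIndex ⊥ A R bot_le hAR
    rw [relIndex_bot_left, relIndex_bot_left] at h3
    rw [← h3, mul_comm]
    exact Nat.mul_le_mul_right _ hi
  have hZ : A ⊓ B ≤ R ⊓ centralizer (R : Set G) := by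
    refine le_inf (inf_le_left.trans hAR) ?_
    rw [le_centralizer_iff, ← hsup]
    exact sup_le (fun a ha b hb => hc' b hb.1 a ha) (fun a ha b hb => hcB b hb.2 a ha)
  refine cf_abel_normal (N := R ⊓ centralizer (R : Set G)) h hXR hR hr
    (H1.isMulCommutative_iff'.2 fun a ha b hb => hb.2 a ha.1) ?_
  refine (relIndex_le_of_le_left hZ FiniteIndex.index_ne_zero).trans (relIndex_inf_le.trans ?_)
  rw [hiB, sq]
  exact Nat.mul_le_mul hi hi

theorem relIndex_le_of_gen {R : Type*} [Group R] [Finite R] {x y z : R}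
    (hg : closure ({x, y, z} : Set R) = ⊤) (hx : x ^ p = 1) (hyz : y * z = z * y)
    (h1 : x⁻¹ * y * x ∈ closure ({y, z} : Set R)) (h2 : x⁻¹ * z * x ∈ closure ({y, z} : Set R)) :
    IsMulCommutative (closure ({y, z} : Set R)) ∧ (closure ({y, z} : Set R)).index ≤ p := by
  set A := closure ({y, z} : Set R) with hA
  have hc : IsMulCommutative A := by
    refine isMulCommutative_closure ?_
    rintro a (rfl | rfl) b (rfl | rfl) <;> simp [hyz]
  refine ⟨hc, ?_⟩
  have hxN : x⁻¹ ∈ normalizer (A : Set R) := by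
    refine mem_normalizer_fintype fun a ha => ?_
    have : A.map (MulAut.conj x⁻¹).toMonoidHom ≤ A := by
      rw [hA, MonoidHom.map_closure, closure_le]
      rintro _ ⟨b, (rfl | rfl), rfl⟩
      · simpa using h1
      · simpa using h2
    exact this ⟨a, ha, rfl⟩
  have hN : A.Normal := by
    rw [← normalizer_eq_top_iff, eq_top_iff, ← hg, closure_le]
    rintro a (rfl | rfl | rfl)
    · simpa using inv_mem hxN
    · exact le_normalizer (subset_closure (by simp))
    · exact le_normalizer (subset_closure (by simp))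
  have hs : zpowers x ⊔ A = ⊤ := by
    rw [eq_top_iff, ← hg, closure_le]
    rintro a (rfl | rfl | rfl)
    · exact mem_sup_left (mem_zpowers _)
    · exact mem_sup_right (subset_closure (by simp))
    · exact mem_sup_right (subset_closure (by simp))
  rw [← relIndex_top_right, ← hs, relIndex_sup_right]
  refine (Nat.le_of_dvd Nat.card_pos (relIndex_dvd_card _ _)).trans ?_
  rw [Nat.card_zpowers]
  exact Nat.le_of_dvd hp.out.pos (orderOf_dvd_of_pow_eq_one hx)

/-- chief factors inside a normal `p`-subgroup of rank at most two -/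
theorem cf_inside (hp2 : p ≠ 2) {R X Y : Subgroup G} [R.Normal] (h : IsChiefFactor X Y)
    (hXR : X ≤ R) (hR : IsPGroup p R) (hr : PRankLE p 2 R) : Y.relIndex X ≤ p ^ 2 := by
  obtain ⟨n, hn⟩ := IsPGroup.iff_card.1 hR
  have key : ∀ A : Subgroup R, IsMulCommutative A → A.index ≤ p → Y.relIndex X ≤ p ^ 2 := by
    intro A hA hi
    refine cf_abel_index (A := A.map R.subtype) h hXR hR hr (map_subtype_le A) inferInstance ?_
    rwa [relIndex, subgroupOf, comap_map_eq_self_of_injective R.subtype_injective]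
  rcases Cfsg.Agent.S3888.result hp2 n hn hr with hm | ⟨-, x, y, z, hg, hx, -, -, e1, e2, e3⟩ |
    ⟨-, s, x, y, z, -, hg, hx, -, -, e1, e2, e3⟩ | ⟨-, -, hl⟩
  · exact cf_meta hp2 h (hR.to_le hXR) (H9.isMetacyclic_of_le hm hXR)
  · have hy : y ∈ closure ({y, z} : Set R) := subset_closure (by simp)
    have hz : z ∈ closure ({y, z} : Set R) := subset_closure (by simp)
    obtain ⟨a, b⟩ := relIndex_le_of_gen hg hx e2 (e3 ▸ mul_mem hy (pow_mem hz _))
      (by rwa [mul_assoc, ← e1, inv_mul_cancel_left])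
    exact key _ a b
  · have hy : y ∈ closure ({y, z} : Set R) := subset_closure (by simp)
    have hz : z ∈ closure ({y, z} : Set R) := subset_closure (by simp)
    obtain ⟨a, b⟩ := relIndex_le_of_gen hg hx e1 (e2 ▸ mul_mem hy (pow_mem hz _))
      (e3 ▸ mul_mem hy hz)
    exact key _ a b
  · refine cf_max h hXR hn fun e => hl ?_
    rwa [← top_subtype_lowerCentralSeries, map_eq_bot_iff_of_injective _ R.subtype_injective] at e

theorem not_sq_dvd_index_cent (W : Subgroup G) [W.Normal] (hW : IsPGroup p W)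
    (hc : Nat.card W ≤ p ^ 2) : ¬ p ^ 2 ∣ (centralizer (W : Set G)).index := by
  obtain ⟨P, hP⟩ := hW.exists_le_sylow
  set C := centralizer (W : Set G) with hC
  obtain ⟨a, ha⟩ := IsPGroup.iff_card.1 hW
  have ha2 : a ≤ 2 := (Nat.pow_le_pow_iff_right hp.out.one_lt).1 (ha ▸ hc)
  have h1 : C.relIndex (P : Subgroup G) ≤ p := by
    have e : C.subgroupOf (P : Subgroup G) =
        centralizer (W.subgroupOf (P : Subgroup G) : Set (P : Subgroup G)) := by
      ext x
      refine ⟨fun hx y hy => Subtype.ext (hx y hy), fun hx => H9.mem_centralizer_of_subgroupOf hP hx⟩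
    have := H9.index_centralizer_le_pow P.isPGroup' a (W.subgroupOf (P : Subgroup G))
      (by rw [Nat.card_congr (subgroupOfEquivOfLe hP).toEquiv, ha])
    rw [relIndex, e]
    refine this.trans ?_
    conv_rhs => rw [← pow_one p]
    refine Nat.pow_le_pow_right hp.out.pos ?_
    interval_cases a <;> simp
  intro hd
  rw [← relIndex_mul_index (le_sup_left : C ≤ C ⊔ P), relIndex_sup_left] at hd
  have h2 : ¬ p ∣ (C ⊔ P : Subgroup G).index := fun e =>
    P.not_dvd_index (e.trans (index_dvd_of_le le_sup_right))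
  have h3 := Nat.le_of_dvd (Nat.pos_of_ne_zero FiniteIndex.index_ne_zero)
    (Nat.Coprime.dvd_of_dvd_mul_right
      (((Nat.Prime.coprime_iff_not_dvd hp.out).2 h2).pow_left 2) hd)
  have h4 : p ^ 2 ≤ p := h3.trans h1
  have := hp.out.two_le
  nlinarith

/-- chief `p`-factors of a group of characteristic `p` whose `O_p` has rank at most two -/
theorem cf_char (hp2 : p ≠ 2) (hC : centralizer (pCore p G : Set G) ≤ pCore p G)
    (hr : PRankLE p 2 (pCore p G)) {X Y : Subgroup G} (h : IsChiefFactor X Y) {n : ℕ}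
    (hn : Y.relIndex X = p ^ n) : n ≤ 2 := by
  set R := pCore p G with hRe
  have hR : IsPGroup p R := isPGroup_pCore'
  by_cases hXR : X ⊓ R ≤ Y
  swap
  · have := cf_inside hp2 (H12.chief_inf h hXR) inf_le_right hR hr
    rw [cf_inf_relIndex h hXR, hn] at this
    exact (Nat.pow_le_pow_iff_right hp.out.one_lt).1 this
  obtain ⟨D, hDR, hN, hDe, -, hcent⟩ := H9.exists_critical_odd hp2 hR
  have := H9.normal_of_normalizer_le hN
  have hD : IsPGroup p D := hR.to_le hDR
  have hrD : PRankLE p 2 D := H9.prank_of_le hr hDR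
  let Z := D ⊓ centralizer (D : Set G)
  have hZ : IsElementaryAbelian p Z :=
    ⟨H1.isMulCommutative_iff'.2 fun a ha b hb => hb.2 a ha.1, fun a ha => hDe a ha.1⟩
  have hZ2 : Nat.card Z ≤ p ^ 2 := H9.prank_iff.1 hrD Z inf_le_left hZ
  have hDZ : Nat.card (D.map (QuotientGroup.mk' Z)) ≤ p ^ 2 := by
    rw [H1.card_map_mk'_eq_relIndex]
    refine Nat.le_of_dvd (pow_pos hp.out.pos 2) (H9.relIndex_dvd_of_card_le hD inf_le_left ?_)
    by_cases hH1 : D = ⊥
    · rw [hH1, card_bot]
      exact Nat.one_le_iff_ne_zero.2 (mul_ne_zero (pow_ne_zero _ hp.out.ne_zero) Nat.card_pos.ne')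
    have h1 : Z ≠ ⊥ := H7.inf_centralizer_ne_bot hD hD le_normalizer hH1
    refine (H9.card_le_cube_of_exponent' hrD hDe).trans ?_
    rw [pow_succ]
    exact Nat.mul_le_mul_left _ (H9.prime_le_card (hD.to_le inf_le_left) h1)
  have : (D.map (QuotientGroup.mk' Z)).Normal :=
    (inferInstance : D.Normal).map _ (QuotientGroup.mk'_surjective Z)
  let C₁ := (centralizer (D.map (QuotientGroup.mk' Z) : Set (G ⧸ Z))).comap (QuotientGroup.mk' Z)
  let C₂ := centralizer (Z : Set G)
  have n1 : ¬ p ^ 2 ∣ C₁.index := by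
    rw [index_comap_of_surjective _ (QuotientGroup.mk'_surjective Z)]
    exact not_sq_dvd_index_cent _ (hD.map _) hDZ
  have n2 : ¬ p ^ 2 ∣ C₂.index := not_sq_dvd_index_cent Z (hD.to_le inf_le_left) hZ2
  have hCR : C₁ ⊓ C₂ ≤ R := by
    refine H1.le_pCore (H9.isPGroup_of_forall_coprime_eq_one fun x hx hxp => ?_)
    have h1 : x ∈ R := hC (hcent x (by rw [normalizer_eq_top]; trivial) hxp
      (H9.mem_centralizer_of_centMod (N := Z) (hD.to_le inf_le_left) hxp
        (H9.mem_centMod_iff_mk.2 hx.1) hx.2))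
    obtain ⟨k, hk⟩ := hR ⟨x, h1⟩
    have h2 : orderOf x ∣ p ^ k := orderOf_dvd_of_pow_eq_one (congrArg Subtype.val hk)
    exact orderOf_eq_one_iff.1 (Nat.Coprime.eq_one_of_dvd (hxp.pow_right k) h2)
  have hd : p ^ n ∣ C₁.index * C₂.index := by
    rw [← hn]
    refine (cf_avoid_dvd (N := C₁ ⊓ C₂) (M := ⊤) le_top
      ((inf_le_inf_left X hCR).trans hXR)).trans ?_
    rw [relIndex_top_right, ← relIndex_mul_index (inf_le_right : C₁ ⊓ C₂ ≤ C₂), inf_relIndex_right]
    exact Nat.mul_dvd_mul_right (relIndex_dvd_index_of_normal _ _) _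
  by_contra hn3
  have h3 : p ^ 3 ∣ C₁.index * C₂.index := (pow_dvd_pow p (by omega)).trans hd
  by_cases e1 : p ∣ C₁.index
  · obtain ⟨m, hm⟩ := e1
    have e2 : ¬ p ∣ m := fun e => n1 (by rw [hm, sq]; exact Nat.mul_dvd_mul_left p e)
    rw [hm, mul_assoc, pow_succ'] at h3
    exact n2 (Nat.Coprime.dvd_of_dvd_mul_left
      (((Nat.Prime.coprime_iff_not_dvd hp.out).2 e2).pow_left 2)
      (Nat.dvd_of_mul_dvd_mul_left hp.out.pos h3))
  · exact n2 ((pow_dvd_pow p (by omega)).trans (Nat.Coprime.dvd_of_dvd_mul_left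
      (((Nat.Prime.coprime_iff_not_dvd hp.out).2 e1).pow_left 3) h3))

/-- chief `p`-factors of a `p`-constrained group of `p`-rank at most two -/
theorem cf_pcon (hp2 : p ≠ 2) (hG : H15.PCon p G) (hr : PRankLE p 2 G) {X Y : Subgroup G}
    (h : IsChiefFactor X Y) {n : ℕ} (hn : Y.relIndex X = p ^ n) : n = 1 ∨ n = 2 := by
  have hXn := h.2.1
  have hYn := h.2.2.1
  have hn0 : n ≠ 0 := by
    rintro rfl
    exact h.1.not_ge (relIndex_eq_one.1 (by simpa using hn))
  set O := pPrimeCore p G with hO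
  have hOp : (Nat.card O).Coprime p :=
    ((Nat.Prime.coprime_iff_not_dvd hp.out).2 fun e =>
      H15.isPi_pPrimeCore p hp.out e rfl).symm
  have hXO : X ⊓ O ≤ Y := by
    by_contra e
    have h1 : p ∣ Nat.card O := by
      refine (dvd_pow_self p hn0).trans ?_
      rw [← hn, ← cf_inf_relIndex h e]
      exact (relIndex_dvd_card _ _).trans (card_dvd_of_le inf_le_right)
    exact hp.out.one_lt.ne' (Nat.Coprime.eq_one_of_dvd hOp.symm h1)
  let π := QuotientGroup.mk' O
  have hπ : Function.Surjective π := QuotientGroup.mk'_surjective O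
  have hXY : ∀ {L : Subgroup G}, Y ≤ L → L ≤ X → X ⊓ (L ⊔ O) = L := by
    intro L h1 h2
    rw [inf_comm, H7.dedekind h2 (Or.inl le_normalizer_of_normal)]
    exact sup_eq_left.2 ((inf_comm O X).le.trans (hXO.trans h1))
  have hcm : ∀ L : Subgroup G, (L.map π).comap π = L ⊔ O := fun L => by
    rw [comap_map_eq, QuotientGroup.ker_mk']
  have h' : IsChiefFactor (X.map π) (Y.map π) := by
    refine ⟨lt_of_le_not_ge (map_mono h.1.le) fun e => h.1.not_ge ?_, hXn.map _ hπ, hYn.map _ hπ,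
      fun N hN h1 h2 => ?_⟩
    · rw [map_le_iff_le_comap, hcm] at e
      rw [← hXY le_rfl h.1.le]
      exact le_inf le_rfl e
    · have e : N = (X ⊓ N.comap π).map π := by
        refine le_antisymm (fun a ha => ?_) (map_le_iff_le_comap.2 inf_le_right)
        obtain ⟨x, hx, rfl⟩ := h2 ha
        exact ⟨x, ⟨hx, ha⟩, rfl⟩
      rcases h.2.2.2 (X ⊓ N.comap π) inferInstance
        (le_inf h.1.le (map_le_iff_le_comap.1 h1)) inf_le_left with e' | e'
      · left; rw [e, e']
      · right; rw [e, e']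
  have hi : (Y.map π).relIndex (X.map π) = p ^ n := by
    rw [← relIndex_comap, hcm, ← inf_relIndex_left, hXY le_rfl h.1.le, hn]
  obtain ⟨P⟩ : Nonempty (Sylow p G) := inferInstance
  have := cf_char hp2 hG (H9.prank_pCore_quotient O hOp P (H9.prank_subgroup hr _)) h' hi
  omega

end H10
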