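import Cfsg.Agent.Lead.Fv0
import Cfsg.Agent.H10.Cores
import Cfsg.Agent.H1.Coprime
import Cfsg.Agent.H5.Fstar

/-! Operators centralising the residual of the generalized Fitting subgroup. -/

set_option autoImplicit false

open Subgroup Cfsg H4 H12 Lead.Fv
open scoped commutatorElement

namespace H10.Eq1

universe u

variable {X : Type u} [Group X] [Finite X] {p : ℕ} [hp : Fact p.Prime] {G R P Y : Subgroup X}

theorem nf_eq : NF p G = resOf p (H5.fstarOf G) :=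
  H12.map_res (p := p) G.subtype (generalizedFittingSubgroup G)

theorem nf_le : NF p G ≤ res p (G ⊓ 𝒞 (pCoreOf p G)) := by
  rw [nf_eq]
  have hK : H5.layerOf G ⊔ H5.oppOf p G ≤ CC(pCoreOf p G) :=
    sup_le (H5.layerOf_le_centralizer_opOf p G) (comm_eq_bot'.1 (H5.commutator_opOf_oppOf p G))
  have h1 : H5.fstarOf G ≤ (H5.layerOf G ⊔ H5.oppOf p G) ⊔ pCoreOf p G := by
    rw [H5.fstarOf_eq]
    refine sup_le (le_sup_left.trans le_sup_left) ((H5.fitOf_le_opOf_sup_oppOf p G).trans ?_)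
    exact sup_le le_sup_right (le_sup_right.trans le_sup_left)
  refine (resOf_mono h1).trans ?_
  rw [resOf_sup_pgroup (isPGroup_pCoreOf G) ((le_CC_symm hK).trans (CC_le_NN _))]
  exact resOf_mono (le_inf (sup_le (H5.layerOf_le G) (H5.oppOf_le p G)) hK)

theorem fstar_le : H5.fstarOf G ≤ resOf p (H5.fstarOf G) ⊔ pCoreOf p G := by
  refine (H5.fstarOf_eq G).le.trans (sup_le (le_trans ?_ le_sup_left) ?_)
  · obtain ⟨S, hS⟩ := exists_isSylowIn p (H5.fstarOf G)
    haveI := hS.isPGroup.isNilpotent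
    refine H5.perfect_le_of_le_sup_solvable (B := S) (H5.layerOf_perfect G)
      (hS.le.trans (le_NN_resOf _)) inferInstance ?_
    rw [hS.resOf_sup]
    exact H5.layerOf_le_fstarOf G
  · rw [H5.fitOf_eq_iSup]
    refine iSup_le fun q => ?_
    by_cases hq : (q : ℕ) = p
    · rw [hq]; exact le_sup_right
    · haveI : Fact (q : ℕ).Prime := ⟨q.2⟩
      refine le_trans (le_resOf_of_coprime ?_ (H5.opOf_le_fstarOf q G)) le_sup_left
      obtain ⟨k, hk⟩ := (H5.isPGroup_opOf q G).exists_card_eq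
      rw [hk]
      exact ((Nat.coprime_primes q.2 hp.out).2 hq).pow_left k

theorem eq1 (hn : R ≤ 𝒩 G) (hc : (Nat.card R).Coprime (Nat.card G)) (hs : Group.IsSolvable R)
    (h : R ≤ 𝒞 (NF p G)) : Phi p G R := by
  rw [nf_eq] at h
  unfold Phi
  set B : Subgroup X := G ⊓ 𝒞 (pCoreOf p G) with hB
  have hRB : R ≤ NN(B) := le_NN_inf hn (le_NN_CC (le_NN_pCoreOf' hn))
  have hDB : ⁅B, R⁆ ≤ B := comm_le_left hRB
  have hBN : B ≤ NN(resOf p (H5.fstarOf G)) :=
    le_NN_resOf' (inf_le_left.trans (H5.self_le_normalizer_fstarOf G))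
  have h0 : ⁅R, resOf p (H5.fstarOf G)⁆ = ⊥ := comm_eq_bot.2 h
  have hDN : ⁅B, R⁆ ≤ CC(resOf p (H5.fstarOf G)) := by
    refine comm_eq_bot.1 (eq_bot_iff.2 (three_subgroups (by rw [NN_bot]; exact le_top)
      (by rw [NN_bot]; exact le_top) (by rw [NN_bot]; exact le_top) ?_ ?_))
    · rw [h0, commutator_bot_left]
    · refine (commutator_mono (comm_le_left hBN) le_rfl).trans ?_
      rw [commutator_comm, h0]
  have hDF : ⁅B, R⁆ ≤ CC(H5.fstarOf G) := by
    refine le_trans ?_ (CC_anti (fstar_le (p := p)))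
    rw [CC_sup]
    exact le_inf hDN (hDB.trans inf_le_right)
  have hDle : ⁅B, R⁆ ≤ H5.fstarOf G :=
    (le_inf (hDB.trans inf_le_left) hDF).trans (H5.inf_centralizer_fstarOf_le G)
  have hab : ⁅B, R⁆ ≤ CC(⁅B, R⁆) := hDF.trans (CC_anti hDle)
  have hcc : ⁅⁅B, R⁆, R⁆ = ⁅B, R⁆ := H1.commutator_commutator_eq hRB
    (hc.coprime_dvd_right (card_dvd_of_le inf_le_left)) (Or.inl hs)
  obtain ⟨T, hT⟩ := exists_isSylowIn p ⁅B, R⁆
  have hTe : pCoreOf p ⁅B, R⁆ = T :=
    hT.pCoreOf_eq ((hab.trans (CC_anti hT.le)).trans (CC_le_NN _))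
  have hRT : R ≤ NN(T) := hTe ▸ le_NN_pCoreOf' (right_le_NN_comm B R)
  have hle : ⁅⁅B, R⁆, R⁆ ≤ ⁅T, R⁆ := by
    refine H1.commutator_le_of_mul_centralizer fun k hk => ?_
    obtain ⟨b, hb, a, ha, e⟩ := hT.exists_mul' hk
    exact ⟨b, hb, a, le_CC_symm h (resOf_mono hDle ha), e.symm⟩
  rw [hcc] at hle
  exact hT.isPGroup.to_le (hle.trans (comm_le_left hRT))

end H10.Eq1
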