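import Cfsg.Agent.H10.Tri2
import Cfsg.Agent.H12.QdX
import Cfsg.Agent.H3.ZJ
import Cfsg.Agent.S2761

/-!
Control of fusion in `Qd(p)`-free groups.
-/

set_option autoImplicit false
set_option linter.unusedSectionVars false

namespace H10

open Cfsg H4
open scoped commutatorElement

universe u

variable {G : Type u} [Group G] [Finite G] {p : ℕ} [Fact p.Prime]

/-- the centre as a functor -/
def WZ : H12.GF.{u} := fun Q _ => Subgroup.center Q

theorem induced_WZ (S : Subgroup G) : inducedFunctor WZ S = S ⊓ CC(S) := map_center_subtype S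

theorem charP_WZ : IsCharPFunctor.{u} p WZ := by
  refine ⟨fun Q _ _ hQ _ h => ?_, fun Q R _ _ _ _ φ => ?_⟩
  · exact (Subgroup.nontrivial_iff_ne_bot _).1 hQ.center_nontrivial h
  · refine le_antisymm ?_ fun y hy => ⟨φ.symm y, Subgroup.mem_center_iff.2 fun x => φ.injective ?_,
      φ.apply_symm_apply y⟩
    · rintro _ ⟨x, hx, rfl⟩
      refine Subgroup.mem_center_iff.2 fun y => ?_
      obtain ⟨y, rfl⟩ := φ.surjective y
      exact (map_mul φ y x).symm.trans ((congrArg φ (Subgroup.mem_center_iff.1 hx y)).trans (map_mul φ x y))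
    · rw [map_mul, map_mul, φ.apply_symm_apply]; exact Subgroup.mem_center_iff.1 hy _

theorem GF.facN_ZJ (h : GF (⊤ : Subgroup G)) : FacN 2 WZ WJ G := fun T x => by
  obtain ⟨c, hc, n, hn, e⟩ := h.fact2 (isSylowIn_top T) (Subgroup.mem_top x)
  rw [induced_WZ]
  exact ⟨c, CC_le_NN _ hc.2, n, NN_JH_le _ hn.2, e.symm⟩

theorem GFs.fc_ZJ (h : GFs G) : H12.FC 2 {WZ, WJ} G :=
  SecC.fc charP_WZ charP_WJ fun K R _ hC => (h K R hC).facN_ZJ

theorem isSec_qd_iff {H : Subgroup G} : IsSec (qd 2) H ↔ IsSec (Equiv.Perm (Fin 4)) H := by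
  obtain ⟨e⟩ := Agent.S2761.result
  exact ⟨fun h => IsSec.equiv h e, fun h => IsSec.equiv h e.symm⟩

theorem not_isSec_qd_of_fc {𝓦 : Set H12.GF.{u}} (h𝓦 : ∀ W ∈ 𝓦, IsCharPFunctor.{u} p W)
    (h : ∀ (K R : Subgroup G) [(R.subgroupOf K).Normal], H12.FC p 𝓦 (K ⧸ R.subgroupOf K)) :
    ¬ IsSec (qd p) (⊤ : Subgroup G) := fun hs => by
  obtain ⟨K, R, _, ⟨e⟩⟩ := H12.exists_section_equiv hs
  exact (H12.qdLike_of_equiv (F := ZMod p) (p := p) e).not_fc h𝓦 (h K R)

theorem fc_of_normal {W : H12.GF.{u}} (hW : IsCharPFunctor.{u} p W)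
    (h : SecC p G fun Y _ => ∀ T : Sylow p Y, (inducedFunctor W (T : Subgroup Y)).Normal) :
    H12.FC p {W} G :=
  H12.fc_of_charp (H12.single_char hW) (fun K R _ _ hC S hS => by
    obtain ⟨T, rfl⟩ := hS.exists_sylow
    exact H12.fusCtl_of_normal (h K R hC T)) G (H12.isSec_self G)

/-- `ZJ` as a functor -/
def WZJ (p : ℕ) : H12.GF.{u} := fun Q _ => centerThompsonOf p (⊤ : Subgroup Q)

theorem charP_WZJ : IsCharPFunctor.{u} p (WZJ p) := H3.isCharPFunctor_centerThompsonOf (Or.inr rfl)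

theorem fc_ZJ_odd (hp : p ≠ 2) (h : ¬ IsSec (qd p) (⊤ : Subgroup G)) : H12.FC p {WZJ p} G :=
  fc_of_normal charP_WZJ fun K R _ hC T => by
    unfold WZJ; rw [H3.inducedFunctor_centerThompsonOf]
    exact H4.centerThompsonOf_normal_of_qdFree hp (Or.inr rfl) hC (fun e => h ((isSec_sec K R).trans e)) T

end H10
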