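import Cfsg.Agent.H3.FApp
import Cfsg.Agent.H14.Solv
import Cfsg.Agent.H10.Tri4
import Cfsg.Agent.H10.GSF

/-!
Triple factorization for saturated fusion systems.
-/

set_option autoImplicit false
set_option linter.unusedSectionVars false

open Cfsg Cfsg.FusionSystem Equiv H13 H3
open H14.Fus (Fac FIso)

namespace H10

universe u

variable {p : ℕ} [Fact p.Prime] {W W₁ W₂ : H12.GF.{u}}

theorem ft_group (hW₁ : IsCharPFunctor.{u} p W₁) (hW₂ : IsCharPFunctor.{u} p W₂) {G : Type u}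
    [Group G] [Finite G] (P : Sylow p G) (h : FacN p W₁ W₂ G) {E : FusionSystem (P : Subgroup G)}
    (h1 : NLe (groupFusionSystem (P : Subgroup G)) (inducedFunctor W₁ (P : Subgroup G)) E)
    (h2 : NLe (groupFusionSystem (P : Subgroup G)) (inducedFunctor W₂ (P : Subgroup G)) E) :
    (groupFusionSystem (P : Subgroup G)).IsSubsystemOf E := by
  have n1 := iF_le_normalizer hW₁ P.2
  have n2 := iF_le_normalizer hW₂ P.2
  have k1 := h1.ofSubgroup (iF_le W₁ _) n1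
  have k2 := h2.ofSubgroup (iF_le W₂ _) n2
  refine isSubsystemOf_iff.2 fun R f hf => ?_
  obtain ⟨hR, hm, g, e⟩ := mor_group_iff.1 hf
  obtain ⟨a, ha, b, hb, rfl⟩ := h P g
  have hc : cj (a * b) R ≤ P := cj_le_of fun x hx => e x hx ▸ hm x hx
  obtain ⟨y, hy, h3⟩ := ((isSylowIn_top P).of_le (le_inf n1 n2) le_top).exists_cj_le
    (isPGroup_cj b (P.2.to_le hR)) (le_inf (by
      have := cj_le_of_mem (inv_mem ha) (hc.trans n1)
      rwa [← cj_mul, inv_mul_cancel_left] at this) (cj_le_of_mem hb (hR.trans n2)))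
  rw [← cj_mul] at h3
  have m1 : Mor E R fun x => y * b * x * (y * b)⁻¹ := (mor_ofSubgroup_iff.2
    ⟨hR, fun x hx => h3 (conj_mem_cj hx), y * b, mul_mem hy.2 hb, fun _ _ => rfl⟩).of_sub k2
  have m2 : Mor E (cj (y * b) R) fun x => a * y⁻¹ * x * (a * y⁻¹)⁻¹ := (mor_ofSubgroup_iff.2
    ⟨h3, fun x hx => hc (by
      have := conj_mem_cj (g := a * y⁻¹) hx
      rwa [← cj_mul, mul_assoc a, inv_mul_cancel_left] at this), a * y⁻¹,
      mul_mem ha (inv_mem hy.1), fun _ _ => rfl⟩).of_sub k1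
  exact (m2.comp m1 fun x hx => conj_mem_cj hx).congr fun x hx => by rw [e x hx]; group

theorem ft_machine (hW₁ : IsCharPFunctor.{u} p W₁) (hW₂ : IsCharPFunctor.{u} p W₂)
    (hG : ∀ (G : Type u) [Group G] [Finite G], CC(pCore p G) ≤ pCore p G →
      ¬ H4.IsSec (qd p) (⊤ : Subgroup G) → FacN p W₁ W₂ G)
    {Ω : Type u} [Group Ω] {S T : Subgroup Ω} [Finite S] (F : FusionSystem S) (E : FusionSystem T)
    (hS : IsPGroup p S) (hF : F.IsSaturated p) (hST : S ≤ T) (h : ¬ QdInv p F)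
    (h1 : NLe F (inducedFunctor W₁ S) E) (h2 : NLe F (inducedFunctor W₂ S) E) :
    F.IsSubsystemOf E := by
  refine fs_machine (p := p) (fun Ω _ S T F E => ¬ QdInv p F ∧ NLe F (inducedFunctor W₁ S) E ∧
      NLe F (inducedFunctor W₂ S) E)
    (fun Ω _ S T _ F F₀ E hS hF h1 h2 h => ⟨fun h' => h.1 (h'.mono h2), h.2.1.mono h2, h.2.2.mono h2⟩)
    (fun Ω _ S T _ F E U N hS hF h1 h2 h3 h4 h5 h => ?_)
    (fun Ω _ S T _ F E hS hF hST h ih1 ih2 hc => ?_) F E hS hF hST ⟨h, h1, h2⟩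
  · have := finite_of_le h3.le
    have hs := normalizerSystem_sub h4
    have key : ∀ W : H12.GF.{u}, IsCharPFunctor.{u} p W →
        NLe N (inducedFunctor W (normalizerIn S U)) E := fun W hW =>
      (h5 _ (iF_ne_bot hW (hS.to_le h3.le) fun e => h1 (le_bot_iff.1 (e ▸ le_normalizerIn h2.1)))
        (iF_le W _)
        ((normalizerIn_le_normalizer _ _).trans (iF_normalizer hW (hS.to_le h3.le)))).mono hs
    exact ⟨fun h' => h.1 (h'.mono hs), key _ hW₁, key _ hW₂⟩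
  rcases hc with hc | ⟨h1, h0, hc⟩
  · obtain ⟨G, _, _, P, η, h1, hη⟩ := exists_model_sylow hS hc
    obtain ⟨E', hE'⟩ := exists_qImg hη.fac hST
    have key : ∀ W : H12.GF.{u}, IsCharPFunctor.{u} p W → NLe F (inducedFunctor W S) E →
        NLe (groupFusionSystem (P : Subgroup G)) (inducedFunctor W (P : Subgroup G)) E' :=
      fun W hW hN => hE'.nLe hη.fac (by
        rwa [← hη.img_eq, ← iF_img hW hS hη.hom hη.inj, hη.pre_img (iF_le W S)])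
    refine hE'.sub hη.fac hS hF hST (hη.ker.symm ▸ normal_bot F) (hη.ker.symm ▸ isPGroup_autF_bot F)
      (ft_group hW₁ hW₂ P (hG G h1 fun h' => h.1 (QdInv.of_fac ?_ hη.fac)) (key _ hW₁ h.2.1)
        (key _ hW₂ h.2.2))
    rw [group_eq_ofSubgroup]
    exact (qdInv_ofSubgroup_iff (sylIn_top P)).2 h'
  obtain ⟨Ω', _, _, F', θ, hθ, hk⟩ := H14.Fus.exists_quot' hS hF (sc_of_normal (normal_core F))
  have hS' := hθ.isPGroup hS
  obtain ⟨E', hE'⟩ := exists_qImg hθ hST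
  have key : ∀ W : H12.GF.{u}, IsCharPFunctor.{u} p W → NLe F' (inducedFunctor W ⊤) E' :=
    fun W hW => hE'.nLe hθ (nLe_of_not_normal hS hF ih1 (pre_le _ _ _)
      (Fac.le_normalizer_pre hθ (iF_le_normalizer hW hS')) fun hn =>
        (Fac.ker_lt_pre hθ (iF_le W _) (iF_ne_bot hW hS' (Fac.ne_bot hθ (hk ▸ h0)))).not_ge
          (hk ▸ le_core hn))
  exact hE'.sub hθ hS hF hST (hk.symm ▸ normal_core F) (hk.symm ▸ hc)
    (ih2 Ω' ⊤ ⊤ F' E' (Fac.card_lt hθ (hk ▸ h1)) hS' (hθ.saturated hS hF) le_rfl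
      ⟨fun h' => h.1 (h'.of_fac hθ), key _ hW₁, key _ hW₂⟩)

variable {Ω : Type u} [Group Ω] {S : Subgroup Ω} [Finite S] {F : FusionSystem S}

theorem ft_key (hW : IsCharPFunctor.{u} p W)
    (hG : ∀ (G : Type u) [Group G] [Finite G], CC(pCore p G) ≤ pCore p G →
      ¬ H4.IsSec (qd p) (⊤ : Subgroup G) → FacZ p W G)
    (hS : IsPGroup p S) (hF : F.IsSaturated p) (h : ¬ QdInv p F) (hZ : ZO p S ≤ inducedFunctor W S)
    {V : Subgroup Ω} (hV : F.IsNormal V) (hZV : ZO p S ≤ V) {σ : Perm Ω} (hσ : Iso F V V σ) :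
    ∃ τ, Iso F (inducedFunctor W S) (inducedFunctor W S) τ ∧ ∀ z ∈ ZO p S, τ z = σ z := by
  have hN := normal_le_normalizer hV
  obtain ⟨ψ, h1, h2, h3⟩ := receptive_extend_centralizer
    (receptive_of_fullyNormalized hS hF (fullyNormalized_of_normal (F := F) hV.1 hN)) hσ
  have hU : V ⊔ centralizerIn S V ≤ S := sup_le hV.1 (centralizerIn_le _ _)
  have h4 := h1.iso_self (img_le_iff.1 (by
    rw [h1.hom.img_sup]
    exact sup_le_sup (img_le_iff.2 fun x hx => h2 x hx ▸ hσ.mem hx) (img_le_iff.2 h3)))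
  obtain ⟨F₃, k1, k2, k3, k4⟩ := exists_nsys_top hS hF hU (le_normalizer_sup_centralizerIn hN)
  have h5 := k4 _ ψ le_rfl Subgroup.le_normalizer h1 h4.maps
  obtain ⟨G, _, _, P, θ, hc, hθ⟩ := exists_model_sylow hS (H14.Fus.constrained_iff.2 ⟨k1,
    fun x hx => le_core k3 (le_sup_right (a := V)
      (centralizerIn_mono le_rfl (le_sup_left.trans (le_core k3)) hx))⟩)
  obtain ⟨f', h6, h7⟩ := hθ.fac.down _ _ h5
  obtain ⟨-, -, g, e⟩ := mor_group_iff.1 h6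
  obtain ⟨a, ha, b, hb, e'⟩ := hG G hc (fun h' => h (QdInv.mono (QdInv.of_fac (by
    rw [group_eq_ofSubgroup]
    exact (qdInv_ofSubgroup_iff (sylIn_top P)).2 h') hθ.fac) k2)) P g⁻¹
  have hb' : ∀ y ∈ inducedFunctor W (P : Subgroup G), b⁻¹ * y * b⁻¹⁻¹ ∈
      inducedFunctor W (P : Subgroup G) := fun y hy => conj_mem_of_mem_NN (inv_mem hb) hy
  obtain ⟨f, h8, h9⟩ := hθ.fac.up _ _ (mor_group_iff.2 ⟨iF_le W _, fun y hy => iF_le W _ (hb' y hy),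
    b⁻¹, fun _ _ => rfl⟩)
  have hp : pre S θ (inducedFunctor W (P : Subgroup G)) = inducedFunctor W S := by
    rw [← hθ.img_eq, ← iF_img hW hS hθ.hom hθ.inj, hθ.pre_img (iF_le W S)]
  obtain ⟨τ, h10, h11⟩ := h8.exists_perm
  have h12 := h10.iso_self fun x hx => hθ.hom.mem_pre.2 ⟨h10.mem hx, by
    rw [h11 x hx, ← h9 x hx]; exact hb' _ (hθ.hom.mem_pre.1 hx).2⟩
  rw [hp] at h9 h11 h12
  refine ⟨τ, h12.of_sub k2, fun z hz => ?_⟩
  have hzU : z ∈ V ⊔ centralizerIn S V := le_sup_left (b := centralizerIn S V) (hZV hz)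
  obtain ⟨z1, z2, z3⟩ := mem_ZO.1 hz
  have z4 := img_center_le hθ.hom hθ.img_eq ⟨z1, z2⟩
  have z5 : θ z ∈ ZO p (P : Subgroup G) :=
    mem_ZO.2 ⟨z4.1, z4.2, by rw [← hθ.hom.map_pow z1, z3, hθ.hom.map_one]⟩
  refine hθ.inj (h12.mor.mem (hZ hz)) (hσ.mor.mem (hZV hz)) ?_
  rw [h11 z (hZ hz), ← h9 z (hZ hz), ← h2 z (hZV hz), ← h7 z hzU, e _ (mem_img_of_mem θ hzU),
    ← inv_inv g, e']
  calc b⁻¹ * θ z * b⁻¹⁻¹ = b⁻¹ * a⁻¹ * (a * θ z) * b := by group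
    _ = _ := by rw [← mem_CC.1 ha _ z5]; group

/-- closure of `Z` under `Aut_F(W)` -/
def FCl (F : FusionSystem S) (Z W : Subgroup Ω) : Subgroup Ω :=
  Subgroup.closure {x | ∃ σ, Iso F W W σ ∧ ∃ z ∈ Z, σ z = x}

theorem FCl_le {Z W : Subgroup Ω} (h : Z ≤ W) : FCl F Z W ≤ W :=
  (Subgroup.closure_le _).2 fun _ ⟨_, h1, _, h2, e⟩ => e ▸ h1.mem (h h2)

theorem le_FCl {Z W : Subgroup Ω} (h : W ≤ S) : Z ≤ FCl F Z W := fun z hz =>
  Subgroup.subset_closure ⟨1, iso_one F h, z, hz, rfl⟩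

theorem FCl_normal {Z W : Subgroup Ω} (h : Z ≤ W) {F₀ : FusionSystem S} (h0 : F₀.IsSubsystemOf F)
    (hn : F₀.IsNormal W) : F₀.IsNormal (FCl F Z W) := by
  have := finite_of_le ((FCl_le (F := F) h).trans hn.1)
  refine normal_of_invariant hn (FCl_le h) fun σ hσ =>
    (hσ.hom.mono (FCl_le h)).maps_of_mem (img_le_iff.1 ?_)
  rw [FCl, HomOn.img_closure (hσ.hom.mono (FCl_le h)), Subgroup.closure_le]
  rintro _ ⟨_, ⟨τ, h1, z, h2, rfl⟩, rfl⟩
  exact Subgroup.subset_closure ⟨σ * τ, (hσ.of_sub h0).mul h1, z, h2, rfl⟩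

theorem ft_le (hW₁ : IsCharPFunctor.{u} p W₁) (hW₂ : IsCharPFunctor.{u} p W₂)
    (hG : ∀ (G : Type u) [Group G] [Finite G], CC(pCore p G) ≤ pCore p G →
      ¬ H4.IsSec (qd p) (⊤ : Subgroup G) → FacZ p W₂ G)
    (hS : IsPGroup p S) (hF : F.IsSaturated p) (h : ¬ QdInv p F)
    (hZ₁ : ZO p S ≤ inducedFunctor W₁ S) (hZ₂ : ZO p S ≤ inducedFunctor W₂ S) :
    FCl F (ZO p S) (inducedFunctor W₁ S) ≤ FCl F (ZO p S) (inducedFunctor W₂ S) := by
  obtain ⟨F₁, k1, k2, k3, k4⟩ := exists_nsys_top hS hF (iF_le W₁ S) (iF_le_normalizer hW₁ hS)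
  refine (Subgroup.closure_le _).2 ?_
  rintro _ ⟨σ, h1, z, hz, rfl⟩
  have h2 : Iso F₁ _ _ σ := ⟨k4 _ σ le_rfl Subgroup.le_normalizer h1.mor h1.maps, h1.maps⟩
  obtain ⟨τ, h3, h4⟩ := ft_key hW₂ hG hS k1 (fun h' => h (h'.mono k2)) hZ₂ k3 hZ₁ h2
  exact Subgroup.subset_closure ⟨τ, h3.of_sub k2, z, hz, h4 z hz⟩

theorem ft_normal (hW₁ : IsCharPFunctor.{u} p W₁) (hW₂ : IsCharPFunctor.{u} p W₂)
    (hG : ∀ (G : Type u) [Group G] [Finite G], CC(pCore p G) ≤ pCore p G →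
      ¬ H4.IsSec (qd p) (⊤ : Subgroup G) → FacZ p W₁ G ∧ FacZ p W₂ G ∧ FacN p W₁ W₂ G)
    (hS : IsPGroup p S) (hF : F.IsSaturated p) (h : ¬ QdInv p F)
    (hZ₁ : ZO p S ≤ inducedFunctor W₁ S) (hZ₂ : ZO p S ≤ inducedFunctor W₂ S) :
    F.IsNormal (FCl F (ZO p S) (inducedFunctor W₁ S)) := by
  have e := le_antisymm (ft_le hW₁ hW₂ (fun G _ _ a b => (hG G a b).2.1) hS hF h hZ₁ hZ₂)
    (ft_le hW₂ hW₁ (fun G _ _ a b => (hG G a b).1) hS hF h hZ₂ hZ₁)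
  obtain ⟨F₁, -, k2, k3, k4⟩ := exists_nsys_top hS hF (iF_le W₁ S) (iF_le_normalizer hW₁ hS)
  obtain ⟨F₂, -, l2, l3, l4⟩ := exists_nsys_top hS hF (iF_le W₂ S) (iF_le_normalizer hW₂ hS)
  have n1 := FCl_normal hZ₁ k2 k3
  have n2 := e ▸ FCl_normal hZ₂ l2 l3
  obtain ⟨F₀, -, m2, m3, m4⟩ := exists_nsys_top hS hF n1.1 (normal_le_normalizer n1)
  exact fs_antisymm m2 (ft_machine hW₁ hW₂ (fun G _ _ a b => (hG G a b).2.2) F F₀ hS hF le_rfl h
    (k4.trans ((m4.mono k2).sub n1)) (l4.trans ((m4.mono l2).sub n2))) ▸ m3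

theorem ZO_le_iF (h : ∀ (Q : Type u) [Group Q] [Finite Q], ZO p (⊤ : Subgroup Q) ≤ W Q) :
    ZO p S ≤ inducedFunctor W S := by
  conv_lhs => rw [← map_top_subtype S, ← map_ZO_of_injective S.subtype_injective]
  exact Subgroup.map_mono (h S)

theorem ft_core_two (hS : IsPGroup 2 S) (hF : F.IsSaturated 2) (h : ¬ QdInv 2 F) (h0 : S ≠ ⊥) :
    F.core ≠ ⊥ := fun e => by
  have h1 := ft_normal charP_WJ charP_WH (fun G _ _ a b => by
    have := gs.gf (charPIn_top' a) fun h => b (isSec_qd_iff.2 h)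
    exact ⟨this.facZ_J, this.facZ_H, this.facN⟩) hS hF h
    (ZO_le_iF fun Q _ _ => (ZO_le_JT ⊤).trans JT_top.le) (ZO_le_iF fun Q _ _ => ZO_le_ZO_JH ⊤)
  exact ZO_ne_bot hS h0 (le_bot_iff.1 (e ▸ (le_FCl (iF_le _ S)).trans (le_core h1)))

theorem ft_core (hS : IsPGroup p S) (hF : F.IsSaturated p) (h : ¬ QdInv p F) (h0 : S ≠ ⊥) :
    F.core ≠ ⊥ := by
  by_cases hp : p = 2
  · subst hp; exact ft_core_two hS hF h h0
  · exact fun e => iF_ne_bot (isCharPFunctor_centerThompsonOf (Or.inl rfl)) hS h0 (le_bot_iff.1 (by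
      rw [inducedFunctor_centerThompsonOf]
      exact e ▸ le_core (normal_zj_of_not_qdInv hp (Or.inl rfl) hS hF h)))

theorem ft_solv (hS : IsPGroup p S) (hF : F.IsSaturated p) (h : ¬ QdInv p F) :
    F.IsSolvableSystem := by
  intro R hR hne _ E hE
  obtain ⟨h1, h2⟩ := H14.Fus.isFactorSystem_iff.1 hE
  have h3 := h2.fac hS hF (h1.symm ▸ hR)
  exact ft_core (h3.isPGroup hS) (h3.saturated hS hF) (fun h' => h (h'.of_fac h3))
    (Fac.ne_bot h3 (h1.symm ▸ hne))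

theorem ft_constrained (hS : IsPGroup p S) (hF : F.IsSaturated p) (h : ¬ QdInv p F) :
    F.IsConstrained p :=
  ((H14.Fus.solv_iff hS hF).1 (ft_solv hS hF h)).constrained hS hF

open scoped MatrixGroups in
theorem isSec_sl2_of_qdInv (h : QdInv p F) :
    ∃ T ≤ S, H4.IsSec SL(2, ZMod p) (⊤ : Subgroup (F.autGroup T)) := by
  obtain ⟨T, π, h1, h2, h3⟩ := h
  have hT : T ≤ S := (h3 1).choose_spec.1.le
  let K : Subgroup (Perm Ω) :=
    { carrier := {g | g ∈ AutF F T ∧ ∃ M : SL(2, ZMod p), ∀ x ∈ T, (π (g x)).toAdd = M • (π x).toAdd}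
      one_mem' := ⟨one_mem _, 1, fun x _ => by simp⟩
      mul_mem' := by
        rintro a b ⟨ha, M, hM⟩ ⟨hb, N, hN⟩
        exact ⟨mul_mem ha hb, M * N, fun x hx => by
          rw [mul_smul, ← hN x hx, ← hM _ ((maps_of_mem_autF hb).mem hx), mul_ap]⟩
      inv_mem' := by
        rintro a ⟨ha, M, hM⟩
        exact ⟨inv_mem ha, M⁻¹, fun x hx => by
          rw [eq_inv_smul_iff, ← hM _ ((maps_of_mem_autF ha).inv_mem hx), ap_inv]⟩ }
  have hK : ∀ g : K, ∃ M : SL(2, ZMod p), ∀ x ∈ T, (π (g.1 x)).toAdd = M • (π x).toAdd :=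
    fun g => g.2.2
  choose φ hφ using hK
  have uniq : ∀ (g : K) (M : SL(2, ZMod p)), (∀ x ∈ T,
      (π (g.1 x)).toAdd = M • (π x).toAdd) → φ g = M := fun g M hM =>
    sl2_eq_of_smul fun v => by
      obtain ⟨x, hx, e⟩ := h2 (Multiplicative.ofAdd v)
      have : v = (π x).toAdd := by rw [e]; rfl
      rw [this, ← hM x hx, hφ g x hx]
  let φ' : K →* SL(2, ZMod p) := MonoidHom.mk' φ fun a b => uniq _ _ fun x hx => by
    rw [mul_smul, ← hφ b x hx, ← hφ a _ ((maps_of_mem_autF b.2.1).mem hx)]; rfl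
  refine ⟨T, hT, IsSec.of_equiv (autEquiv F T) (H4.IsSec.top_subgroup
    ⟨K, φ', fun _ h => h.1, fun M => ?_⟩)⟩
  obtain ⟨α, h4, h5⟩ := h3 M
  have h6 : ∀ x ∈ T, (π (rs T α x)).toAdd = M • (π x).toAdd := fun x hx => by
    rw [rs_apply h4.maps hx, h5 x hx]
  exact ⟨⟨rs T α, h4.rs_mem, M, h6⟩, uniq _ _ h6⟩

open scoped MatrixGroups in
theorem isSec_s3_sl2 : H4.IsSec (Perm (Fin 3)) (⊤ : Subgroup SL(2, ZMod 2)) :=
  isSec_s3 (n := ⟨!![0, 1; 1, 0], by decide⟩) (y := om2) (j := 1) (k := 1) trivial trivial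
    (by decide) (by decide) (by decide) (by decide)

end H10
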