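import Cfsg.Agent.H10.FrakM

/-!
The family `ℌ_G(O_p(M))`.
-/

set_option autoImplicit false

namespace H10

open Cfsg

variable {G : Type*} [Group G] {p : ℕ}

theorem frakH_eq {M H P : Subgroup G} (h : IsInFrakH p M H) (h1 : pCoreOf p M ≤ P) (h2 : P ≤ H)
    (h3 : ¬ YOf p M ≤ pCoreOf p P) : P = H := by
  by_contra hne
  exact h3 (h.2.2.2 P h1 (lt_of_le_of_ne h2 hne))

theorem frakH_eq_of_subn {M H P : Subgroup G} (h : IsInFrakH p M H) (h1 : pCoreOf p M ≤ P)
    (h2 : SubnIn P H) : P = H :=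
  frakH_eq h h1 h2.le fun h3 => h.2.2.1 (h3.trans h2.pCoreOf_le)

theorem frakH_ncl {M H : Subgroup G} (h : IsInFrakH p M H) : ncl (pCoreOf p M) H = H :=
  frakH_eq_of_subn h (le_ncl _ _) (subnIn_of_normal (ncl_le_of_le h.2.1) (le_NN_ncl _ _))

variable [hp : Fact p.Prime] [Finite G]

theorem frakH_resOf_sup {M H : Subgroup G} (h : IsInFrakH p M H) : resOf p H ⊔ pCoreOf p M = H :=
  frakH_eq_of_subn h le_sup_right (subnIn_of_resOf_le le_sup_left (sup_le (resOf_le H) h.2.1))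

theorem frakH_Y_le {M H : Subgroup G} (h : IsInFrakH p M H) : YOf p M ≤ H :=
  (pRed_YOf M).le_pCoreOf.trans h.2.1

theorem frakH_comm {M H : Subgroup G} (h : IsInFrakH p M H) : ⁅resOf p H, YOf p M⁆ = resOf p H := by
  have hY := pRed_YOf (p := p) M
  have hYH := frakH_Y_le h
  have hRY : pCoreOf p M ≤ NN(YOf p M) := (pCoreOf_le M).trans hY.nn
  have hRK : pCoreOf p M ≤ NN(⁅resOf p H, YOf p M⁆) :=
    le_NN_commutator (h.2.1.trans (le_NN_resOf H)) hRY
  have hK : ⁅resOf p H, YOf p M⁆ ≤ resOf p H := comm_le_left (hYH.trans (le_NN_resOf H))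
  have hle : ⁅resOf p H, YOf p M⁆ ⊔ pCoreOf p M ≤ H := sup_le (hK.trans (resOf_le H)) h.2.1
  refine le_antisymm hK ?_
  have e : ⁅resOf p H, YOf p M⁆ ⊔ pCoreOf p M = H := by
    refine frakH_eq h le_sup_right hle fun h3 => h.2.2.1 ?_
    have h4 : H ≤ NN(ncl (YOf p M) (resOf p H)) := (frakH_resOf_sup h).ge.trans
      (sup_le (le_NN_ncl _ _) (le_NN_ncl' hRY (h.2.1.trans (le_NN_resOf H))))
    have h5 : ncl (YOf p M) (resOf p H) ≤ ⁅resOf p H, YOf p M⁆ ⊔ pCoreOf p M := by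
      rw [ncl_eq_comm_sup]; exact sup_le_sup_left hY.le_pCoreOf _
    exact (le_pCoreOf_of_le h5 (le_ncl _ _) h3).trans (pCoreOf_le_of_normal (h5.trans hle) h4)
  conv_lhs => rw [← e]
  exact resOf_sup_le (isPGroup_pCoreOf M) hRK

theorem frakH_ncl_Y {M H : Subgroup G} (h : IsInFrakH p M H) :
    ncl (YOf p M) H = resOf p H ⊔ YOf p M := by
  have hY := pRed_YOf (p := p) M
  refine le_antisymm (ncl_le le_sup_right ?_) (sup_le ((frakH_comm h).ge.trans
    ((Subgroup.commutator_mono (resOf_le H) le_rfl).trans (comm_le_ncl _ _))) (le_ncl _ _))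
  exact (frakH_resOf_sup h).ge.trans (sup_le (le_sup_left.trans (le_NN_self _))
    (le_NN_sup (h.2.1.trans (le_NN_resOf H)) ((pCoreOf_le M).trans hY.nn)))

/-- a normal subgroup of `H ∈ ℌ` not containing `O^p(H)` is centralized mod `O_p(H)` -/
theorem frakH_comm_le {M H N : Subgroup G} (h : IsInFrakH p M H) (hN : N ≤ H) (hn : H ≤ NN(N))
    (h0 : ¬ resOf p H ≤ N) : ⁅resOf p H, N⁆ ≤ pCoreOf p H := by
  have hle : N ⊔ pCoreOf p M ≤ H := sup_le hN h.2.1
  have h1 : YOf p M ≤ pCoreOf p (N ⊔ pCoreOf p M) := by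
    by_contra h1
    refine h0 ?_
    rw [← frakH_eq h le_sup_right hle h1]
    exact resOf_sup_le (isPGroup_pCoreOf M) (h.2.1.trans hn)
  have h2 : ⁅YOf p M, N⁆ ≤ pCoreOf p H := by
    refine le_trans (le_inf ((Subgroup.commutator_mono h1 le_sup_left).trans
      (comm_le_left (le_NN_pCoreOf _))) (comm_le_right ((frakH_Y_le h).trans hn))) ?_
    exact (pCoreOf_inf_le le_sup_left).trans (pCoreOf_le_of_normal hN hn)
  refine le_trans (Subgroup.commutator_mono ?_ le_rfl)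
    (comm_ncl_le h2 ((frakH_Y_le h).trans (le_NN_pCoreOf H)) hn (le_NN_pCoreOf H))
  rw [frakH_ncl_Y h]; exact le_sup_left

end H10
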