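import Cfsg.Agent.H10.GG1
import Cfsg.Agent.H26.JRe3
import Cfsg.Agent.H26.JRd

/-!
Groups of Janko-Ree type involve `S₃`; the simple `S₃`-free groups.
-/

set_option autoImplicit false
set_option linter.unusedSectionVars false

namespace H10

open Cfsg H4
open scoped MatrixGroups

universe u

local notation "S3" => Equiv.Perm (Fin 3)

variable {G : Type u} [Group G] [Finite G]

theorem exists_jr_of_tr (hs : IsSimpleGroup G) (h : H5.Gd.TR G) :
    ∃ S : Subgroup G, ∃ p n ρ τ f, H26.J.JR S p n ρ τ f := by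
  obtain ⟨S, hS⟩ := exists_isSylowIn 2 (⊤ : Subgroup G)
  exact ⟨S, H26.J.exists_jr hs (H16.GD.rf_of_tr (h.of_equiv Subgroup.topEquiv.symm) hS)⟩

theorem isSec_s3_of_tr (hs : IsSimpleGroup G) (h : H5.Gd.TR G) : IsSec S3 (⊤ : Subgroup G) := by
  obtain ⟨S, p, n, ρ, τ, f, h⟩ := exists_jr_of_tr hs h
  obtain ⟨t, ht, h1⟩ := h.exists_inv
  have o := h.ord ht h1
  have l := h.lf t o
  by_cases hp : p = 3
  · subst hp
    obtain ⟨s, P, Y, c⟩ := h.exists_c3 rfl ht h1
    obtain ⟨Q, B, q⟩ := h.exists_uq c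
    have k1 := q.cube_le h c
    have k2 := (h.c3_card rfl c).1
    have k3 := q.q_ge h c
    obtain ⟨x, hx, x1⟩ : ∃ x ∈ Q, x ∉ Subgroup.centralizer {t} := by
      by_contra! e
      rw [← q.inf, inf_eq_left.2 e] at k2
      rw [k2] at k1
      have := Nat.pow_lt_pow_right (show 1 < 3 ^ n by omega) (show 1 < 3 by norm_num)
      rw [pow_one] at this
      omega
    have k4 := Q.mul_mem (Q.inv_mem hx) (conj_mem_of_mem_NN (q.le_norm h c (q.t_mem h c)) hx)
    haveI := Fact.mk Nat.prime_three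
    obtain ⟨k, hk⟩ := isPGroup_iff_mem.1 (H16.pg_iff.1 (q.pg h c)) _ k4
    have t2 : t⁻¹ = t := H26.J.inv_of_ord o
    have t3 : t * t = 1 := H26.J.sq_of_ord o
    refine isSec_s3 (n := t) (j := 1) trivial trivial (by rw [pow_one, pow_two, t3]) hk
      (fun e => x1 (Subgroup.mem_centralizer_singleton_iff.2 ?_)) ?_
    · rw [inv_mul_eq_one, eq_mul_inv_iff_mul_eq] at e; exact e
    · calc _ = t * x⁻¹ * t * x * (t * t)⁻¹ := by group
        _ = _ := by rw [t3]; nth_rw 2 [← t2]; group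
  · obtain ⟨F, _, _, e1, ⟨e⟩⟩ := l.psl
    haveI := Fact.mk l.prime
    haveI := charP_of_card_eq_prime_pow e1
    refine (IsSec.of_equiv e (isSec_s3_psl2_odd (e1 ▸ l.odd_q) fun e => hp ?_)).of_subgroup.mono le_top
    exact (Nat.prime_dvd_prime_iff_eq l.prime Nat.prime_three).1 ((CharP.cast_eq_zero_iff F p 3).1 e)

theorem sz_of_not_isSec_s3 (hs : IsSimpleGroup G) (hn : ¬ IsMulCommutative G)
    (h3 : ¬ IsSec S3 (⊤ : Subgroup G)) : IsSuzukiOrPSL2OddPowerThree G := by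
  rcases gs.types' hn (fun k => h3 (k.trans isSec_s3_s4)) with k | ⟨k, F, _, _, h1, -, ⟨e⟩⟩ | k
  · exact Or.inl (tri_sz (k.1.tri hs hn) h3)
  · exact (s3_or_of_psl2 (psl2_mod_eight h1 (Nat.card_congr e.toEquiv ▸ k)) e).resolve_left h3
  · exact absurd (isSec_s3_of_tr hs k) h3

end H10
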