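import Cfsg.Agent.H10.GG2
import Cfsg.Agent.H26.JRz
import Cfsg.Agent.H26.JRU

/-!
Groups of Janko-Ree type are Goldschmidt groups.
-/

set_option autoImplicit false
set_option linter.unusedSectionVars false

namespace H10

open Cfsg H4

universe u

variable {G : Type u} [Group G] [Finite G]

theorem gold_of_tr (hs : IsSimpleGroup G) (h : H5.Gd.TR G) : IsGoldschmidtGroup G := by
  obtain ⟨S, p, n, ρ, τ, f, h⟩ := exists_jr_of_tr hs h
  rcases h.three_or with rfl | rfl
  · obtain ⟨t, ht, h1⟩ := h.exists_inv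
    have o := h.ord ht h1
    have l := h.lf t o
    obtain ⟨F, _, _, e1, e⟩ := l.psl
    obtain ⟨m, rfl⟩ := l.odd_n
    have k1 := (l.minus_of_three rfl).2.2
    have k2 : H26.J.Et t = H26.J.Lt t := le_antisymm
      (Subgroup.relIndex_eq_one.1 ((h.relIndex o).trans h.main.1)) (h.Lt_le o)
    have k3 : S ≤ Subgroup.centralizer {t} := fun x hx =>
      Subgroup.mem_centralizer_singleton_iff.2 (mem_CC.1 (h.comm ht) x hx)
    refine Or.inl ⟨hs, h.not_comm, t, H26.J.Lt t, m, by omega, o, ?_, ⟨?_, H26.J.Lt_le_cent t, ?_, ?_, ?_⟩,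
      F, _, _, e1, e⟩
    · have := h.rf.odd
      rw [Subgroup.relIndex_top_right] at this
      exact this.of_dvd_nat (Subgroup.index_dvd_of_le k3)
    · exact Subgroup.zpowers_le.2 (Subgroup.mem_centralizer_singleton_iff.2 rfl)
    · rintro _ ⟨k, rfl⟩ b hb
      exact ((show Commute b t from Subgroup.mem_centralizer_singleton_iff.1
        (H26.J.Lt_le_cent t hb)).zpow_right k).symm
    · refine eq_bot_iff.2 fun x hx => ?_
      rcases H26.J.mem_zp2 o hx.1 with rfl | rfl
      · exact one_mem _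
      · exact absurd hx.2 (h.not_mem_Lt o)
    · rw [h.cent_eq o, k2]
  · exact Or.inr (Or.inr (Or.inr (Or.inr (Or.inr h.isoJ1))))

theorem gold_of_types (hs : IsSimpleGroup G) (hn : ¬ IsMulCommutative G)
    (h : H5.Gd.TB G ∨ H5.Gd.TD G ∨ H5.Gd.TR G) : IsGoldschmidtGroup G :=
  h.elim (gold_of_tb hs hn) fun h => h.elim gold_of_td (gold_of_tr hs)

end H10
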