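import Cfsg.Agent.H3.Hd2

/-! Fixed points of elements of a self-centralizing `E₈` on the centralizer of a normal `E₈`. -/

set_option autoImplicit false
set_option linter.unusedSectionVars false

open Subgroup Cfsg.Agent.H3 Cfsg.Agent.H3.Hd
open scoped commutatorElement

namespace H10.Good

variable {G : Type*} [Group G] [Finite G] {A B H K Y : Subgroup G} [B.Normal] {a : G}

theorem cent2 {N : Subgroup G} (h : N ≤ A) (hc : Nat.card A ≤ 2 * Nat.card N) (ha : a ∈ A)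
    (aN : a ∉ N) {x : G} (h1 : ∀ y ∈ N, y * x = x * y) (h2 : x * a = a * x) :
    x ∈ centralizer (A : Set G) := fun y hy => by
  by_cases e : y ∈ N
  · exact h1 y e
  have h3 : Commute (y * a⁻¹) x :=
    h1 _ (H17.Mw.two_mul h hc hy (inv_mem ha) e (by rwa [inv_mem_iff]))
  have := h3.mul_left (show Commute a x from h2.symm)
  rwa [inv_mul_cancel_right] at this

theorem memq (x y : G) : x ∈ (centralizer {(y : G ⧸ B)}).comap (QuotientGroup.mk' B) ↔
    x * y * x⁻¹ * y⁻¹ ∈ B := by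
  rw [mem_comap, mem_centralizer_singleton_iff, ← QuotientGroup.eq_one_iff]
  simp only [QuotientGroup.mk'_apply, QuotientGroup.mk_mul, QuotientGroup.mk_inv, mul_inv_eq_one,
    mul_inv_eq_iff_eq_mul, one_mul]

theorem exz (h : St A B) : ∃ z ∈ A ⊓ B, z ≠ 1 := by
  obtain ⟨z, hz, z1, -, zc⟩ := H9.exists_central_step h.hG (M := B) (N := ⊥) fun e => by
    have := card_le_of_le e
    rw [h.c8, card_bot] at this
    omega
  refine ⟨z, ⟨h.cA.le fun g _ => ?_, hz⟩, fun e => z1 (e ▸ one_mem _)⟩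
  have := zc g
  rw [mem_bot, commutatorElement_eq_one_iff_mul_comm] at this
  exact this.symm

theorem two0 (h : St A B) : 2 ≤ Nat.card ↥(A ⊓ B) := by
  obtain ⟨z, hz, z1⟩ := exz h
  have := H12.SR.two_le (L := ⊥) (T := A ⊓ B) (bot_lt_iff_ne_bot.2 fun e => z1 (mem_bot.1 (e ▸ hz)))
  rwa [card_bot] at this

theorem ac (h : St A B) : A ⊓ centralizer (B : Set G) ≤ B := by
  by_cases e : A ≤ centralizer (B : Set G)
  · have h1 : B ≤ A := fun b hb => h.cA.le fun y hy => (e hy b hb).symm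
    rw [eq_of_le_of_card_ge h1 (by rw [h.a8, h.c8])]
    exact inf_le_left
  obtain ⟨a', ha', a1⟩ := SetLike.not_le_iff_exists.1 e
  by_contra hh
  have h1 := H12.SR.two_le (L := A ⊓ centralizer (B : Set G)) (T := A)
    (lt_of_le_of_ne inf_le_left fun e' => a1 (e'.ge ha').2)
  have h2 := H12.SR.two_le (L := A ⊓ B) (T := A ⊓ centralizer (B : Set G))
    (lt_of_le_of_ne (inf_le_inf_left _ h.BC) fun e' => hh (e'.ge.trans inf_le_right))
  have h3 := two0 h
  have h4 := (tv h.c8 h.e2 h.ab (h.a2 _ ha') a1).1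
  rw [h.a8] at h1
  have h5 : B ⊓ centralizer {a'} ≤ A ⊓ centralizer (B : Set G) := fun x hx =>
    ⟨h.cA.le (cent2 (N := A ⊓ centralizer (B : Set G)) inf_le_left (by rw [h.a8]; omega) ha'
      (fun e' => a1 e'.2) (fun y hy => (hy.2 x hx.1).symm) (mem_centralizer_singleton_iff.1 hx.2)),
      h.BC hx.1⟩
  exact hh ((eq_of_le_of_card_ge h5 (by omega)).ge.trans inf_le_left)

theorem gd (h : St A B) (ha : a ∈ A) (aB : a ∉ B) :
    centralizer (B : Set G) ⊓ centralizer {a} ≤ B := by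
  have aC : a ∉ centralizer (B : Set G) := fun e => aB (ac h ⟨ha, e⟩)
  set W : Subgroup G := centralizer (B : Set G) ⊓ centralizer {a} with hW
  by_cases e : A ≤ centralizer (W : Set G)
  · exact fun x hx => ac h ⟨h.cA.le fun y hy => (e hy x hx).symm, hx.1⟩
  obtain ⟨a2, ha2, a1⟩ := SetLike.not_le_iff_exists.1 e
  have h1 := H12.SR.two_le (L := A ⊓ centralizer (W : Set G)) (T := A)
    (lt_of_le_of_ne inf_le_left fun e' => a1 (e'.ge ha2).2)
  have h2 := H12.SR.two_le (L := A ⊓ B) (T := A ⊓ centralizer (W : Set G))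
    (lt_of_le_of_ne (inf_le_inf_left _ fun b hb x hx => (hx.1 b hb).symm) fun e' =>
      aB (e'.ge ⟨ha, fun x hx => mem_centralizer_singleton_iff.1 hx.2⟩).2)
  have h3 := two0 h
  have h4 := (tv h.c8 h.e2 h.ab (h.a2 _ ha) aC).1
  rw [h.a8] at h1
  have h5 : ∀ x ∈ W, x ∈ centralizer {a2} → x ∈ A ⊓ B := fun x hx hx2 => by
    have : x ∈ A := h.cA.le (cent2 (N := A ⊓ centralizer (W : Set G)) inf_le_left
      (by rw [h.a8]; omega) ha2 (fun e' => a1 e'.2) (fun y hy => (hy.2 x hx).symm)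
      (mem_centralizer_singleton_iff.1 hx2))
    exact ⟨this, ac h ⟨this, hx.1⟩⟩
  have nW : ∀ g ∈ A, ∀ x ∈ W, g * x * g⁻¹ ∈ W := fun g hg x hx =>
    ⟨Normal.conj_mem inferInstance x hx.1 g, (centralizer {a}).mul_mem ((centralizer {a}).mul_mem
      (mem_centralizer_singleton_iff.2 (h.aab hg ha)) hx.2)
      ((centralizer {a}).inv_mem (mem_centralizer_singleton_iff.2 (h.aab hg ha)))⟩
  set X : Subgroup G := W ⊓ (centralizer {(a2 : G ⧸ B)}).comap (QuotientGroup.mk' B) with hX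
  have h6 : Nat.card X ≤ Nat.card ↥(centralizer {a2} ⊓ X) * Nat.card ↥(A ⊓ B) := bd fun x hx => by
    have c1 := (memq x a2).1 hx.2
    refine h5 _ ?_ (cinv (h.a2 _ ha2) (h.e2 _ c1))
    have := W.mul_mem hx.1 (nW a2 ha2 _ (W.inv_mem hx.1))
    simpa only [mul_assoc] using this
  have h7 : Nat.card ↥(centralizer {a2} ⊓ X) ≤ Nat.card ↥(A ⊓ B) :=
    card_le_of_le fun x hx => h5 x hx.2.1 hx.1
  have h8 : B ⊓ centralizer {a} ≤ X := fun x hx => ⟨⟨h.BC hx.1, hx.2⟩, (memq x a2).2 (by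
    have := B.mul_mem hx.1 (Normal.conj_mem inferInstance _ (B.inv_mem hx.1) a2)
    simpa only [mul_assoc] using this)⟩
  have h9 : X ≤ B := (eq_of_le_of_card_ge h8 (by
    have : Nat.card ↥(A ⊓ B) = 2 := by omega
    rw [this] at h6 h7
    omega)).ge.trans inf_le_left
  by_contra hh
  haveI := h.hG.isNilpotent
  obtain ⟨x, hx, x1, xc⟩ := H9.exists_not_mem_commutator_mem (M := W) (N := B) (H := zpowers a2)
    (fun g hg => by
      have hg' : g ∈ A := zpowers_le_of_mem ha2 hg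
      refine mem_normalizer_iff.2 fun x => ⟨nW g hg' x, fun hx => ?_⟩
      simpa [mul_assoc] using nW _ (inv_mem hg') _ hx) hh
  exact x1 (h9 ⟨hx, (memq x a2).2 (xc a2 (mem_zpowers a2))⟩)

theorem good (h : St A B) : Gd A B := by
  refine ⟨ac h, fun a ha aB => gd h ha aB, fun a ha aB X hX hc => ?_⟩
  have h4 := (tv h.c8 h.e2 h.ab (h.a2 _ ha) fun e => aB (ac h ⟨ha, e⟩)).1
  have h1 : Nat.card X ≤ Nat.card ↥(centralizer {a} ⊓ X) * Nat.card ↥(B ⊓ centralizer {a}) :=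
    bd fun x hx => ⟨hc x hx, cinv (h.a2 _ ha) (h.e2 _ (hc x hx))⟩
  have h2 : Nat.card ↥(centralizer {a} ⊓ X) ≤ Nat.card ↥(B ⊓ centralizer {a}) :=
    card_le_of_le fun x hx => ⟨gd h ha aB ⟨hX hx.2, hx.1⟩, hx.1⟩
  rw [h4] at h1 h2
  omega

end H10.Good
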