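import Cfsg.Agent.H10.JC4
import Cfsg.Agent.H10.Compl
import Cfsg.Agent.H6.SE

/-!
`ZN`-groups of local characteristic 2: Kurzweil–Stellmacher 12.3.5–12.3.8.
-/

set_option autoImplicit false
set_option linter.unusedSectionVars false

namespace H10

open Cfsg
open scoped commutatorElement

variable {G : Type*} [Group G] [Finite G]

theorem klein_of_elab {V : Subgroup G} (hV : IsElementaryAbelian 2 V) (h4 : Nat.card V = 4) :
    IsKleinFour V := H6.isKleinFour_of_card h4 fun x hx => by simpa [sq] using hV.2 x hx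

theorem exists_zpowers_of_card_two {A : Subgroup G} (h : Nat.card A = 2) :
    ∃ a, a ≠ 1 ∧ A = Subgroup.zpowers a := by
  obtain ⟨a, ha, ho⟩ := exists_orderOf_eq_of_dvd (p := 2) (L := A) (by rw [h])
  exact ⟨a, ne_one_of_orderOf_eq ho, (Subgroup.eq_of_le_of_card_ge (Subgroup.zpowers_le_of_mem ha)
    (by rw [h, Nat.card_zpowers, ho])).symm⟩

theorem four_three {V A B C D : Subgroup G} (hV : IsElementaryAbelian 2 V) (h4 : Nat.card V = 4)
    (hA : A ≤ V) (hB : B ≤ V) (hC : C ≤ V) (hD : D ≤ V) (cA : Nat.card A = 2)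
    (cB : Nat.card B = 2) (cC : Nat.card C = 2) (cD : Nat.card D = 2) (h1 : A ≠ B) (h2 : C ≠ A)
    (h3 : C ≠ B) (h5 : D ≠ A) (h6 : D ≠ B) : D = C := by
  have := klein_of_elab hV h4
  obtain ⟨a, a1, rfl⟩ := exists_zpowers_of_card_two cA
  obtain ⟨b, b1, rfl⟩ := exists_zpowers_of_card_two cB
  have key : ∀ C : Subgroup G, C ≤ V → Nat.card C = 2 → C ≠ Subgroup.zpowers a →
      C ≠ Subgroup.zpowers b → C = Subgroup.zpowers (a * b) := fun C hC cC h2 h3 => by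
    obtain ⟨c, c1, rfl⟩ := exists_zpowers_of_card_two cC
    have := IsKleinFour.eq_mul_of_ne_all (G := V) (x := ⟨a, hA (Subgroup.mem_zpowers a)⟩)
      (y := ⟨b, hB (Subgroup.mem_zpowers b)⟩) (z := ⟨c, hC (Subgroup.mem_zpowers c)⟩)
      (fun e => a1 (congrArg Subtype.val e)) (fun e => b1 (congrArg Subtype.val e))
      (fun e => h1 (by rw [show a = b from congrArg Subtype.val e]))
      (fun e => c1 (congrArg Subtype.val e))
      (fun e => h2 (by rw [show c = a from congrArg Subtype.val e]))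
      (fun e => h3 (by rw [show c = b from congrArg Subtype.val e]))
    rw [show c = a * b from congrArg Subtype.val this]
  rw [key C hC cC h2 h3, key D hD cD h5 h6]

theorem card_two_of_lt_four {A V : Subgroup G} (h4 : Nat.card V = 4) (h : A < V) (h0 : A ≠ ⊥) :
    Nat.card A = 2 := by
  have := two_mul_card_le h
  have := two_le_card h0
  omega

theorem IsSylowIn.inf_eq {T L S : Subgroup G} (hT : IsSylowIn 2 T L) (hS : IsPGroup 2 S)
    (hTS : T ≤ S) : S ⊓ L = T := hT.eq_of_le (hS.to_le inf_le_left) (le_inf hTS hT.le) inf_le_right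

theorem elab_le_or {U A B : Subgroup G} (h : ∀ x ∈ U, x ∈ A ∨ x ∈ B) : U ≤ A ∨ U ≤ B := by
  by_contra hc
  push Not at hc
  obtain ⟨x, hx, hx'⟩ := SetLike.not_le_iff_exists.1 hc.1
  obtain ⟨y, hy, hy'⟩ := SetLike.not_le_iff_exists.1 hc.2
  rcases h _ (mul_mem hx hy) with e | e
  · exact hx' ((Subgroup.mul_mem_cancel_right _ ((h y hy).resolve_right hy')).1 e)
  · exact hy' ((Subgroup.mul_mem_cancel_left _ ((h x hx).resolve_left hx')).1 e)

namespace AM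

variable {P₁ P₂ T : Subgroup G} (h : AM P₁ P₂ T) (n1 : ¬ P₁ ≤ CC(ZO 2 T))
  (n2 : ¬ P₂ ≤ CC(ZO 2 T))
include h n1 n2

theorem mem_or {x : G} (hx : x ∈ T) (h2 : x * x = 1) : x ∈ pCoreOf 2 P₁ ∨ x ∈ pCoreOf 2 P₂ := by
  by_contra hc
  push Not at hc
  obtain ⟨a, ha, b, hb, rfl⟩ := (mem_sup_of_NN (h.s1.QT.trans (h.s2.le.trans
    (le_NN_pCoreOf _)))).1 (h.Q_sup.ge hx)
  have ha' : a ∉ pCoreOf 2 P₂ := fun e => hc.2 (mul_mem e hb)
  have e := eq_of_relIndex_prime (E := Subgroup.zpowers a ⊔ pCoreOf 2 P₁ ⊓ pCoreOf 2 P₂)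
    Nat.prime_two h.relIndex_D le_sup_right (sup_le (Subgroup.zpowers_le_of_mem ha) inf_le_left)
    fun e => ha' (e (Subgroup.mem_sup_left (Subgroup.mem_zpowers a))).2
  refine hc.1 (mul_mem ha (h.c1.le (Subgroup.zpowers_le_of_mem (h.s1.le (h.s2.QT hb)))
    (Subgroup.zpowers_le_of_mem ?_) (Subgroup.mem_zpowers b)))
  rw [← e, CC_sup, CC_zpowers]
  exact ⟨Subgroup.mem_centralizer_singleton_iff.2 (H6.commute_of_mul_sq
    (by simpa [sq] using (h.elabQ n1 n2).2 a ha)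
    (by simpa [sq] using (h.symm.elabQ n2 n1).2 b hb) h2).symm,
    CC_anti inf_le_right (elab_le_CC (h.symm.elabQ n2 n1) hb)⟩

theorem elab_le {U : Subgroup G} (hU : IsElementaryAbelian 2 U) (hle : U ≤ T) :
    U ≤ pCoreOf 2 P₁ ∨ U ≤ pCoreOf 2 P₂ :=
  elab_le_or fun x hx => h.mem_or n1 n2 (hle hx) (by simpa [sq] using hU.2 x hx)

omit n1 n2 in
theorem card_QQ : Nat.card (pCoreOf 2 P₁) = Nat.card (pCoreOf 2 P₂) := by
  have e1 := card_eq_of_relIndex h.s1.idx2 h.s1.QT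
  have e2 := card_eq_of_relIndex h.s2.idx2 h.s2.QT
  omega

theorem cj_Q {t : G} (ht : t ∈ NN(T)) (hn : t ∉ NN(pCoreOf 2 P₁)) :
    cj t (pCoreOf 2 P₁) = pCoreOf 2 P₂ :=
  Subgroup.eq_of_le_of_card_ge ((h.elab_le n1 n2 (elab_cj t (h.elabQ n1 n2))
    (cj_le_of_mem_NN ht h.s1.QT)).resolve_left fun e => hn (mem_NN_of_cj_le e))
    (by rw [card_cj, h.card_QQ])

theorem le_ZO_of {t : G} (ht : t ∈ NN(T)) (hn : t ∉ NN(pCoreOf 2 P₁)) {U : Subgroup G}
    (hU : IsElementaryAbelian 2 U) (hle : U ≤ T) (htU : t ∈ NN(U)) : U ≤ ZO 2 T := by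
  have e := h.cj_Q n1 n2 ht hn
  have : U ≤ pCoreOf 2 P₁ ↔ U ≤ pCoreOf 2 P₂ := by
    rw [← e, ← cj_le_cj (g := t), cj_eq_of_mem_NN htU]
  rw [← h.D_eq n1 n2]
  rcases h.elab_le n1 n2 hU hle with a | a
  exacts [le_inf a (this.1 a), le_inf (this.2 a) a]

theorem Q_mem : pCoreOf 2 P₁ ∈ H4.maxAb 2 T := by
  obtain ⟨A, hA⟩ := H4.maxAb_nonempty 2 T
  refine H4.maxAb_of_card_le hA h.s1.QT (h.elabQ n1 n2) ?_
  rcases h.elab_le n1 n2 (H4.maxAb_elemAb hA) (H4.maxAb_le hA) with a | a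
  exacts [Subgroup.card_le_of_le a, h.card_QQ ▸ Subgroup.card_le_of_le a]

theorem JT_eq : JT T = T := le_antisymm (JT_le T) (h.Q_sup.ge.trans
  (sup_le (H4.le_thompsonOf (h.Q_mem n1 n2)) (H4.le_thompsonOf (h.symm.Q_mem n2 n1))))

end AM

namespace ZN

variable (h : ZN G)
include h

theorem ZO_le_ZO {T L S : Subgroup G} (hT : IsSylowIn 2 T L) (hL : IsTwoLocal L) (hTS : T ≤ S) :
    ZO 2 S ≤ ZO 2 T :=
  ZO_le_of_le hTS ((h.ZO_le hT (h.CC_O hL) hTS).trans ((H10.ZO_le _).trans hT.pCoreOf_le))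

theorem not_le_CC {T K L S : Subgroup G} (hS : IsSylowIn 2 S ⊤) (hK : JC T K) (hKL : K ≤ L)
    (e : S ⊓ L = T) : ¬ K ≤ CC(ZO 2 S) := fun hc =>
  hK.not_le_NN (e ▸ hS.isPGroup.to_le inf_le_left) (le_NN_JT (e ▸ le_NN_inf (hc.trans (h.z' hS))
    (hKL.trans (le_NN_self L))))

/-- KS 12.3.5, given a second component -/
theorem center_cases {S T K L K' L' : Subgroup G} (hS : IsSylowIn 2 S ⊤) (hTS : T ≤ S)
    (hK : UQ T K L) (hT : IsSylowIn 2 T L) (hK' : UQ T K' L') (hne : L ≠ L') :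
    (ZO 2 S = ZO 2 (JT T) ∧ Nat.card (ZO 2 (JT T)) = 2) ∨
    (ZO 2 S = ZO 2 (JT T) ∧ Nat.card (ZO 2 (JT T)) = 4 ∧ T = S) ∨
    (ZO 2 T = ZO 2 (JT T) ∧ Nat.card (ZO 2 (JT T)) = 4 ∧
      (L ⊓ CC(ZO 2 (JT T))).relIndex NN(ZO 2 (JT T)) = 2) := by
  have hp := hT.isPGroup
  have h1 := h.ZO_le_ZO hT hK.max.1 hTS
  have h2 := ZO_le_ZO_JT T
  have eT := hT.inf_eq hS.isPGroup hTS
  have h0 : ZO 2 S ≠ ⊥ := ZO_ne_bot hS.isPGroup fun e => hK.jc.ZO_inf_ne_bot hp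
    (le_bot_iff.1 ((inf_le_left.trans ((H10.ZO_le _).trans ((JT_le T).trans hTS))).trans e.le))
  have c1 := hK.jc.card_ZO hp
  have c2 := hK'.jc.card_ZO hp
  have n1 := hK.CC_le le_rfl
  have n2 := hK.inf_eq_bot hK' hne
  have n3 := h.not_le_CC hS hK.jc (le_sup_left.trans hK.le) eT
  have n4 : NN(T) ≤ NN(ZO 2 (JT T)) := le_NN_ZO (le_NN_JT le_rfl)
  have n5 : ZO 2 (JT T) ≤ T := (H10.ZO_le _).trans (JT_le T)
  have n6 : ZO 2 (JT T) ⊓ CC(K') ≤ CC(K' ⊔ JT T) := by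
    rw [CC_sup, inf_comm]
    exact inf_le_inf_left _ (ZO_le_CC _)
  rcases hK.card_le hK' hne hp with h4 | h4
  · exact Or.inl ⟨Subgroup.eq_of_le_of_card_ge (h1.trans h2) (h4.le.trans (two_le_card h0)), h4⟩
  have he := elab_ZO (p := 2) (JT T)
  generalize ZO 2 (JT T) = Z at *
  have c3 : Nat.card (Z ⊓ CC(K) : Subgroup G) = 2 := by omega
  have c4 : Nat.card (Z ⊓ CC(K') : Subgroup G) = 2 := by omega
  replace n1 := n1 fun e => by simp [e] at c3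
  by_cases hTS' : T = S
  · subst hTS'
    refine Or.inr (Or.inl ⟨?_, h4, rfl⟩)
    by_contra hc
    have c5 := card_two_of_lt_four h4 (lt_of_le_of_ne h2 hc) h0
    have hn : ¬ T ≤ NN(Z ⊓ CC(K)) := fun e =>
      n3 (le_CC_symm (le_trans (Subgroup.eq_of_le_of_card_ge (le_ZO (inf_le_left.trans n5)
        (le_CC_symm (le_CC_of_card_two c3 e)) fun a ha => he.2 a ha.1) (by omega)).ge inf_le_right))
    obtain ⟨s, hs, hs'⟩ := SetLike.not_le_iff_exists.1 hn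
    have e0 : cj s (Z ⊓ CC(K)) ≠ ZO 2 T := fun e => by
      rw [cj_eq_iff, cj_eq_of_mem_NN (le_NN_ZO (le_NN_self T) (inv_mem hs))] at e
      exact n3 (le_CC_symm (e.ge.trans inf_le_right))
    have e1 := four_three he h4 h2 inf_le_left inf_le_left
      (cj_le_of_mem_NN (n4 (le_NN_self T hs)) inf_le_left) c5 c3 c4 ((card_cj s _).trans c3)
      (fun e => n3 (le_CC_symm (e.le.trans inf_le_right)))
      (fun e => h.not_le_CC hS hK'.jc le_top (inf_top_eq _)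
        (le_CC_symm (e.ge.trans inf_le_right)))
      (fun e => by rw [← e, inf_assoc, inf_idem] at n2; simp [n2] at c4)
      e0 fun e => hs' (mem_NN.2 e)
    refine hne (hK'.eq hK.max ((le_CC_symm n6).trans ((CC_le_NN _).trans ?_)))
    rw [← e1, ← cj_normalizer]
    exact cj_le_of_mem (hT.le hs) n1
  · have hlt := lt_inf_NN hS.isPGroup (lt_of_le_of_ne hTS hTS')
    have hC : CC(Z) ≤ L := (CC_anti inf_le_left).trans ((CC_le_NN _).trans n1)
    have hP : ¬ S ⊓ NN(T) ≤ L := fun e => hlt.not_ge ((le_inf inf_le_left e).trans eT.le)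
    have h5 := four_pgroup_relIndex he h4 (hS.isPGroup.to_le (inf_le_left (b := NN(T))))
      (inf_le_right.trans n4)
    have h6 : T ≤ CC(Z) := by
      by_contra hc
      exact hP ((le_sup_of_relIndex_two h5 hlt.le hc).trans (sup_le hT.le (inf_le_right.trans hC)))
    refine Or.inr (Or.inr ⟨le_antisymm h2 (le_ZO n5 (le_CC_symm h6) he.2), h4, ?_⟩)
    rw [inf_eq_right.2 hC]
    have hk := klein_of_elab he h4
    have h7 := H6.four_relIndex_dvd hk (le_refl NN(Z))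
    have h8 : CC(Z).relIndex NN(Z) ≠ 1 := fun e =>
      hP ((inf_le_right.trans n4).trans ((Subgroup.relIndex_eq_one.1 e).trans hC))
    have h9 : ¬ 3 ∣ CC(Z).relIndex NN(Z) := fun e => by
      obtain ⟨g, hg, ho, hg'⟩ := H6.exists_odd_not_mem e
      obtain ⟨⟨z, hz⟩, hz1⟩ := Subgroup.ne_bot_iff_exists_ne_one.1 h0
      obtain ⟨w, hw1, hw⟩ := exists_zpowers_of_card_two c3
      obtain ⟨n, -, hn⟩ := H6.four_odd_conj hk ho hg hg' (h2 (h1 hz))
        (fun e => hz1 (Subtype.ext e)) (hw.ge (Subgroup.mem_zpowers w)).1 hw1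
      have h3 : cj n S ≤ L := by
        refine le_trans ?_ ((CC_le_NN _).trans n1)
        rw [hw, ← hn, ← cj_zpowers, ← cj_centralizer]
        exact cj_mono n ((le_CC_ZO S).trans (CC_anti (Subgroup.zpowers_le_of_mem hz)))
      have := hT.card_le (isPGroup_cj n hS.isPGroup) h3
      rw [card_cj] at this
      exact hTS' (Subgroup.eq_of_le_of_card_ge hTS this)
    have := Nat.le_of_dvd (by omega) h7
    generalize CC(Z).relIndex NN(Z) = m at *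
    interval_cases m <;> omega

end ZN

/-- two components with different maximal `2`-local overgroups -/
structure PP (T K₁ L₁ K₂ L₂ : Subgroup G) : Prop where
  zn : ZN G
  u1 : UQ T K₁ L₁
  u2 : UQ T K₂ L₂
  s1 : IsSylowIn 2 T L₁
  s2 : IsSylowIn 2 T L₂
  ne : L₁ ≠ L₂

theorem UQ.le_NN {T K L : Subgroup G} (h : ZN G) (hK : UQ T K L) (hT : IsSylowIn 2 T L)
    (e : ZO 2 T = ZO 2 (JT T)) : T ≤ NN(K) := fun g hg => by
  obtain ⟨F, hF⟩ := h.ls_local hT hK.max.1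
  refine hF.mem_NN_of_inf hK.jc (le_sup_left.trans hK.le) (hT.le hg) fun e1 =>
    hK.jc.ZO_inf_ne_bot hT.isPGroup (le_bot_iff.1 (le_trans (le_inf inf_le_right ?_) e1.le))
  rw [← e, le_cj_iff, cj_eq_of_mem_NN (((le_CC_ZO T).trans ((CC_anti inf_le_left).trans
    (CC_le_NN _))) (inv_mem hg))]
  exact inf_le_right

theorem UQ.s3 {T K L : Subgroup G} (h : ZN G) (hK : UQ T K L) (hT : IsSylowIn 2 T L)
    (hn : T ≤ NN(K)) : S3 (K ⊔ T) T := by
  obtain ⟨F, hF⟩ := h.ls_local hT hK.max.1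
  have k3 := hK.jc.k3
  have hO : pCoreOf 2 K ≤ T := (hF.jc_O hK.jc (le_sup_left.trans hK.le)).trans hF.QT
  have h1 : ¬ ⁅K, T⁆ ≤ pCoreOf 2 K := fun e => hK.jc.not_comm_le (isPGroup_pCoreOf K)
    ((Subgroup.commutator_mono le_rfl (JT_le T)).trans e)
  have h2 := k3.relIndex_stab hn h1
  rw [← Subgroup.inf_relIndex_left] at h2
  have h3 : T ⊓ stabMod K (pCoreOf 2 K) ≤ pCoreOf 2 (K ⊔ T) := by
    refine le_pCoreOf (hT.isPGroup.to_le inf_le_left) (inf_le_left.trans le_sup_right)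
      (sup_le (le_NN_of_comm_le_left ((le_stabMod.1 inf_le_right).2.trans (le_inf hO
        (le_stabMod.2 ⟨le_NN_self _, comm_le_left (le_NN_pCoreOf K)⟩))))
        (le_NN_of_relIndex_two h2 inf_le_left))
  refine ⟨le_sup_right, hT.isPGroup, ?_, ?_⟩
  · refine ((Nat.dvd_prime Nat.prime_two).1 ((Subgroup.relIndex_dvd_of_le_left T h3).trans h2.dvd)).resolve_left
      fun e => hK.jc.not_comm_le (isPGroup_pCoreOf (K ⊔ T)) ((Subgroup.commutator_mono le_sup_left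
        ((JT_le T).trans (Subgroup.relIndex_eq_one.1 e))).trans (comm_le_right (le_NN_pCoreOf _)))
  · rw [relIndex_eq_of_mul le_sup_left fun m hm => (mem_sup_of_NN' hn).1 hm,
      ← Subgroup.inf_relIndex_right, ← k3.idx]
    congr 1
    exact le_antisymm (k3.pgroup_le (hT.isPGroup.to_le inf_le_left) inf_le_right)
      (le_inf hO (pCoreOf_le K))

namespace PP

variable {T K₁ L₁ K₂ L₂ : Subgroup G} (h : PP T K₁ L₁ K₂ L₂)
include h

theorem symm : PP T K₂ L₂ K₁ L₁ := ⟨h.zn, h.u2, h.u1, h.s2, h.s1, h.ne.symm⟩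

theorem ZO_eq : ZO 2 T = ZO 2 (JT T) := by
  obtain ⟨S, hS, hTS⟩ := exists_isSylowIn_ge h.s1.isPGroup (le_top (a := T))
  rcases h.zn.center_cases hS hTS h.u1 h.s1 h.u2 h.ne with k | k | k
  · exact le_antisymm (ZO_le_ZO_JT T) (k.1.ge.trans (h.zn.ZO_le_ZO h.s1 h.u1.max.1 hTS))
  · rw [← k.1, k.2.2]
  · exact k.1

theorem le_NN : T ≤ NN(K₁) := h.u1.le_NN h.zn h.s1 h.ZO_eq

theorem s3 : S3 (K₁ ⊔ T) T := h.u1.s3 h.zn h.s1 h.le_NN

theorem P_le : K₁ ⊔ T ≤ L₁ := sup_le (le_sup_left.trans h.u1.le) h.s1.le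

theorem O_le : pCoreOf 2 L₁ ≤ pCoreOf 2 (K₁ ⊔ T) :=
  pCoreOf_le_of_le h.P_le (h.s1.pCoreOf_le.trans le_sup_right)

theorem CC_O : CC(pCoreOf 2 (K₁ ⊔ T)) ≤ pCoreOf 2 (K₁ ⊔ T) :=
  (CC_anti h.O_le).trans ((h.zn.CC_O h.u1.max.1).trans h.O_le)

theorem NN_le {N : Subgroup G} (hN : IsPGroup 2 N) (h0 : N ≠ ⊥) (hn : K₁ ⊔ T ≤ NN(N)) :
    NN(N) ≤ L₁ := h.u1.NN_le hN h0 ((sup_le_sup_left (JT_le T) _).trans hn)

theorem bot {N : Subgroup G} (hN : IsPGroup 2 N) (h1 : K₁ ⊔ T ≤ NN(N)) (h2 : K₂ ⊔ T ≤ NN(N)) :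
    N = ⊥ := by
  by_contra h0
  exact h.ne (h.u2.eq h.u1.max (((sup_le_sup_left (JT_le T) _).trans h2).trans (h.NN_le hN h0 h1)))

theorem am : AM (K₁ ⊔ T) (K₂ ⊔ T) T :=
  ⟨⟨h.s3, h.symm.s3, fun _ a => h.bot (h.s1.isPGroup.to_le a)⟩,
    inf_le_right.trans h.CC_O, inf_le_right.trans h.symm.CC_O⟩

theorem nc : ¬ K₁ ⊔ T ≤ CC(ZO 2 T) := fun e => h.u1.jc.ZO_inf_not_le h.s1.isPGroup
  (inf_le_left.trans (h.ZO_eq.ge.trans (le_CC_symm (le_sup_left.trans e))))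

theorem K_ne : K₁ ≠ K₂ := fun e => h.ne (h.u2.eq h.u1.max (e ▸ h.u1.le))

/-- KS 12.3.8 -/
theorem P_eq : K₁ ⊔ T = L₁ := by
  have he := h.am.elabQ h.nc h.symm.nc
  have hc := h.zn.CC_O h.u1.max.1
  have e : pCoreOf 2 (K₁ ⊔ T) = pCoreOf 2 L₁ :=
    le_antisymm ((elab_le_CC he).trans ((CC_anti h.O_le).trans hc)) h.O_le
  have c8 := h.am.card_Q h.nc h.symm.nc
  have c6 := h.s3.idx6
  rw [e] at he c8 c6
  obtain ⟨F, hF⟩ := h.zn.ls_local h.s1 h.u1.max.1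
  have hKL : K₁ ≤ L₁ := le_sup_left.trans h.P_le
  have hW := (hF.jc_wOf_le h.u1.jc hKL).trans (ZO_le _)
  have h4 := h.u1.jc.card
  have hn : L₁ ≤ NN(wOf K₁) := le_NN_wOf fun g hg => hF.mem_NN_of_inf h.u1.jc hKL hg fun e0 => by
    have hW' := cj_le_of_mem_NN (le_NN_pCoreOf (p := 2) L₁ hg) hW
    have e1 := card_sup_mul_card_inf (hW.trans ((elab_le_CC he).trans ((CC_anti hW').trans
      (CC_le_NN _))))
    have e2 := Subgroup.card_le_of_le (sup_le hW hW')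
    rw [e0, card_cj, h4, Subgroup.card_bot] at e1
    omega
  have h1 : ⁅pCoreOf 2 L₁, L₁⁆ ≤ wOf K₁ := by
    have := card_mul_relIndex hW
    rcases c8 with c | c
    · rw [← Subgroup.eq_of_le_of_card_ge hW (by omega)]
      exact comm_le_left hn
    · exact comm_le_of_relIndex_two (by rw [h4, c] at this; omega) hn (le_NN_pCoreOf _)
  have h2 : L₁ ⊓ CC(wOf K₁) ≤ pCoreOf 2 L₁ :=
    le_pCoreOf ((h.zn.charP h.u1.max.1).isPGroup inf_le_left (resOf_le_CC_of_step (isPGroup_wOf K₁)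
      ((Subgroup.commutator_mono le_rfl ((resOf_le _).trans inf_le_left)).trans h1)
      ((resOf_le _).trans inf_le_right))) inf_le_left (le_NN_inf (le_NN_self _) (le_NN_CC hn))
  have h3 := H6.four_relIndex_dvd (klein_of_elab (elab_wOf K₁) h4) hn
  rw [← Subgroup.inf_relIndex_left] at h3
  have h5 := Nat.le_of_dvd (by omega) ((Subgroup.relIndex_dvd_of_le_left L₁ h2).trans h3)
  have h6 := card_mul_relIndex (pCoreOf_le (p := 2) L₁)
  have h7 := card_eq_of_relIndex c6 (h.s1.pCoreOf_le.trans le_sup_right)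
  exact Subgroup.eq_of_le_of_card_ge h.P_le (by nlinarith)

theorem am' : AM L₁ L₂ T := h.P_eq ▸ h.symm.P_eq ▸ h.am

theorem nc' : ¬ L₁ ≤ CC(ZO 2 T) := h.P_eq ▸ h.nc

theorem NN_O : NN(pCoreOf 2 L₁) = L₁ := maximalTwoLocal_eq h.u1.max (isPGroup_pCoreOf _)
  (isTwoLocal_O_ne_bot h.u1.max.1) (le_NN_pCoreOf _)

end PP

theorem UQ.pp {T K L : Subgroup G} (h : ZN G) (hK : UQ T K L) (hT : IsSylowIn 2 T L) {t : G}
    (ht : t ∈ NN(T)) (hn : t ∉ L) : PP T K L (H10.cj t K) (H10.cj t L) :=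
  ⟨h, hK, hK.cj_of_mem (le_NN_JT le_rfl ht), hT, by
    have := hT.cj t
    rwa [cj_eq_of_mem_NN ht] at this, fun e => hn (maximalTwoLocal_NN hK.max (mem_NN.2 e.symm))⟩

theorem UQ.exists_pp_of_ne {S T K L : Subgroup G} (h : ZN G) (hK : UQ T K L)
    (hT : IsSylowIn 2 T L) (hS : IsPGroup 2 S) (hlt : T < S) :
    ∃ t ∈ S ⊓ NN(T), t ∉ L ∧ PP T K L (H10.cj t K) (H10.cj t L) := by
  obtain ⟨t, ht, ht'⟩ := SetLike.exists_of_lt (lt_inf_NN hS hlt)
  have hn : t ∉ L := fun e => ht' ((hT.inf_eq hS hlt.le).le ⟨ht.1, e⟩)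
  exact ⟨t, ht, hn, hK.pp h hT ht.2 hn⟩

theorem JT_le_of_se {S L : Subgroup G} (hL : IsStronglyEmbedded L) (h0 : pCoreOf 2 L ≠ ⊥)
    (hS : S ≤ L) : JT S ≤ pCoreOf 2 L := by
  obtain ⟨u, hu, hu'⟩ := H6.se_exists_ord2_not_mem hL
  obtain ⟨s, hs, hso⟩ := exists_orderOf_eq_of_ne_bot (isPGroup_pCoreOf L) h0
  refine H4.thompsonOf_le_iff.2 fun A hA a ha => ?_
  by_cases e : a = 1
  · exact e ▸ one_mem _
  obtain ⟨k, hk, -, rfl⟩ := H6.se_exists_inverted_conj hL hu hu' hso (pCoreOf_le L hs)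
    (orderOf_eq_prime ((H4.maxAb_elemAb hA).2 a ha) e) (hS (H4.maxAb_le hA ha))
  exact conj_mem_of_mem_NN (le_NN_pCoreOf L hk) hs

theorem Str.cj {M T : Subgroup G} (h : Str M T) {m : G} (hm : m ∈ M) : Str M (H10.cj m T) := by
  obtain ⟨h1, h2, h3, L, h4, h5, h6⟩ := h
  refine ⟨isPGroup_cj m h1, mt cj_eq_bot.1 h2, cj_le_of_mem hm h3, _, isTwoLocal_cj h4 m,
    cj_mono m h5, fun e => h6 ?_⟩
  rwa [cj_le_iff, cj_eq_of_mem (inv_mem hm)] at e

/-- a `2`-local subgroup `L ≥ N(J(S))` not normalizing `J(S)` is not the only `2`-local over `S` -/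
theorem ZM.str {S L : Subgroup G} (h : ZM S L) (hJ : ¬ JT S ≤ pCoreOf 2 L) : Str L S := by
  by_contra hc
  obtain ⟨T₀, h₀⟩ : ∃ T, Str L T := by
    by_contra hn
    push Not at hn
    exact hJ (JT_le_of_se ((se_iff_no_str h.O h.loc).2 hn) (isTwoLocal_O_ne_bot h.loc) h.S_le)
  obtain ⟨T₁, h₁⟩ := exists_mstr h₀
  have hSL := h.syl.of_le h.S_le le_top
  obtain ⟨m, hm, hle⟩ := hSL.exists_le_cj h₁.str.1 h₁.str.2.2.1
  replace hc : ¬ Str L (H10.cj m S) := fun e => hc (by simpa [cj_inv_cj] using e.cj (inv_mem hm))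
  replace hJ : ¬ JT (H10.cj m S) ≤ pCoreOf 2 L := fun e => hJ (by
    rwa [← cj_JT, cj_le_iff, cj_eq_of_mem_NN (le_NN_pCoreOf L (inv_mem hm))] at e)
  replace h := h.cj hm
  clear hSL
  generalize H10.cj m S = S at *
  have hSL := h.syl.of_le h.S_le le_top
  have hlt : T₁ < S := lt_of_le_of_ne hle fun e => hc (e ▸ h₁.str)
  obtain ⟨K, L₁, hK, hT, -⟩ := h.exists_uq' h₁
  obtain ⟨t, ht, htL, pp⟩ := hK.exists_pp_of_ne h.zn hT h.syl.isPGroup hlt
  obtain ⟨F, hF⟩ := h.zn.ls_local hSL h.loc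
  obtain ⟨K₀, hK₀, hK₀L, -⟩ := hF.exists_jc (M := NN(JT S)) (fun e => hJ
    (le_pCoreOf (hSL.isPGroup.to_le (JT_le S)) ((JT_le S).trans hSL.le) e)) inf_le_right
  have hW := hF.jc_wOf_le hK₀ hK₀L
  have hVS := hF.VT
  have hV : S ≤ NN(ZO 2 (pCoreOf 2 L)) := hF.NV hSL.le
  have hKV := hF.NV hK₀L
  have he := elab_ZO (p := 2) (pCoreOf 2 L)
  generalize ZO 2 (pCoreOf 2 L) = V at *
  have am := pp.am'
  have h1 : V ⊓ T₁ ≤ ZO 2 T₁ := am.le_ZO_of pp.nc' pp.symm.nc' ht.2 (by rwa [pp.NN_O])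
    (elab_of_le he inf_le_left) inf_le_right (mem_NN_inf (hV ht.1) ht.2)
  have h2 : V ⊓ NN(T₁) ≤ T₁ := by
    refine (le_inf (inf_le_left.trans hVS) ?_).trans (hT.inf_eq h.syl.isPGroup hle).le
    rw [← pp.NN_O]
    refine le_NN_of_comm_le_right (le_trans (le_inf ?_ ?_) (h1.trans
      ((am.D_eq pp.nc' pp.symm.nc').ge.trans inf_le_left)))
    · exact (Subgroup.commutator_mono inf_le_left le_rfl).trans
        (comm_le_left (am.s1.QT.trans (hle.trans hV)))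
    · exact (Subgroup.commutator_mono le_rfl am.s1.QT).trans (comm_le_right inf_le_right)
  have h3 : V ≤ T₁ := by
    have := eq_of_inf_NN_le (h.syl.isPGroup.to_le (sup_le hle hVS)) le_sup_left (by
      rw [dedekind_left (le_NN_self T₁) (hle.trans hV)]
      exact sup_le le_rfl h2)
    exact le_sup_right.trans this.ge
  have h4 : V ≤ ZO 2 (JT T₁) := (le_inf le_rfl h3).trans (h1.trans pp.ZO_eq.le)
  have h5 := Subgroup.card_le_of_le (hW.trans h4)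
  have h6 := Subgroup.card_le_of_le hW
  rw [hK₀.card] at h5 h6
  rcases h.zn.center_cases h.syl hle hK hT pp.u2 pp.ne with k | k | k
  · omega
  · exact hlt.ne k.2.2
  · rw [← Subgroup.eq_of_le_of_card_ge h4 (by omega)] at k
    have h7 : K₀ ≤ L₁ ⊓ CC(V) := hK₀.k3.res.ge.trans (resOf_le_iff.2 fun x hx hxo =>
      H6.mem_of_odd_of_relIndex_two k.2.2 (hKV hx) (Nat.coprime_two_right.1 hxo))
    exact hK₀.wOf_ne_bot (le_bot_iff.1 ((le_inf le_rfl (hW.trans (le_CC_symm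
      (h7.trans inf_le_right)))).trans hK₀.k3.wOf_inf.le))

/-- KS 12.3.7 -/
theorem ZM.exists_pp {S M T K L : Subgroup G} (h : ZM S M) (hT : MStr M T) (hK : UQ T K L)
    (hL : IsSylowIn 2 T L) : ∃ K' L', PP T K L K' L' := by
  obtain ⟨S, h, hle⟩ := h.exists_ge hT.str.1 hT.str.2.2.1
  rcases hle.eq_or_lt with rfl | hlt
  · by_cases hn : NN(JT T) ≤ L
    · have k : ZM T L := ⟨h.zn, h.O, h.syl, hK.max.1, hn⟩
      have hs := k.str fun e => hK.jc.not_comm_le (isPGroup_pCoreOf L) ((Subgroup.commutator_mono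
        (le_sup_left.trans hK.le) e).trans (comm_le_right (le_NN_pCoreOf L)))
      obtain ⟨K', L', a, b, c⟩ := k.exists_uq' (mstr_of_sylow hs h.syl)
      exact ⟨K', L', h.zn, hK, a, hL, b, fun e => c (e ▸ le_sup_left.trans a.le)⟩
    · obtain ⟨g, hg, hg'⟩ := SetLike.not_le_iff_exists.1 hn
      have e : ZO 2 T = ZO 2 (JT T) := by
        rcases h.zn.center_cases h.syl le_rfl hK hL (hK.cj_of_mem hg)
          (fun e => hg' (maximalTwoLocal_NN hK.max (mem_NN.2 e.symm))) with k | k | k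
        exacts [k.1, k.1, k.1]
      refine ⟨_, _, hK.pp h.zn hL ((h.syl.of_le (le_CC_ZO T) le_top).le_NN_of_normal
        (h.zn.z' h.syl) (le_NN_CC (e ▸ le_NN_ZO le_rfl)) hg) hg'⟩
  · obtain ⟨t, -, -, k⟩ := hK.exists_pp_of_ne h.zn hL h.syl.isPGroup hlt
    exact ⟨_, _, k⟩

theorem ZM.exists_pp' {S M T : Subgroup G} (h : ZM S M) (hT : MStr M T) :
    ∃ K L K' L', PP T K L K' L' := by
  obtain ⟨K, L, a, b, -⟩ := h.exists_uq' hT
  exact ⟨K, L, h.exists_pp hT a b⟩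

end H10
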