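import Cfsg.Agent.H10.JC5
import Cfsg.Agent.H10.TT

/-!
`ZN`-groups of local characteristic 2: passing to `O²(G)` (Kurzweil–Stellmacher, Theorem 12.3).
-/

set_option autoImplicit false
set_option linter.unusedSectionVars false

namespace H10

open Cfsg
open scoped commutatorElement

variable {G : Type*} [Group G] [Finite G]

theorem thompson_transfer_res {S : Subgroup G} (hS : IsSylowIn 2 S ⊤) {y : G} (hy : y ∈ S)
    (hy2 : y * y = 1) (hyS : y ∉ ⁅S, S⁆) (hr : y ∈ resOf 2 (⊤ : Subgroup G)) {R : Subgroup G}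
    (hR : IsPGroup 2 R) (hRy : R ≤ Subgroup.centralizer {y}) :
    ∃ U, ⁅S, S⁆ ≤ U ∧ y ∉ U ∧ ∃ g, g * y * g⁻¹ ∈ U ∧ cj g R ≤ S := by
  obtain ⟨U, ⟨h1, h2, h3⟩, hmax⟩ := exists_maximal_subgroup
    (P := fun U => ⁅S, S⁆ ≤ U ∧ U ≤ S ∧ y ∉ U) ⟨le_rfl, comm_le_left (le_NN_self S), hyS⟩
  have hN : S ≤ NN(U) := le_NN_of_comm_le_left ((Subgroup.commutator_mono h2 le_rfl).trans h1)
  have hn := normal_subgroupOf hN
  have hc : IsMulCommutative (S ⧸ U.subgroupOf S) :=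
    Subgroup.Normal.quotient_commutative_iff_commutator_le.2 (by
      rw [← map_subtype_le_iff, Subgroup.map_subtype_commutator]; exact h1)
  let _ : CommGroup (S ⧸ U.subgroupOf S) := { mul_comm := hc.is_comm.comm }
  let φ := QuotientGroup.mk' (U.subgroupOf S)
  have e1 : ∀ s : S, φ s = 1 ↔ (s : G) ∈ U := fun s => QuotientGroup.eq_one_iff s
  obtain ⟨g, h, h4, h5⟩ := thompson_transfer_ext hS φ hy hy2 (fun e => h3 ((e1 _).1 e))
    (fun s hs => by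
      by_cases e : (s : G) ∈ U
      · exact Or.inl ((e1 s).2 e)
      right
      have hz : Subgroup.zpowers (s : G) ≤ S := Subgroup.zpowers_le_of_mem s.2
      have : y ∈ U ⊔ Subgroup.zpowers (s : G) := by
        by_contra hy'
        exact e ((hmax _ ⟨h1.trans le_sup_left, sup_le h2 hz, hy'⟩ le_sup_left).le
          (Subgroup.mem_sup_right (Subgroup.mem_zpowers _)))
      obtain ⟨u, hu, v, hv, e2⟩ := (mem_sup_of_NN' (hz.trans hN)).1 this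
      rcases (H6.mem_zpowers_ord2 (congrArg Subtype.val hs)).1 hv with rfl | rfl
      · exact absurd (e2 ▸ (mul_one u).symm ▸ hu) h3
      · rw [show (⟨y, hy⟩ : S) = ⟨u, h2 hu⟩ * s from Subtype.ext e2.symm, map_mul,
          (e1 ⟨u, h2 hu⟩).2 hu, one_mul])
    (by
      obtain ⟨k, hk⟩ := IsPGroup.iff_card.1 (hS.isPGroup.to_quotient (U.subgroupOf S))
      have h2 : resOf 2 (⊤ : Subgroup G) ≤ (MonoidHom.transfer φ).ker :=
        resOf_le_of_pow fun x _ => ⟨k, by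
          rw [MonoidHom.mem_ker, map_pow, ← hk, pow_card_eq_one']⟩
      exact h2 hr) hR hRy
  exact ⟨U, h1, h3, g⁻¹, by simpa using (e1 _).1 h4, h5⟩

/-- `[O₂(P), O²(P)]` -/
def WW (P : Subgroup G) : Subgroup G := ⁅pCoreOf 2 P, resOf 2 P⁆

theorem WW_le (P : Subgroup G) : WW P ≤ pCoreOf 2 P :=
  comm_le_left ((resOf_le P).trans (le_NN_pCoreOf P))

theorem WW_le_res (P : Subgroup G) : WW P ≤ resOf 2 P :=
  comm_le_right ((pCoreOf_le P).trans (le_NN_resOf P))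

theorem le_NN_WW {X P : Subgroup G} (h : X ≤ NN(P)) : X ≤ NN(WW P) :=
  le_NN_commutator (le_NN_pCoreOf' h) (le_NN_resOf' h)

theorem cj_WW (g : G) (P : Subgroup G) : cj g (WW P) = WW (cj g P) := by
  rw [WW, cj_commutator, cj_pCoreOf, cj_resOf, WW]

namespace AM

variable {P₁ P₂ T : Subgroup G} (h : AM P₁ P₂ T) (n1 : ¬ P₁ ≤ CC(ZO 2 T))
  (n2 : ¬ P₂ ≤ CC(ZO 2 T))
include h n1 n2

theorem W_inf : WW P₁ ⊓ CC(resOf 2 P₁) = ⊥ :=
  h.s1.k3.comm_inf_CC (isPGroup_pCoreOf _) (elab_le_CC (h.elabQ n1 n2))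
    ((resOf_le _).trans (le_NN_pCoreOf _))
    ((h.s1.O_res.le.trans inf_le_left).trans (elab_le_CC (h.elabQ n1 n2)))

theorem Q_eq : WW P₁ ⊔ (pCoreOf 2 P₁ ⊓ CC(resOf 2 P₁)) = pCoreOf 2 P₁ :=
  le_antisymm (sup_le (WW_le _) inf_le_left) (h.s1.k3.le_comm_sup (isPGroup_pCoreOf _)
    ((resOf_le _).trans (le_NN_pCoreOf _))
    ((h.s1.O_res.le.trans inf_le_left).trans (elab_le_CC (h.elabQ n1 n2))))

theorem W_NN : WW P₁ ≤ NN(pCoreOf 2 P₁ ⊓ CC(resOf 2 P₁)) :=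
  (WW_le _).trans ((elab_le_CC (h.elabQ n1 n2)).trans ((CC_anti inf_le_left).trans (CC_le_NN _)))

theorem card_W : Nat.card (WW P₁) = 4 := by
  have e := card_sup_mul_card_inf (h.W_NN n1 n2)
  rw [h.Q_eq n1 n2, h.s1.card_Q h.c1 (h.elabQ n1 n2) (h.cent n1 n2).1, le_bot_iff.1
    ((inf_le_inf_left _ inf_le_right).trans (h.W_inf n1 n2).le), Subgroup.card_bot] at e
  have hp : 0 < Nat.card (pCoreOf 2 P₁ ⊓ CC(resOf 2 P₁) : Subgroup G) := Nat.card_pos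
  nlinarith

theorem W_ne_bot : WW P₁ ≠ ⊥ := fun e => by simpa [e] using h.card_W n1 n2

theorem W_not_le : ¬ WW P₁ ≤ pCoreOf 2 P₂ := fun e => by
  have h1 : T ≤ CC(WW P₁) := (le_CC_ZO T).trans (CC_anti ((le_inf (WW_le _) e).trans
    (h.D_eq n1 n2).le))
  have h2 := h.s1.res_le inf_le_left (le_NN_inf (le_NN_self _) (le_NN_CC (le_NN_WW (le_NN_self _))))
    fun e => h.s1.not_le ((le_inf h.s1.le h1).trans e)
  exact h.W_ne_bot n1 n2 (le_bot_iff.1 ((le_inf le_rfl (le_CC_symm (h2.trans inf_le_right))).trans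
    (h.W_inf n1 n2).le))

theorem W_sup : WW P₂ ⊔ pCoreOf 2 P₁ = T :=
  h.s1.sup_Q ((WW_le _).trans h.s2.QT) (h.symm.W_not_le n2 n1)

omit n1 n2 in
theorem T_NN : T ≤ NN(WW P₁) := le_NN_WW (h.s1.le.trans (le_NN_self _))

theorem WW_ne : WW P₁ ⊓ WW P₂ ≠ ⊥ := fun e => by
  have h1 : WW P₁ ≤ CC(WW P₂) := comm_eq_bot.1 (le_bot_iff.1 ((le_inf
    (comm_le_left (((WW_le _).trans h.s2.QT).trans h.T_NN))
    (comm_le_right (((WW_le _).trans h.s1.QT).trans h.symm.T_NN))).trans e.le))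
  refine h.W_not_le n1 n2 (le_trans (le_ZO ((WW_le _).trans h.s1.QT) ?_ fun a ha =>
    (h.elabQ n1 n2).2 a (WW_le _ ha)) ((h.D_eq n1 n2).ge.trans inf_le_right))
  rw [← h.W_sup n1 n2, CC_sup]
  exact le_inf h1 ((WW_le _).trans (elab_le_CC (h.elabQ n1 n2)))

theorem U_inf : (WW P₁ ⊔ WW P₂) ⊓ pCoreOf 2 P₁ = WW P₁ := by
  rw [dedekind_left (WW_le _) (((WW_le _).trans h.s1.QT).trans h.symm.T_NN), sup_eq_left]
  have h1 : WW P₁ ⊓ WW P₂ ≤ WW P₂ ⊓ pCoreOf 2 P₁ :=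
    le_inf inf_le_right (inf_le_left.trans (WW_le _))
  have h2 := card_two_of_lt_four (h.symm.card_W n2 n1) (lt_of_le_not_ge inf_le_left fun e =>
    h.symm.W_not_le n2 n1 (e.trans inf_le_right)) fun e => h.WW_ne n1 n2 (le_bot_iff.1 (h1.trans e.le))
  exact (Subgroup.eq_of_le_of_card_ge h1 (h2.le.trans (two_le_card (h.WW_ne n1 n2)))).ge.trans
    inf_le_left

theorem T_le : T ≤ (WW P₁ ⊔ WW P₂) ⊔ ZO 2 T :=
  (h.W_sup n1 n2).ge.trans (sup_le (le_sup_right.trans le_sup_left) ((h.Q_eq n1 n2).ge.trans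
    (sup_le_sup le_sup_left ((h.cent n1 n2).2.1.trans inf_le_left))))

section
variable {H : Subgroup G} [H.Normal] (hH : resOf 2 (⊤ : Subgroup G) ≤ H)
  (h0 : pCoreOf 2 P₁ ⊓ CC(resOf 2 P₁) ⊓ H = ⊥)
include hH h0

theorem O_inf : pCoreOf 2 (P₁ ⊓ H) = WW P₁ := by
  have hW : WW P₁ ≤ H := (WW_le_res _).trans ((resOf_mono le_top).trans hH)
  rw [pCoreOf_eq_of_normal inf_le_left (le_NN_inf (le_NN_self _) (le_NN_of_normal _ _)),
    ← inf_assoc, inf_eq_left.2 (pCoreOf_le P₁), ← h.Q_eq n1 n2, dedekind_left hW (h.W_NN n1 n2), h0,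
    sup_bot_eq]

theorem s3_inf : S3 (P₁ ⊓ H) (T ⊓ H) := by
  have hW : WW P₂ ≤ T ⊓ H := le_inf ((WW_le _).trans h.s2.QT)
    ((WW_le_res _).trans ((resOf_mono le_top).trans hH))
  refine ⟨inf_le_inf_right _ h.s1.le, h.s1.pg.to_le inf_le_left, ?_, ?_⟩
  · rw [pCoreOf_eq_of_normal inf_le_left (le_NN_inf (le_NN_self _) (le_NN_of_normal _ _)),
      ← Subgroup.inf_relIndex_right, inf_assoc, inf_eq_right.2 (inf_le_inf_right _ h.s1.le),
      Subgroup.inf_relIndex_right]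
    exact h.s1.relIndex_Q inf_le_left fun e => h.symm.W_not_le n2 n1 (hW.trans e)
  · rw [← h.s1.idx3, relIndex_eq_of_mul (K := T) (M := P₁) (inf_le_left (b := H)) fun m hm => ?_,
      ← Subgroup.inf_relIndex_right T, ← inf_assoc, inf_eq_left.2 h.s1.le]
    obtain ⟨a, ha, b, hb, e⟩ := h.s1.syl.exists_mul hm
    exact ⟨a, ⟨resOf_le _ ha, hH (resOf_mono le_top ha)⟩, b, hb, e⟩

theorem CC_W : P₁ ⊓ H ⊓ CC(WW P₁) ≤ WW P₁ := by
  rw [← h.O_inf n1 n2 hH h0]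
  by_contra hc
  have h1 := (h.s3_inf n1 n2 hH h0).res_le inf_le_left (le_NN_inf (le_NN_self _)
    (le_NN_CC (le_NN_pCoreOf _))) hc
  rw [resOf_eq_of_le (le_inf (resOf_le _) ((resOf_mono le_top).trans hH)) inf_le_left,
    h.O_inf n1 n2 hH h0] at h1
  exact h.W_ne_bot n1 n2 (le_bot_iff.1 ((le_inf le_rfl (le_CC_symm (h1.trans inf_le_right))).trans
    (h.W_inf n1 n2).le))

theorem s4_inf : Nonempty ((P₁ ⊓ H : Subgroup G) ≃* Equiv.Perm (Fin 4)) := by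
  have e1 := h.O_inf n1 n2 hH h0
  have e2 := resOf_eq_of_le (le_inf (resOf_le _) ((resOf_mono le_top).trans hH))
    (inf_le_left (a := P₁))
  refine (h.s3_inf n1 n2 hH h0).equiv_s4 ?_ ?_ ?_ ?_
  · rw [CharPIn, e1]
    exact h.CC_W n1 n2 hH h0
  · exact e1 ▸ elab_of_le (h.elabQ n1 n2) (WW_le _)
  · rw [e1, e2, ← Subgroup.inf_relIndex_left, h.W_inf n1 n2, Subgroup.relIndex_bot_left,
      h.card_W n1 n2]
  · rw [e1, e2, h.W_inf n1 n2]

theorem card_inf : Nat.card (T ⊓ H : Subgroup G) = 8 := by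
  have s := h.s3_inf n1 n2 hH h0
  rw [card_eq_of_relIndex s.idx2 s.QT, h.O_inf n1 n2 hH h0, h.card_W n1 n2]

theorem max_inf (hm : IsMaximalTwoLocal P₁) : IsMaximalTwoLocal (P₁.subgroupOf H) := by
  have hW : WW P₁ ≤ H := (WW_le_res _).trans ((resOf_mono le_top).trans hH)
  have hp : IsPGroup 2 (WW P₁) := (isPGroup_pCoreOf _).to_le (WW_le _)
  have e := maximalTwoLocal_eq hm hp (h.W_ne_bot n1 n2) (le_NN_WW (le_NN_self _))
  refine ⟨⟨(WW P₁).subgroupOf H, isPGroup_subgroupOf hp H, fun e => h.W_ne_bot n1 n2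
    (by rw [← map_subgroupOf_of_le hW, e, Subgroup.map_bot]), by rw [NN_subgroupOf hW, e]⟩, ?_⟩
  rintro _ ⟨P, hP, hP0, rfl⟩ hle
  refine le_antisymm (map_subtype_le_iff.1 ?_) hle
  replace hle := Subgroup.map_mono (f := H.subtype) hle
  rw [Subgroup.subgroupOf_map_subtype] at hle
  rw [map_NN_subtype] at hle ⊢
  obtain ⟨N, eN⟩ : ∃ N, N = H ⊓ NN(P.map H.subtype) := ⟨_, rfl⟩
  have h1 : pCoreOf 2 N ≠ ⊥ := fun e0 => hP0 ((Subgroup.map_eq_bot_iff_of_injective _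
    H.subtype_injective).1 (eq_bot_of_pCoreOf e0 (hP.map _)
      (eN ▸ le_inf (Subgroup.map_subtype_le _) (le_NN_self _)) (eN ▸ inf_le_right)))
  rw [← eN] at hle ⊢
  have hO : pCoreOf 2 N ≤ H := (pCoreOf_le N).trans (eN ▸ inf_le_left)
  have hn : P₁ ⊓ H ≤ NN(pCoreOf 2 N) := hle.trans (le_NN_pCoreOf N)
  have h2 : pCoreOf 2 N ⊓ NN(WW P₁) ≤ WW P₁ := by
    conv_rhs => rw [← h.O_inf n1 n2 hH h0]
    exact le_pCoreOf ((isPGroup_pCoreOf N).to_le inf_le_left)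
      (le_inf (inf_le_right.trans e.le) (inf_le_left.trans hO))
      (le_NN_inf hn (le_NN_NN (inf_le_left.trans e.ge)))
  have hWn : WW P₁ ≤ NN(pCoreOf 2 N) := (le_inf ((WW_le _).trans (pCoreOf_le _)) hW).trans hn
  have h3 := eq_of_inf_NN_le (isPGroup_sup_of_NN hp (isPGroup_pCoreOf N) hWn) le_sup_left (by
    rw [dedekind_left (le_NN_self _) hWn]
    exact sup_le le_rfl h2)
  have h4 : pCoreOf 2 N = WW P₁ := h.s1.k3.irr hp ((resOf_le _).trans e.ge)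
    ((le_inf (resOf_le _) ((resOf_mono le_top).trans hH)).trans hn)
    ((h.s1.O_res.le.trans inf_le_left).trans ((elab_le_CC (h.elabQ n1 n2)).trans (CC_anti (WW_le _))))
    (h.W_inf n1 n2) (h.card_W n1 n2) (le_sup_right.trans h3.ge) h1
  rw [← e, ← h4]
  exact le_NN_pCoreOf N

end

end AM

namespace PP

variable {T K₁ L₁ K₂ L₂ : Subgroup G} (h : PP T K₁ L₁ K₂ L₂)
include h

theorem cj_Q {S : Subgroup G} (hS : IsPGroup 2 S) (hTS : T ≤ S) {x : G} (hx : x ∈ S ⊓ NN(T))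
    (hn : x ∉ T) : cj x (pCoreOf 2 L₁) = pCoreOf 2 L₂ :=
  h.am'.cj_Q h.nc' h.symm.nc' hx.2 fun e => hn ((h.s1.inf_eq hS hTS).le ⟨hx.1, h.NN_O.le e⟩)

theorem mul_mem_T {S : Subgroup G} (hS : IsPGroup 2 S) (hTS : T ≤ S) {x y : G}
    (hx : x ∈ S ⊓ NN(T)) (hy : y ∈ S ⊓ NN(T)) (hx' : x ∉ T) (hy' : y ∉ T) : x * y ∈ T :=
  (h.s1.inf_eq hS hTS).le ⟨mul_mem hx.1 hy.1, h.NN_O.le (mem_NN.2 (by
    rw [cj_mul, h.cj_Q hS hTS hy hy', h.symm.cj_Q hS hTS hx hx']))⟩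

variable (h2 : Nat.card (pCoreOf 2 L₁ ⊓ CC(resOf 2 L₁) : Subgroup G) = 2)
include h2

theorem CC_ZO_le : CC(ZO 2 T) ≤ L₁ := by
  have h1 := (h.am'.cent h.nc' h.symm.nc').2.1
  exact (CC_anti (h1.trans inf_le_left)).trans ((CC_le_NN _).trans (maximalTwoLocal_eq h.u1.max
    ((isPGroup_pCoreOf _).to_le inf_le_left) (fun e => by simp [e] at h2)
    ((le_CC_symm (h1.trans inf_le_right)).trans (CC_le_NN _))).le)

theorem JT_syl {S : Subgroup G} (hS : IsPGroup 2 S) (hTS : T ≤ S) : JT S = T := by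
  have am := h.am'
  have n1 := h.nc'
  have n2 := h.symm.nc'
  have h1 : T ≤ S ⊓ NN(T) := le_inf hTS (le_NN_self T)
  have h3 : JT (S ⊓ NN(T)) ≤ T := H4.thompsonOf_le_iff.2 fun A hA => by
    by_contra hc
    obtain ⟨x, hx, hx'⟩ := SetLike.not_le_iff_exists.1 hc
    have hle := H4.maxAb_le hA
    have he := H4.maxAb_elemAb hA
    have hL : x ∉ L₁ := fun e => hx' ((h.s1.inf_eq hS hTS).le ⟨(hle hx).1, e⟩)
    have a1 : A ⊓ T ≤ ZO 2 T := am.le_ZO_of n1 n2 (hle hx).2 (by rwa [h.NN_O])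
      (elab_of_le he inf_le_left) inf_le_right (mem_NN_inf (le_NN_self A hx) (hle hx).2)
    have a2 : T.relIndex A = 2 := H6.relIndex_eq_two_of hx hx' fun b hb =>
      or_iff_not_imp_right.2 fun e => h.mul_mem_T hS hTS (hle hb) (hle hx) e hx'
    rw [← Subgroup.inf_relIndex_left] at a2
    have a3 := card_eq_of_relIndex a2 inf_le_left
    have a4 := H4.maxAb_card_le hA (am.s1.QT.trans h1) (am.elabQ n1 n2)
    have a5 := card_eq_of_relIndex am.relIndex_D inf_le_left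
    rw [am.D_eq n1 n2] at a5
    have a6 := Subgroup.eq_of_le_of_card_ge a1 (by omega)
    exact hL (h.CC_ZO_le h2 (CC_anti (a6.ge.trans inf_le_left) (elab_le_CC he hx)))
  have h4 : JT (S ⊓ NN(T)) = T := (JT_eq_of_le h3 h1).symm.trans (am.JT_eq n1 n2)
  have h5 := eq_of_inf_NN_le hS (inf_le_left (b := NN(T))) (inf_le_inf_left _ (by
    have := le_NN_JT (le_refl NN(S ⊓ NN(T)))
    rwa [h4] at this))
  rwa [h5] at h4

theorem comm_le {S : Subgroup G} (hS : IsPGroup 2 S) (hTS : T ≤ S) : ⁅S, S⁆ ≤ WW L₁ ⊔ WW L₂ := by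
  have am := h.am'
  have n1 := h.nc'
  have n2 := h.symm.nc'
  have h1 : S ≤ NN(T) := by
    have := le_NN_JT (le_NN_self S)
    rwa [h.JT_syl h2 hS hTS] at this
  have key : ∀ {K₁ L₁ K₂ L₂ : Subgroup G}, PP T K₁ L₁ K₂ L₂ → ∀ s ∈ S, s ∉ T →
      cj s (WW L₁) = WW L₂ := fun {K₁ L₁ K₂ L₂} h s hs hs' => by
    rw [cj_WW, ← h.NN_O, cj_normalizer, h.cj_Q hS hTS ⟨hs, h1 hs⟩ hs', h.symm.NN_O]
  have hn : S ≤ NN(WW L₁ ⊔ WW L₂) := fun s hs => by
    by_cases e : s ∈ T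
    · exact mem_NN_sup (am.T_NN e) (am.symm.T_NN e)
    · rw [mem_NN, cj_sup, key h s hs e, key h.symm s hs e, sup_comm]
  have c := am.cent n1 n2
  have h3 : (ZO 2 T ⊓ (WW L₁ ⊔ WW L₂)).relIndex (ZO 2 T) = 2 := by
    have a1 := card_mul_relIndex (inf_le_left (a := ZO 2 T) (b := WW L₁ ⊔ WW L₂))
    have a2 := c.2.2
    rw [h2] at a2
    rw [card_two_of_lt_four a2 (lt_of_le_not_ge inf_le_left fun e => ?_) fun e => am.WW_ne n1 n2
      (le_bot_iff.1 (le_trans (le_inf ((inf_le_inf (WW_le _) (WW_le _)).trans (am.D_eq n1 n2).le)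
        (inf_le_left.trans le_sup_left)) e.le))] at a1
    · omega
    · have := (le_inf ((le_inf ((c.2.1.trans inf_le_left).trans (e.trans inf_le_right))
        inf_le_left).trans (am.U_inf n1 n2).le) inf_le_right).trans (am.W_inf n1 n2).le
      simp [le_bot_iff.1 this] at h2
  have h4 : ⁅T, S⁆ ≤ WW L₁ ⊔ WW L₂ :=
    (Subgroup.commutator_mono (am.T_le n1 n2) le_rfl).trans (comm_sup_le (le_NN_self _)
      ((ZO_le T).trans (hTS.trans hn)) (comm_le_left hn) ((comm_le_of_relIndex_two h3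
        (le_NN_inf (le_NN_ZO h1) hn) (le_NN_ZO h1)).trans inf_le_right))
  have h5 : ⁅S, T⁆ ≤ WW L₁ ⊔ WW L₂ := Subgroup.commutator_comm T S ▸ h4
  refine Subgroup.commutator_le.2 fun a ha b hb => ?_
  by_cases e : a ∈ T
  · exact h4 (Subgroup.commutator_mem_commutator e hb)
  by_cases e' : b ∈ T
  · exact h5 (Subgroup.commutator_mem_commutator ha e')
  have := h.mul_mem_T hS hTS (inv_mem ⟨ha, h1 ha⟩) ⟨hb, h1 hb⟩ (fun k => e (by simpa using k)) e'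
  rw [show ⁅a, b⁆ = a * ⁅a, a⁻¹ * b⁆ * a⁻¹ by simp [commutatorElement_def, mul_assoc]]
  exact conj_mem_of_mem_NN (hn ha) (h5 (Subgroup.commutator_mem_commutator ha this))

theorem inf_res : pCoreOf 2 L₁ ⊓ CC(resOf 2 L₁) ⊓ resOf 2 (⊤ : Subgroup G) = ⊥ := by
  have am := h.am'
  have n1 := h.nc'
  have n2 := h.symm.nc'
  have c := am.cent n1 n2
  obtain ⟨S, hS, hTS⟩ := exists_isSylowIn_ge h.s1.isPGroup (le_top (a := T))
  refine eq_bot_iff.2 fun y hy => by_contra fun hy1 => ?_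
  have hyD := (c.2.1 hy.1).1
  have hyS : y ∉ ⁅S, S⁆ := fun e => hy1 ((am.W_inf n1 n2).le ⟨(am.U_inf n1 n2).le
    ⟨h.comm_le h2 hS.isPGroup hTS e, hy.1.1⟩, hy.1.2⟩)
  obtain ⟨U, h3, h4, g, h5, h6⟩ := thompson_transfer_res hS (hTS (ZO_le T hyD))
    (by simpa [sq] using (mem_ZO.1 hyD).2.2) hyS hy.2 h.s1.isPGroup
    (CC_zpowers y ▸ (le_CC_ZO T).trans (CC_anti (Subgroup.zpowers_le_of_mem hyD)))
  have e1 := h.JT_syl h2 hS.isPGroup hTS
  have e2 : cj g T = T := by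
    have := JT_le_JT ((JT_le _).trans h6) ((aT_le e1.le).trans (aT_cj g T).ge)
    rw [e1, ← cj_JT, am.JT_eq n1 n2] at this
    exact Subgroup.eq_of_le_of_card_ge this (card_cj g T).ge
  have hg := mem_NN.2 e2
  have a1 : ⁅T, T⁆ ≠ ⊥ := fun e => am.s1.not_le (am.c1.le am.s1.le
    ((comm_eq_bot.1 e).trans (CC_anti am.s1.QT)))
  have a2 := inf_ZO_ne_bot h.s1.isPGroup (comm_le_left (le_NN_self T)) (left_le_NN_comm T T) a1
  have a3 : ⁅T, T⁆ ≤ U := (Subgroup.commutator_mono hTS hTS).trans h3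
  have a4 := c.2.2
  rw [h2] at a4
  have a5 := card_two_of_lt_four a4 (lt_of_le_not_ge (inf_le_right (a := U)) fun e => h4 (e hyD).1)
    fun e => a2 (le_bot_iff.1 ((inf_le_inf_right _ a3).trans e.le))
  have a6 := Subgroup.eq_of_le_of_card_ge (inf_le_inf_right _ a3) (a5.le.trans (two_le_card a2))
  have a7 := (a6.ge ⟨h5, conj_mem_of_mem_NN (le_NN_ZO le_rfl hg) hyD⟩).1
  exact h4 (a3 (by simpa [mul_assoc] using conj_mem_of_mem_NN' (mem_NN_commutator hg hg) a7))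

end PP

theorem PP.inf_res' {T K₁ L₁ K₂ L₂ : Subgroup G} (h : PP T K₁ L₁ K₂ L₂) :
    pCoreOf 2 L₁ ⊓ CC(resOf 2 L₁) ⊓ resOf 2 (⊤ : Subgroup G) = ⊥ := by
  rcases h.am'.card_cases h.nc' h.symm.nc' with k | k
  · rw [k.1, bot_inf_eq]
  · exact h.inf_res k.1

theorem ZN.exists_zm (h : ZN G) (hO : pCore 2 G = ⊥) : ∃ S M : Subgroup G, ZM S M := by
  obtain ⟨S, hS⟩ := exists_isSylowIn 2 (⊤ : Subgroup G)
  exact ⟨S, _, h, hO, hS, isTwoLocal_NN (hS.isPGroup.to_le (JT_le S)) (JT_ne_bot hS.isPGroup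
    (hS.ne_bot (by rw [Subgroup.card_top]; exact h.ch.1.two_dvd))), le_rfl⟩

theorem ZN.se_or_pp (h : ZN G) (hO : pCore 2 G = ⊥) : (∃ M : Subgroup G, IsStronglyEmbedded M) ∨
    ∃ T K₁ L₁ K₂ L₂ : Subgroup G, PP T K₁ L₁ K₂ L₂ := by
  obtain ⟨S, M, k⟩ := h.exists_zm hO
  by_cases hs : ∀ T, ¬ Str M T
  · exact Or.inl ⟨M, (se_iff_no_str hO k.loc).2 hs⟩
  · push Not at hs
    obtain ⟨T, hT⟩ := hs
    obtain ⟨T, hT⟩ := exists_mstr hT
    exact Or.inr ⟨T, k.exists_pp' hT⟩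

end H10
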