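import Cfsg.Agent.S3758
import Cfsg.Agent.S3116
import Cfsg.Agent.S3742
import Cfsg.Agent.S0095
import Cfsg.Agent.H11.YD

/-!
`2`-groups without noncyclic abelian subgroups of order `8`.
-/

set_option autoImplicit false

namespace H10
namespace N8

open Cfsg Subgroup Cfsg.Agent.S3742
open scoped commutatorElement

universe u

variable {G : Type u} [Group G] [Finite G]

local notation "Q8" => QuaternionGroup 2
local notation "S4" => Equiv.Perm (Fin 4)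

/-- no noncyclic abelian subgroup of order `8` -/
def NE (Y : Subgroup G) : Prop := ∀ A ≤ Y, A ≤ CC(A) → Nat.card A = 8 → IsCyclic A

theorem NE.mono {X Y : Subgroup G} (h : NE Y) (hle : X ≤ Y) : NE X :=
  fun A hA => h A (hA.trans hle)

theorem exists_step {V C : Subgroup G} (hC : IsPGroup 2 C) (h : V ≤ C) (hn : ¬ C ≤ V) :
    ∃ W, V ≤ W ∧ W ≤ C ∧ Nat.card W = 2 * Nat.card V := by
  obtain ⟨n, e⟩ := (IsPGroup.iff_card (p := 2)).1 (hC.to_le h)
  obtain ⟨m, e'⟩ := (IsPGroup.iff_card (p := 2)).1 hC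
  have hlt : Nat.card V < Nat.card C := by
    refine lt_of_le_of_ne (card_le_of_le h) fun e => hn ?_
    exact (H5.eq_of_le_of_card_le h e.ge).ge
  rw [e, e'] at hlt
  have hnm := (Nat.pow_lt_pow_iff_right (by norm_num)).1 hlt
  obtain ⟨K, h1, h2⟩ := Sylow.exists_subgroup_card_pow_succ (G := C) (p := 2) (n := n)
    (e' ▸ pow_dvd_pow 2 hnm) (H := V.subgroupOf C) (by rw [card_subgroupOf_of_le h, e])
  exact ⟨K.map C.subtype, le_map_subtype_iff.2 ⟨h, h2⟩, map_subtype_le K, by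
    rw [card_map_subtype, h1, e, pow_succ, mul_comm]⟩

theorem relIndex_two {V W : Subgroup G} (h : V ≤ W) (e : Nat.card W = 2 * Nat.card V) :
    V.relIndex W = 2 := by
  have := card_mul_relIndex h
  rw [e, mul_comm] at this
  exact Nat.eq_of_mul_eq_mul_right Nat.card_pos this

theorem sq_mem {V W : Subgroup G} (e : V.relIndex W = 2) {x : G} (hx : x ∈ W) : x * x ∈ V := by
  have := (V.subgroupOf W).mul_self_mem_of_index_two e ⟨x, hx⟩
  exact this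

theorem not_cyclic {A : Subgroup G} (h8 : Nat.card A = 8) (h : ∀ x ∈ A, x ^ 4 = 1) :
    ¬ IsCyclic A := by
  intro hc
  obtain ⟨g, hg⟩ := IsCyclic.exists_ofOrder_eq_natCard (α := A)
  have : orderOf g ∣ 4 := orderOf_dvd_of_pow_eq_one (Subtype.ext (h g g.2))
  rw [hg, h8] at this
  exact absurd this (by norm_num)

theorem exists_W {V P : Subgroup G} (hV : IsElementaryAbelian 2 V) (h4 : Nat.card V = 4)
    (hP : IsPGroup 2 P) (hle : V ≤ P) (hn : ¬ P ⊓ CC(V) ≤ V) :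
    ∃ W, V ≤ W ∧ W ≤ P ∧ W ≤ CC(W) ∧ Nat.card W = 8 ∧ ¬ IsCyclic W := by
  obtain ⟨W, h1, h2, h3⟩ := exists_step (hP.to_le inf_le_left) (le_inf hle (elab_le_CC hV)) hn
  have h5 := relIndex_two h1 h3
  have h8 : Nat.card W = 8 := by rw [h3, h4]
  refine ⟨W, h1, h2.trans inf_le_left, isMulCommutative_iff_le_CC.1
    (H1.isMulCommutative_of_relIndex_prime (h2.trans inf_le_right) (h5 ▸ Nat.prime_two)), h8,
    not_cyclic h8 fun x hx => ?_⟩
  have := hV.2 _ (sq_mem h5 hx)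
  rw [← this, ← pow_two, ← pow_mul]

theorem NE.cent_le {V P : Subgroup G} (h : NE P) (hV : IsElementaryAbelian 2 V)
    (h4 : Nat.card V = 4) (hP : IsPGroup 2 P) (hle : V ≤ P) : P ⊓ CC(V) ≤ V := by
  by_contra hn
  obtain ⟨W, -, h1, h2, h3, h5⟩ := exists_W hV h4 hP hle hn
  exact h5 (h W h1 h2 h3)

theorem NE.aut {Y : Subgroup G} (h : NE Y) (hY : IsPGroup 2 Y) : IsPGroup 2 (MulAut Y) ∨
    (IsElementaryAbelian 2 Y ∧ Nat.card Y = 4) ∨ Nonempty (Y ≃* Q8) := by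
  by_cases u : H11.YZ.U1 Y
  · exact (u.aut hY).imp_right Or.inr
  obtain ⟨x, hx, ox, z, hz, oz, hne⟩ : ∃ x ∈ Y, orderOf x = 2 ∧ ∃ z ∈ ZO 2 Y, orderOf z = 2 ∧
      x ≠ z := by
    simp only [H11.YZ.U1, not_forall] at u
    obtain ⟨s, hs, t, ht, os, ot, hst⟩ := u
    obtain ⟨z, hz, oz⟩ := exists_orderOf_eq_of_ne_bot (isPGroup_ZO (p := 2) Y) (ZO_ne_bot hY (by
      rintro rfl; exact H6.ord2_ne_one os hs))
    by_cases e : s = z
    · exact ⟨t, ht, ot, z, hz, oz, fun e' => hst (e.trans e'.symm)⟩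
    · exact ⟨s, hs, os, z, hz, oz, e⟩
  obtain ⟨hE, h4⟩ := Sg.ea_pair oz ox hne (mem_CC.1 (ZO_le_CC Y hz) x hx).symm
  have hle : zpowers z ⊔ zpowers x ≤ Y := sup_le (zpowers_le.2 (ZO_le Y hz)) (zpowers_le.2 hx)
  have hc := h.cent_le hE.1 h4 hY hle
  have k : IsPGroup 2 (MulAut (⊤ : Subgroup Y)) → IsPGroup 2 (MulAut Y) := fun h =>
    h.of_equiv (MulAut.congr topEquiv)
  have hT : IsPGroup 2 (⊤ : Subgroup Y) := isPGroup_top_iff.2 hY
  rcases Cfsg.Agent.S3758.dih (R := ⊤) (elab_subgroupOf hE.1 Y)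
    (by rw [card_subgroupOf_of_le hle, h4]) (by
      rw [CC_subgroupOf hle]; exact fun y hy => hc ⟨y.2, hy⟩) hT le_top with ⟨n, hn, ⟨e⟩⟩ | hq
  · by_cases h4' : 4 ≤ n
    · exact Or.inl (k (Cfsg.Agent.S3116.result hT (Or.inl ⟨n, h4', ⟨e⟩⟩)))
    have a := Nat.card_congr e.toEquiv
    rw [DihedralGroup.nat_card, card_top] at a
    obtain ⟨m, hm⟩ := (IsPGroup.iff_card (p := 2)).1 hY
    have hn2 : n = 2 := by
      by_contra h3
      obtain rfl : n = 3 := by omega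
      have : 3 ∣ 2 ^ m := by rw [← hm, a]; norm_num
      exact absurd (Nat.prime_three.dvd_of_dvd_pow this) (by norm_num)
    subst hn2
    have e' := H5.eq_of_le_of_card_le hle (by rw [a, h4])
    exact Or.inr (Or.inl ⟨e' ▸ hE.1, a⟩)
  · exact Or.inl (k (Cfsg.Agent.S3116.result hT (Or.inr hq)))

theorem le_CC_of_aut {Y H : Subgroup G} (hA : IsPGroup 2 (MulAut Y)) (hH : H ≤ NN(Y))
    (hc : (Nat.card H).Coprime 2) : H ≤ CC(Y) := by
  intro x hx
  obtain ⟨k, hk⟩ := hA (Y.normalizerMonoidHom ⟨x, hH hx⟩)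
  have h1 : (⟨x, hH hx⟩ : NN(Y)) ^ 2 ^ k ∈ Y.normalizerMonoidHom.ker := by
    rw [MonoidHom.mem_ker, map_pow, hk]
  rw [normalizerMonoidHom_ker] at h1
  exact mem_of_pow_mem ((hc.coprime_dvd_left (orderOf_dvd_natCard H hx)).pow_right k) h1

theorem NE.cases {Y H : Subgroup G} (h : NE Y) (hY : IsPGroup 2 Y) (hH : H ≤ NN(Y))
    (hc : (Nat.card H).Coprime 2) : H ≤ CC(Y) ∨
    (IsElementaryAbelian 2 Y ∧ Nat.card Y = 4) ∨ Nonempty (Y ≃* Q8) :=
  (h.aut hY).imp_left fun hA => le_CC_of_aut hA hH hc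

/-! ### the quaternion group -/

theorem act_surj' (φ : MulAut Q8) : ∃ σ, actHom σ = φ := by
  obtain ⟨σ, h1, h2⟩ := act_surj (φ (.a 1)) (φ (.xa 0)) (by
    rw [← map_mul, ← map_mul, φ.injective.ne_iff]; decide)
  refine ⟨σ, MulEquiv.ext fun x => ?_⟩
  obtain ⟨i, rfl | rfl⟩ := gen x
  · rw [map_pow, map_pow, ← h1]; rfl
  · rw [map_mul, map_mul, map_pow, map_pow, ← h1, ← h2]; rfl

theorem exists_theta {Y : Subgroup G} (e : Y ≃* Q8) : ∃ θ : NN(Y) →* S4,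
    ∀ (g : NN(Y)) (y : Y), e (Y.normalizerMonoidHom g y) = act (θ g) (e y) := by
  let E := MulEquiv.ofBijective actHom ⟨(injective_iff_map_eq_one _).2 fun σ h =>
    act_inj σ (MulEquiv.congr_fun h (.a 1)) (MulEquiv.congr_fun h (.xa 0)), act_surj'⟩
  refine ⟨E.symm.toMonoidHom.comp ((MulAut.congr e).toMonoidHom.comp Y.normalizerMonoidHom),
    fun g y => ?_⟩
  have := MulEquiv.congr_fun (E.apply_symm_apply (MulAut.congr e (Y.normalizerMonoidHom g))) (e y)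
  refine Eq.trans ?_ this.symm
  simp

theorem coe_nmh {Y : Subgroup G} (g : NN(Y)) (y : Y) :
    (Y.normalizerMonoidHom g y : G) = g * y * (g : G)⁻¹ := rfl

/-- inner automorphisms -/
def Inn (σ : S4) : Prop := ∃ y : Q8, ∀ x, act σ x = y * x * y⁻¹

instance : DecidablePred Inn := fun σ => by unfold Inn; infer_instance

theorem d1 : ∀ σ τ : S4, τ ≠ 1 → τ ^ 3 = 1 → σ ^ 8 = 1 → (σ * (τ * σ * τ⁻¹)) ^ 8 = 1 → Inn σ := by
  decide +kernel

theorem d2 : ∀ σ τ : S4, σ ^ 8 = 1 → τ ^ 8 = 1 → σ * τ = τ * σ → Inn σ ∨ Inn τ ∨ Inn (σ * τ) := by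
  decide +kernel

theorem d3 : ∀ (σ : S4) (i : Q8), i * i ≠ 1 → act σ i = i →
    Inn σ ∨ ∀ x, act (σ * σ) x = i * x * i⁻¹ := by
  decide +kernel

theorem pow8 {σ : S4} {k : ℕ} (h : σ ^ 2 ^ k = 1) : σ ^ 8 = 1 := by
  have h1 := orderOf_dvd_of_pow_eq_one h
  have h2 : orderOf σ ∣ 8 * 3 := by
    have := orderOf_dvd_card (x := σ)
    rwa [Fintype.card_perm, Fintype.card_fin] at this
  exact orderOf_dvd_iff_pow_eq_one.1 (Nat.Coprime.dvd_of_dvd_mul_right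
    ((Nat.Coprime.pow_left k (by norm_num : Nat.Coprime 2 3)).coprime_dvd_left h1) h2)

theorem pow3 {σ : S4} {m : ℕ} (hm : m.Coprime 2) (h : σ ^ m = 1) : σ ^ 3 = 1 := by
  have h1 := orderOf_dvd_of_pow_eq_one h
  have h2 : orderOf σ ∣ 2 ^ 3 * 3 := by
    have := orderOf_dvd_card (x := σ)
    rwa [Fintype.card_perm, Fintype.card_fin] at this
  exact orderOf_dvd_iff_pow_eq_one.1 (Nat.Coprime.dvd_of_dvd_mul_left
    ((hm.coprime_dvd_left h1).pow_right 3) h2)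

theorem cent_of_act {Y : Subgroup G} {e : Y ≃* Q8} {θ : NN(Y) →* S4}
    (hθ : ∀ (g : NN(Y)) (y : Y), e (Y.normalizerMonoidHom g y) = act (θ g) (e y)) {g : NN(Y)}
    {y : Y} (h : ∀ x, act (θ g) x = e y * x * (e y)⁻¹) : (y : G)⁻¹ * g ∈ CC(Y) := by
  refine mem_CC.2 fun x hx => ?_
  have := hθ g ⟨x, hx⟩
  rw [h, ← map_mul, ← map_inv, ← map_mul] at this
  have h2 := congrArg Subtype.val (e.injective this)
  rw [coe_nmh] at h2
  simp only [coe_mul, InvMemClass.coe_inv] at h2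
  calc x * ((y : G)⁻¹ * g) = (y : G)⁻¹ * (y * x * (y : G)⁻¹) * g := by group
    _ = (y : G)⁻¹ * g * x := by rw [← h2]; group

theorem mem_of_inn {Y P : Subgroup G} {e : Y ≃* Q8} {θ : NN(Y) →* S4}
    (hθ : ∀ (g : NN(Y)) (y : Y), e (Y.normalizerMonoidHom g y) = act (θ g) (e y)) (hYP : Y ≤ P)
    {g : NN(Y)} (hg : (g : G) ∈ P) (h : Inn (θ g)) : (g : G) ∈ Y ⊔ P ⊓ CC(Y) := by
  obtain ⟨y, hy⟩ := h
  have h1 := cent_of_act hθ (y := e.symm y) (by simpa using hy)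
  have h2 : (g : G) = e.symm y * ((e.symm y : G)⁻¹ * g) := by group
  rw [h2]
  exact mul_mem (mem_sup_left (e.symm y).2)
    (mem_sup_right ⟨P.mul_mem (P.inv_mem (hYP (e.symm y).2)) hg, h1⟩)

theorem q8_split {Y P H : Subgroup G} (e : Y ≃* Q8) (hP : IsPGroup 2 P) (hYP : Y ≤ P)
    (hn : P ≤ NN(Y)) (hHY : H ≤ NN(Y)) (hHP : H ≤ NN(P)) (hc : (Nat.card H).Coprime 2)
    (hH : ¬ H ≤ CC(Y)) : P ≤ Y ⊔ P ⊓ CC(Y) := by
  obtain ⟨θ, hθ⟩ := exists_theta e
  obtain ⟨h, hh, hh'⟩ := SetLike.not_le_iff_exists.1 hH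
  have h8 : ∀ g (hg : g ∈ P), θ ⟨g, hn hg⟩ ^ 8 = 1 := fun g hg => by
    obtain ⟨k, hk⟩ := isPGroup_iff_mem.1 hP g hg
    exact pow8 (k := k) (by rw [← map_pow, ← map_one θ]; exact congrArg θ (Subtype.ext hk))
  intro g hg
  refine mem_of_inn hθ hYP (g := ⟨g, hn hg⟩) hg (d1 _ (θ ⟨h, hHY hh⟩) (fun h1 => hh' ?_)
    (pow3 hc (by
      rw [← map_pow, ← map_one θ]
      exact congrArg θ (Subtype.ext (orderOf_dvd_iff_pow_eq_one.1 (orderOf_dvd_natCard H hh)))))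
    (h8 g hg) ?_)
  · have := cent_of_act hθ (g := ⟨h, hHY hh⟩) (y := 1) (fun x => by rw [h1, one_act]; simp)
    simpa using this
  · have := h8 _ (mul_mem hg (conj_mem_of_mem_NN (hHP hh) hg))
    rw [← map_inv, ← map_mul, ← map_mul, ← map_mul]
    exact this

theorem q1 : ∀ x : Q8, (∀ y, y * x = x * y) ↔ x * x = 1 := by decide
theorem q2 : ∀ x : Q8, x * x * (x * x) = 1 := by decide
theorem q3 : ∀ x y : Q8, ⁅x, y⁆ * ⁅x, y⁆ = 1 := by decide
theorem q4 : ∀ x : Q8, x * x = 1 → x = 1 ∨ x = .a 1 * .a 1 := by decide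

theorem q8_cent {Y : Subgroup G} (e : Y ≃* Q8) {x : G} (hx : x ∈ Y) : x ∈ CC(Y) ↔ x * x = 1 := by
  have h1 := q1 (e ⟨x, hx⟩)
  rw [← map_mul, map_eq_one_iff _ e.injective, Subtype.ext_iff] at h1
  refine Iff.trans ⟨fun h y => ?_, fun h => mem_CC.2 fun y hy => ?_⟩ h1
  · obtain ⟨y, rfl⟩ := e.surjective y
    rw [← map_mul, ← map_mul]
    exact congrArg e (Subtype.ext (mem_CC.1 h y y.2))
  · have := h (e ⟨y, hy⟩)
    rw [← map_mul, ← map_mul] at this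
    exact congrArg Subtype.val (e.injective this)

theorem q8_sq {Y : Subgroup G} (e : Y ≃* Q8) {x : G} (hx : x ∈ Y) : x * x ∈ CC(Y) := by
  refine (q8_cent e (mul_mem hx hx)).2 ?_
  have := q2 (e ⟨x, hx⟩)
  rw [← map_mul, ← map_mul, map_eq_one_iff _ e.injective] at this
  exact congrArg Subtype.val this

theorem q8_comm {Y : Subgroup G} (e : Y ≃* Q8) : ⁅Y, Y⁆ ≤ CC(Y) := by
  refine commutator_le.2 fun x hx y hy => (q8_cent e (commutator_le_self Y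
    (commutator_mem_commutator hx hy))).2 ?_
  have := q3 (e ⟨x, hx⟩) (e ⟨y, hy⟩)
  rw [← map_commutatorElement, ← map_mul, map_eq_one_iff _ e.injective] at this
  exact congrArg Subtype.val this

theorem q8_i {Y : Subgroup G} (e : Y ≃* Q8) : ∃ i ∈ Y, orderOf i = 4 ∧
    Y ⊓ CC(Y) ≤ zpowers (i * i) := by
  refine ⟨e.symm (.a 1), (e.symm _).2, ?_, fun x hx => ?_⟩
  · rw [orderOf_coe, MulEquiv.orderOf_eq, QuaternionGroup.orderOf_a_one]
  · have h1 := (q8_cent e hx.1).1 hx.2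
    rcases q4 (e ⟨x, hx.1⟩) (by
      rw [← map_mul, map_eq_one_iff _ e.injective]; exact Subtype.ext h1) with h | h
    · rw [map_eq_one_iff _ e.injective] at h
      rw [show x = 1 from congrArg Subtype.val h]; exact one_mem _
    · have : (⟨x, hx.1⟩ : Y) = e.symm (.a 1) * e.symm (.a 1) := by
        rw [← map_mul, ← h, e.symm_apply_apply]
      rw [show x = _ from congrArg Subtype.val this]
      exact mem_zpowers _

theorem sq_ne_one {i : G} (h : orderOf i = 4) : i * i ≠ 1 := fun e => by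
  have := orderOf_dvd_of_pow_eq_one (show i ^ 2 = 1 by rw [pow_two, e])
  rw [h] at this
  exact absurd this (by norm_num)

theorem ord_sq {i : G} (h : orderOf i = 4) : orderOf (i * i) = 2 := by
  rw [← pow_two, orderOf_pow' _ (by norm_num), h]; norm_num

theorem q8_not_ab {Y : Subgroup G} (e : Y ≃* Q8) : ¬ Y ≤ CC(Y) := fun h => by
  obtain ⟨i, hi, h4, -⟩ := q8_i e
  exact sq_ne_one h4 ((q8_cent e hi).1 (h hi))

theorem q8_card {Y : Subgroup G} (e : Y ≃* Q8) : Nat.card Y = 8 := by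
  rw [Nat.card_congr e.toEquiv, Nat.card_eq_fintype_card, QuaternionGroup.card]

theorem q8_card_center {Y : Subgroup G} (e : Y ≃* Q8) : Nat.card (Y ⊓ CC(Y) : Subgroup G) ≤ 2 := by
  obtain ⟨i, -, h4, h⟩ := q8_i e
  have := card_le_of_le h
  rwa [Nat.card_zpowers, ord_sq h4] at this

theorem q8_not_NE {Y W : Subgroup G} (e : Y ≃* Q8) (hW : IsPGroup 2 W) (hle : Y ≤ W)
    {c : G} (hc : c ∈ W ⊓ CC(Y)) (hcY : c ∉ Y) (h2 : c * c ∈ Y) : ¬ NE W := by
  intro h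
  obtain ⟨i, hi, h4, -⟩ := q8_i e
  have hic : Commute i c := mem_CC.1 hc.2 i hi
  have hB : zpowers i ⊔ zpowers c ≤ W := sup_le (zpowers_le.2 (hle hi)) (zpowers_le.2 hc.1)
  have hab : zpowers i ⊔ zpowers c ≤ CC(zpowers i ⊔ zpowers c) := by
    rw [CC_sup, CC_zpowers, CC_zpowers]
    exact sup_le (zpowers_le.2 ⟨mem_centralizer_singleton_iff.2 rfl,
      mem_centralizer_singleton_iff.2 hic⟩) (zpowers_le.2
      ⟨mem_centralizer_singleton_iff.2 hic.symm, mem_centralizer_singleton_iff.2 rfl⟩)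
  obtain ⟨V, h1, h3, h5⟩ := exists_step (hW.to_le hB) le_sup_left fun h0 =>
    hcY (zpowers_le.2 hi (h0 (mem_sup_right (mem_zpowers c))))
  rw [Nat.card_zpowers, h4] at h5
  refine not_cyclic h5 (fun x hx => ?_) (h V (h3.trans hB) (h3.trans (hab.trans (CC_anti h3))) h5)
  obtain ⟨_, ⟨a, rfl⟩, _, ⟨b, rfl⟩, rfl⟩ := (mem_sup_of_NN (zpowers_le.2 (CC_le_NN _ (by
    rw [CC_zpowers]; exact mem_centralizer_singleton_iff.2 hic)))).1 (h3 hx)
  have hc4 : c ^ 4 = 1 := by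
    have := (q8_cent e h2).1 (mul_mem hc.2 hc.2)
    rw [← this, ← pow_two, ← pow_two, ← pow_mul]
  have hi4 : i ^ 4 = 1 := h4 ▸ pow_orderOf_eq_one i
  rw [(hic.zpow_zpow a b).mul_pow, ← zpow_natCast, ← zpow_natCast, ← zpow_mul, ← zpow_mul,
    mul_comm a, mul_comm b, zpow_mul, zpow_mul, zpow_natCast, zpow_natCast, hi4, hc4]
  simp

end N8
end H10
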