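import Cfsg.Agent.H10.N8

/-!
Solvable groups minimal with respect to containing a noncyclic abelian subgroup of order `8`.
-/

set_option autoImplicit false

namespace H10
namespace N8

open Cfsg Subgroup Cfsg.Agent.S3742
open scoped commutatorElement

universe u

variable {G : Type u} [Group G] [Finite G]

local notation "Q8" => QuaternionGroup 2

theorem not_NE_core [Group.IsSolvable G] (hO : pPrimeCore 2 G = ⊥) {A : Subgroup G}
    (hA : A ≤ CC(A)) (h8 : Nat.card A = 8) (hc : ¬ IsCyclic A) : ¬ NE (pCore 2 G) := by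
  intro h
  set T := pCore 2 G
  have hT : IsPGroup 2 T := isPGroup_pCore'
  have hCT : CC(T) ≤ T := H1.centralizer_pCore_le hO
  have hA2 : IsPGroup 2 A := IsPGroup.of_card (n := 3) h8
  have hAT : ¬ A ≤ T := fun h1 => hc (h A h1 hA h8)
  have key : T.relIndex A ∣ 2 → 4 ≤ Nat.card (T ⊓ A : Subgroup G) := fun h1 => by
    have h2 := card_inf_mul_relIndex T A
    have h3 := Nat.le_of_dvd (by norm_num) h1
    rw [h8] at h2
    nlinarith
  rcases h.aut hT with h1 | ⟨h1, h4⟩ | ⟨⟨e⟩⟩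
  · refine hAT (le_top.trans (le_pCore' (P := ⊤) ?_))
    refine isPGroup_of_map (MulAut.conjNormal (H := T)) (h1.to_subgroup _) (hT.to_le fun x hx => ?_)
    refine hCT (mem_CC.2 fun y hy => ?_)
    have := congrArg Subtype.val (MulEquiv.congr_fun hx.2 ⟨y, hy⟩)
    rw [MulAut.conjNormal_apply] at this
    exact (mul_inv_eq_iff_eq_mul.1 this).symm
  · have h5 := key ((relIndex_dvd_of_le_left A hCT).trans
      (four_pgroup_relIndex h1 h4 hA2 (le_NN_of_normal _ _)))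
    have h6 := H5.eq_of_le_of_card_le (inf_le_left : T ⊓ A ≤ T) (h4 ▸ h5)
    exact hAT ((hA.trans (CC_anti (h6 ▸ inf_le_right))).trans hCT)
  obtain ⟨θ, hθ⟩ := exists_theta e
  have hn : ∀ g, g ∈ NN(T) := fun g => le_NN_of_normal ⊤ T trivial
  have hin : ∀ g, Inn (θ ⟨g, hn g⟩) → g ∈ T := fun g hg =>
    sup_le le_rfl (inf_le_right.trans hCT) (mem_of_inn (P := ⊤) hθ le_top (g := ⟨g, hn g⟩)
      trivial hg)
  have h8' : ∀ g ∈ A, θ ⟨g, hn g⟩ ^ 8 = 1 := fun g hg => by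
    rw [← map_pow, ← map_one θ]
    exact congrArg θ (Subtype.ext (orderOf_dvd_iff_pow_eq_one.1 (h8 ▸ orderOf_dvd_natCard A hg)))
  obtain ⟨a, ha, ha'⟩ := SetLike.not_le_iff_exists.1 hAT
  have h5 := key (Eq.dvd (by
    rw [relIndex_eq_two_iff]
    refine ⟨a, ha, fun b hb => ?_⟩
    by_cases hbT : b ∈ T
    · exact Or.inr ⟨hbT, fun h => ha' ((mul_mem_cancel_left hbT).1 h)⟩
    refine Or.inl ⟨?_, hbT⟩
    rcases d2 _ _ (h8' b hb) (h8' a ha) (by
      rw [← map_mul, ← map_mul]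
      exact congrArg θ (Subtype.ext (mem_CC.1 (hA ha) b hb))) with h | h | h
    · exact absurd (hin _ h) hbT
    · exact absurd (hin _ h) ha'
    · rw [← map_mul] at h; exact hin _ h))
  obtain ⟨i, hi, hi'⟩ : ∃ i ∈ T ⊓ A, i ∉ CC(T) := by
    by_contra! h6
    have := (card_le_of_le (show T ⊓ A ≤ T ⊓ CC(T) from le_inf inf_le_left h6)).trans
      (q8_card_center e)
    omega
  rw [q8_cent e hi.1] at hi'
  rcases d3 (θ ⟨a, hn a⟩) (e ⟨i, hi.1⟩) (fun h => hi' (by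
    rw [← map_mul, map_eq_one_iff _ e.injective] at h; exact congrArg Subtype.val h)) (by
      rw [← hθ]
      refine congrArg e (Subtype.ext ?_)
      rw [coe_nmh]
      exact mul_inv_eq_iff_eq_mul.2 (mem_CC.1 (hA ha) i hi.2).symm) with h6 | h6
  · exact ha' (hin _ h6)
  rw [← map_mul] at h6
  have h7 := cent_of_act hθ h6
  have h9 := (q8_cent e (hCT h7)).1 h7
  change i⁻¹ * (a * a) * (i⁻¹ * (a * a)) = 1 at h9
  have hia : Commute i a := mem_CC.1 (hA ha) i hi.2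
  have ha4 : a ^ 4 = 1 := by
    by_contra h4
    refine hc (isCyclic_of_orderOf_eq_card (⟨a, ha⟩ : A) ?_)
    rw [h8, orderOf_mk]
    refine orderOf_eq_prime_pow (p := 2) (n := 2) h4 ?_
    have := orderOf_dvd_natCard A ha
    rw [h8] at this
    exact orderOf_dvd_iff_pow_eq_one.1 this
  apply hi'
  have : i⁻¹ * (a * a) * (i⁻¹ * (a * a)) = (i * i)⁻¹ * a ^ 4 := by
    rw [mul_assoc, ← mul_assoc (a * a), ← ((hia.mul_right hia).inv_left).eq, mul_inv_rev,
      show a ^ 4 = a * a * (a * a) by rw [← pow_two, ← pow_two, ← pow_mul]]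
    simp only [mul_assoc]
  rw [this, ha4, mul_one, inv_eq_one] at h9
  exact h9

/-- the conclusion -/
def Concl (X : Subgroup G) : Prop := IsMulCommutative X ∨ (IsExtraspecial 2 X ∧ 32 ≤ Nat.card X) ∨
  (∃ (X₀ : Subgroup G) (k : ℕ), X₀ ≤ X ∧ X₀.relIndex X = 2 ∧
    Nonempty (X₀ ≃* QuaternionGroup (2 ^ (k + 1))) ∧ X₀ ⊔ (X ⊓ CC(X₀)) = X) ∨
  (IsSpecial 2 X ∧ Nat.card (center X) = 4)

theorem special_of {X : Subgroup G} (hX : IsPGroup 2 X) (h1 : X ⊓ CC(X) ≤ ⁅X, X⁆)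
    (h2 : frOf X ≤ X ⊓ CC(X)) : IsSpecial 2 X := by
  have h3 := comm_le_frOf hX
  refine ⟨hX, map_injective X.subtype_injective ?_, map_injective X.subtype_injective ?_⟩
  · rw [frOf_def, map_center_subtype]; exact le_antisymm h2 (h1.trans h3)
  · rw [map_subtype_commutator, map_center_subtype]; exact le_antisymm (h3.trans h2) h1

theorem concl_of {X : Subgroup G} (hs : IsSpecial 2 X) (hN : ¬ NE X) (hab : ¬ X ≤ CC(X))
    (h : Nat.card (X ⊓ CC(X) : Subgroup G) = 2 ∨ Nat.card (X ⊓ CC(X) : Subgroup G) = 4) :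
    Concl X := by
  rw [← map_center_subtype, card_map_subtype] at h
  rcases h with h | h
  · refine Or.inr (Or.inl ⟨⟨hs, h⟩, ?_⟩)
    obtain ⟨n, hn, e⟩ := Cfsg.Agent.S0095.result (P := X) (p := 2) ⟨hs, h⟩
    rcases (show n = 1 ∨ 2 ≤ n by omega) with rfl | h2
    · refine absurd (fun A hA h1 h8 => absurd ?_ hab) hN
      rwa [← H5.eq_of_le_of_card_le hA (by rw [e, h8]; norm_num)]
    · rw [e]
      exact Nat.pow_le_pow_right (n := 2) (i := 5) (by norm_num) (by omega)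
  · exact Or.inr (Or.inr (Or.inr ⟨hs, h⟩))

theorem main {X H : Subgroup G} [X.Normal] (hX : IsPGroup 2 X) (hc : (Nat.card H).Coprime 2)
    (htop : X ⊔ H = ⊤) (hN : ¬ NE X) (hmin : ∀ Y ≤ X, H ≤ NN(Y) → ¬ NE Y → X ≤ Y) :
    Concl X := by
  by_cases hab : X ≤ CC(X)
  · exact Or.inl (isMulCommutative_iff_le_CC.2 hab)
  have cop : ∀ Y ≤ X, (Nat.card H).Coprime (Nat.card Y) := fun Y hY =>
    (coprime_card_of_isPGroup (hX.to_le hY) hc).symm
  have sol : ∀ Y ≤ X, Group.IsSolvable H ∨ Group.IsSolvable Y := fun Y hY => by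
    haveI := isNilpotent_of_isPGroup (hX.to_le hY); exact Or.inr inferInstance
  have hne : ∀ Y ≤ X, H ≤ NN(Y) → ¬ X ≤ Y → NE Y := fun Y h1 h2 h3 => by
    by_contra h4; exact h3 (hmin Y h1 h2 h4)
  have c4 : ∀ U ≤ X, IsElementaryAbelian 2 U → Nat.card U = 4 → U.Normal → X ≤ CC(U) := by
    intro U hU h1 h4 _
    by_contra h5
    have h6 := (hne _ inf_le_left (le_NN_of_normal _ _) fun h => h5 (h.trans inf_le_right)).cent_le
      h1 h4 (hX.to_le inf_le_left) (le_inf hU (elab_le_CC h1))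
    have h7 := card_inf_mul_relIndex CC(U) X
    have h8 := Nat.le_of_dvd (by norm_num) (four_pgroup_relIndex h1 h4 hX (le_NN_of_normal _ _))
    have h9 : Nat.card (CC(U) ⊓ X : Subgroup G) ≤ 4 :=
      h4 ▸ card_le_of_le fun x hx => h6 ⟨⟨hx.2, hx.1⟩, hx.1⟩
    refine hN fun A hA h2 h3 => absurd ?_ hab
    rwa [← H5.eq_of_le_of_card_le hA (by rw [h3]; nlinarith)]
  have hYX : ⁅X, H⁆ ≤ X := commutator_le_left X H
  haveI : (⁅X, H⁆).Normal := normal_of_top_le_NN (htop ▸ sup_le (left_le_NN_comm _ _)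
    (right_le_NN_comm _ _))
  by_cases hY : X ≤ ⁅X, H⁆
  swap
  · have hinv : ∀ W, ⁅X, H⁆ ≤ W → W ≤ X → H ≤ NN(W) := fun W h1 h2 =>
      le_NN_of_comm_le_left ((commutator_mono h2 le_rfl).trans h1)
    have hcc := H1.commutator_commutator_eq (le_NN_of_normal H X) (cop X le_rfl) (sol X le_rfl)
    by_cases h0 : H ≤ CC(⁅X, H⁆)
    · rw [comm_eq_bot'.2 h0] at hcc
      refine absurd (fun A hA h2 h3 => ?_) hN
      by_contra h4
      have h5 := hmin A hA (hinv A (hcc ▸ bot_le) hA) fun h => h4 (h A le_rfl h2 h3)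
      exact hab (h5.trans (h2.trans (CC_anti h5)))
    rcases ((hne _ hYX (le_NN_of_normal _ _) hY).cases (hX.to_le hYX) (le_NN_of_normal _ _)
      hc).resolve_left h0 with ⟨h1, h4⟩ | ⟨⟨e⟩⟩
    · obtain ⟨W, h2, h3, h5, h6, h7⟩ := exists_W h1 h4 hX hYX fun h =>
        hY ((le_inf le_rfl (c4 _ hYX h1 h4 inferInstance)).trans h)
      have h8 := hmin W h3 (hinv W h2 h3) fun h => h7 (h W le_rfl h5 h6)
      exact absurd (h8.trans (h5.trans (CC_anti h8))) hab
    · obtain ⟨W, h2, h3, h5⟩ := exists_step hX hYX hY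
      have h6 := relIndex_two h2 h5
      have h7 := q8_split e (hX.to_le h3) h2 (le_NN_of_normal _ _) (le_NN_of_normal _ _)
        (hinv W h2 h3) hc h0
      obtain ⟨c, hc1, hc2⟩ : ∃ c ∈ W ⊓ CC(⁅X, H⁆), c ∉ ⁅X, H⁆ := by
        by_contra! h
        have := relIndex_eq_one.2 (h7.trans (sup_le le_rfl h))
        omega
      obtain rfl : W = X := le_antisymm h3 (hmin W h3 (hinv W h2 h3)
        (q8_not_NE e (hX.to_le h3) h2 hc1 hc2 (sq_mem h6 hc1.1)))
      exact Or.inr (Or.inr (Or.inl ⟨_, 0, h2, h6, ⟨e⟩, le_antisymm (sup_le h2 inf_le_left) h7⟩))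
  have hF : ∀ M ≤ X, H ≤ CC(M) → M ≤ ⁅X, X⁆ := by
    intro M hM h1
    let f := QuotientGroup.mk' ⁅X, X⁆
    haveI : IsMulCommutative (X.map f) := isMulCommutative_iff_le_CC.2 (comm_eq_bot.1 (by
      rw [← map_commutator, Subgroup.map_eq_bot_iff, QuotientGroup.ker_mk']))
    have h2 := H1.inf_centralizer_inf_commutator_eq_bot (V := X.map f) (A := H.map f)
      (map_le_NN_map f (le_NN_of_normal H X))
      (((cop X le_rfl).coprime_dvd_left (card_map_dvd H f)).coprime_dvd_right (card_map_dvd X f))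
    rw [← QuotientGroup.ker_mk' ⁅X, X⁆, ← Subgroup.map_eq_bot_iff, ← le_bot_iff, ← h2, ← map_commutator]
    exact le_inf (le_inf (map_mono hM) ((map_mono (le_CC_symm h1)).trans (map_CC_le f H)))
      (map_mono (hM.trans hY))
  have hX0 : ⁅X, X⁆ ≠ ⊥ := fun h => hab (comm_eq_bot.1 h)
  obtain ⟨M, ⟨hMn, hZM, hMX, hXM⟩, hmax⟩ := Finite.exists_le_maximal
    (p := fun M : Subgroup G => M.Normal ∧ X ⊓ CC(X) ≤ M ∧ M ≤ X ∧ ¬ X ≤ M) (a := X ⊓ CC(X))
    ⟨inferInstance, le_rfl, inf_le_left, fun h => hab (h.trans inf_le_right)⟩ |>.imp fun _ h => h.2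
  haveI : (frOf X).Normal := normal_of_top_le_NN (le_NN_frOf (le_NN_of_normal _ X))
  have hΦ : frOf X ≤ M := le_sup_right.trans (hmax (y := M ⊔ frOf X) ⟨inferInstance,
    hZM.trans le_sup_left, sup_le hMX (frOf_le X),
    fun h => hXM (eq_of_sup_frOf hMX le_rfl h).ge⟩ le_sup_left)
  have hX' := comm_le_frOf hX
  have hNM := hne M hMX (le_NN_of_normal _ _) hXM
  by_cases h0 : H ≤ CC(M)
  · have h1 : M ≤ X ⊓ CC(X) := le_inf hMX (le_CC_symm (hY.trans
      ((commutator_mono le_rfl h0).trans (commutator_le_right X CC(M)))))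
    have h2 := hZM.trans (hF M hMX h0)
    refine concl_of (special_of hX h2 (hΦ.trans h1)) hN hab ?_
    have h3 : X ⊓ CC(X) ≤ ZO 2 X := h2.trans (commutator_le.2 fun x hx y hy => by
      have h4 := h1 (hΦ (hX' (commutator_mem_commutator hx hy)))
      refine mem_ZO.2 ⟨h4.1, h4.2, ?_⟩
      rw [← commutator_pow_of_commute (mem_CC.1 h4.2 x hx), commutatorElement_eq_one_iff_mul_comm]
      exact (mem_CC.1 (h1 (hΦ (pow_mem_frOf hX hx))).2 y hy).symm)
    have hE := elab_of_le (elab_ZO X) h3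
    obtain ⟨n, hn⟩ := (IsPGroup.iff_card (p := 2)).1 (elab_isPGroup hE)
    have hn0 : n ≠ 0 := by
      rintro rfl
      exact hX0 (le_bot_iff.1 ((hX'.trans (hΦ.trans h1)).trans (card_eq_one.1 hn).le))
    have hn3 : n < 3 := by
      by_contra! h5
      obtain ⟨A, hA, h8⟩ := H5.exists_le_card_eq_pow (elab_isPGroup hE) (k := 3)
        (hn ▸ Nat.pow_le_pow_right (by norm_num) h5)
      have hA' := elab_of_le hE hA
      refine not_cyclic h8 (fun x hx => ?_) (hNM A (hA.trans hZM) (elab_le_CC hA') h8)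
      rw [show 4 = 2 * 2 from rfl, pow_mul, hA'.2 x hx, one_pow]
    rw [hn]
    rcases (show n = 1 ∨ n = 2 by omega) with rfl | rfl
    exacts [Or.inl rfl, Or.inr rfl]
  rcases (hNM.cases (hX.to_le hMX) (le_NN_of_normal _ _) hc).resolve_left h0 with ⟨h1, h4⟩ | ⟨⟨e⟩⟩
  · have h2 : M ≤ X ⊓ CC(X) := le_inf hMX (le_CC_symm (c4 M hMX h1 h4 hMn))
    have k : ∀ Y ≤ M, H ≤ NN(Y) → ¬ H ≤ CC(Y) → M ≤ Y := fun Y h5 h6 h7 => by
      rcases ((hNM.mono h5).cases (hX.to_le (h5.trans hMX)) h6 hc).resolve_left h7 with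
        ⟨-, h8⟩ | ⟨⟨e⟩⟩
      · exact (H5.eq_of_le_of_card_le h5 (by rw [h4, h8])).ge
      · have := card_le_of_le h5
        rw [q8_card e, h4] at this
        omega
    refine concl_of (special_of hX (hZM.trans (k _ (hX'.trans hΦ) (le_NN_of_normal _ _)
      fun h5 => hX0 ?_)) (hΦ.trans h2)) hN hab (Or.inr (by rw [le_antisymm hZM h2, h4]))
    haveI := h1.1
    have h6 := H1.inf_centralizer_inf_commutator_eq_bot (V := M) (le_NN_of_normal H M) (cop M hMX)
    rw [← le_bot_iff, ← h6]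
    refine le_inf (le_inf (hX'.trans hΦ) (le_CC_symm h5)) ((hX'.trans hΦ).trans
      (k _ (commutator_le_left M H) (right_le_NN_comm _ _) fun h7 => h0 ?_))
    rw [← comm_eq_bot', ← H1.commutator_commutator_eq (le_NN_of_normal H M) (cop M hMX)
      (sol M hMX), comm_eq_bot']
    exact h7
  have h1 := q8_split e hX hMX (le_NN_of_normal _ _) (le_NN_of_normal _ _) (le_NN_of_normal _ _)
    hc h0
  have hCX : ¬ X ≤ X ⊓ CC(M) := fun h => q8_not_ab e (hMX.trans (h.trans inf_le_right))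
  have hC0 : ¬ H ≤ CC(X ⊓ CC(M)) := fun h => hXM (hY.trans ((commutator_mono h1 le_rfl).trans
    (comm_sup_le (le_NN_self _) (le_NN_of_normal _ _) (commutator_le_left M H)
      ((comm_eq_bot'.2 h).le.trans bot_le))))
  rcases ((hne _ inf_le_left (le_NN_of_normal _ _) hCX).cases (hX.to_le inf_le_left)
    (le_NN_of_normal _ _) hc).resolve_left hC0 with ⟨h2, h4⟩ | ⟨⟨e'⟩⟩
  · exact absurd (h1.trans (sup_le le_rfl ((le_inf inf_le_left
      (le_CC_symm (c4 _ inf_le_left h2 h4 inferInstance))).trans hZM))) hXM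
  have z1 : ∀ x ∈ M, x ∈ CC(M) → x ∈ X ⊓ CC(X) := fun x h2 h3 =>
    ⟨hMX h2, CC_anti h1 (by rw [CC_sup]; exact ⟨h3, le_CC_symm inf_le_right h2⟩)⟩
  have z2 : ∀ x ∈ X ⊓ CC(M), x ∈ CC(X ⊓ CC(M)) → x ∈ X ⊓ CC(X) := fun x h2 h3 =>
    ⟨h2.1, CC_anti h1 (by rw [CC_sup]; exact ⟨h2.2, h3⟩)⟩
  have hb : ⁅M, X ⊓ CC(M)⁆ = ⊥ := comm_eq_bot'.2 inf_le_right
  have h2 : ⁅X, X⁆ ≤ X ⊓ CC(X) := by
    refine (commutator_mono h1 h1).trans (comm_sup_le (le_NN_of_normal _ _) (le_NN_of_normal _ _)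
      (comm_sup_le' (le_NN_of_normal _ _) (le_NN_of_normal _ _) (fun x hx => ?_)
        (hb.le.trans bot_le))
      (comm_sup_le' (le_NN_of_normal _ _) (le_NN_of_normal _ _) ?_ (fun x hx => ?_)))
    · exact z1 x (commutator_le_self M hx) (q8_comm e hx)
    · rw [commutator_comm, hb]; exact bot_le
    · exact z2 x (commutator_le_self _ hx) (q8_comm e' hx)
  have h3 : frOf X ≤ X ⊓ CC(X) := frOf_le_of (p := 2) h2 fun x hx => by
    obtain ⟨m, hm, c, hc', rfl⟩ := (mem_sup_of_NN' (le_NN_of_normal _ M)).1 (h1 hx)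
    rw [(show Commute m c from mem_CC.1 hc'.2 m hm).mul_pow, pow_two, pow_two]
    exact mul_mem (z1 _ (mul_mem hm hm) (q8_sq e hm)) (z2 _ (mul_mem hc' hc') (q8_sq e' hc'))
  have h4 : Nat.card (X ⊓ CC(X) : Subgroup G) ≤ 2 :=
    (card_le_of_le (le_inf hZM (inf_le_right.trans (CC_anti hMX)))).trans (q8_card_center e)
  have h5 := (one_lt_card_iff_ne_bot _).2 hX0
  have h6 := card_le_of_le h2
  exact concl_of (special_of hX (H5.eq_of_le_of_card_le h2 (by omega)).ge h3) hN hab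
    (Or.inl (by omega))

end N8
end H10
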