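import Cfsg.Agent.H10.PU5

/-!
Coordinates for a faithful natural `SL₂(F)`-module inside a group.
-/

set_option autoImplicit false
set_option linter.unusedSectionVars false

namespace H10

open Cfsg H4 H12
open scoped commutatorElement MatrixGroups

variable {G : Type*} [Group G] {p : ℕ} {F : Type*} [Field F] {V L T : Subgroup G}

/-- parametrisation of a natural module -/
structure NP (V L T : Subgroup G) (E : (Fin 2 → F) → G) (R : SL(2, F) →* G) : Prop where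
  add : ∀ x y, E (x + y) = E x * E y
  inj : Function.Injective E
  mem : ∀ v, v ∈ V ↔ ∃ x, E x = v
  injR : Function.Injective R
  range : R.range = L
  act : ∀ M x, R M * E x * (R M)⁻¹ = E (M • x)
  up : (upU F).map R = T

theorem charP_of_card [Fact p.Prime] [Fintype F] {n : ℕ} (hF : Fintype.card F = p ^ n) : CharP F p := by
  obtain ⟨r, hr⟩ := CharP.exists F
  obtain ⟨m, hrp, hm⟩ := FiniteField.card F r
  obtain rfl : r = p := (Nat.prime_dvd_prime_iff_eq hrp Fact.out).1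
    (hrp.dvd_of_dvd_pow (hF ▸ hm ▸ dvd_pow_self r m.ne_zero))
  exact hr

theorem exists_NP [Fact p.Prime] [Finite G] [Finite F] [CharP F p] (h : IsNaturalSL2Module F V L)
    (hf : L ⊓ CC(V) = ⊥) (hT : IsSylowIn p T L) : ∃ (E : (Fin 2 → F) → G) (R : SL(2, F) →* G),
    NP V L T E R := by
  obtain ⟨-, ρ, ψ, hs, hk, act⟩ := h
  have hi : Function.Injective ρ := (MonoidHom.ker_eq_bot_iff ρ).1 (by
    rw [hk, ← Subgroup.inf_subgroupOf_left, hf, Subgroup.bot_subgroupOf])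
  let e := MulEquiv.ofBijective ρ ⟨hi, hs⟩
  let R := L.subtype.comp e.symm.toMonoidHom
  have hR : Function.Injective R := L.subtype_injective.comp e.symm.injective
  have hr : R.range = L := by
    rw [MonoidHom.range_comp, MonoidHom.range_eq_top.2 e.symm.surjective, map_top_subtype]
  have hU : IsSylowIn p ((upU F).map R) L := by
    have := (isSylowIn_of_not_dvd le_top (sylIn_upU (F := F) (p := p)).pgrp sylIn_upU.not_dvd).map R
    rwa [← MonoidHom.range_eq_map, hr] at this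
  obtain ⟨g, hg, e1⟩ := hU.exists_cj hT
  obtain ⟨N, rfl⟩ := hr.ge hg
  have a : ∀ M x, R M * ((ψ.symm x).toMul : V) * (R M)⁻¹ = ((ψ.symm (M • x)).toMul : V) := by
    intro M x
    obtain ⟨w, h1, h2⟩ := act (e.symm M) (ψ.symm x).toMul
    rw [ofMul_toMul, ψ.apply_symm_apply, show ρ (e.symm M) = M from e.apply_symm_apply M] at h2
    rw [show M • x = _ from h2.symm, ψ.symm_apply_apply]; exact h1.symm
  refine ⟨fun x => ((ψ.symm (N • x)).toMul : V), R.comp (MulAut.conj N).toMonoidHom,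
    fun x y => by rw [smul_add, map_add, toMul_add, Subgroup.coe_mul], fun x y h => MulAction.injective N
      (ψ.symm.injective (Additive.toMul.injective (Subtype.ext h))), fun v => ⟨fun hv =>
      ⟨N⁻¹ • ψ (Additive.ofMul ⟨v, hv⟩), by rw [smul_inv_smul, ψ.symm_apply_apply]; rfl⟩, ?_⟩,
    hR.comp (MulAut.conj N).injective, ?_, fun M x => ?_, ?_⟩
  · rintro ⟨x, rfl⟩; exact Subtype.property _
  · rw [MonoidHom.range_comp, MonoidHom.range_eq_top.2 (MulAut.conj N).surjective,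
      ← MonoidHom.range_eq_map, hr]
  · refine (a _ _).trans ?_
    rw [← mul_smul, ← mul_smul]
    exact congrArg (fun M : SL(2, F) => (((ψ.symm (M • x)).toMul : V) : G)) (inv_mul_cancel_right _ _)
  · rw [← Subgroup.map_map, cj_def, map_cj, e1]

/-- diagonal matrices -/
def dgT (c : F) (hc : c ≠ 0) : SL(2, F) := ⟨!![c, 0; 0, c⁻¹], by simp [Matrix.det_fin_two, hc]⟩

theorem sl2_smul (M : SL(2, F)) (x : Fin 2 → F) :
    M • x = ![M.1 0 0 * x 0 + M.1 0 1 * x 1, M.1 1 0 * x 0 + M.1 1 1 * x 1] := by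
  ext i; fin_cases i <;>
    simp [Matrix.SpecialLinearGroup.smul_def, Matrix.mulVec, dotProduct, Fin.sum_univ_two]

namespace NP

variable {E : (Fin 2 → F) → G} {R : SL(2, F) →* G} (h : NP V L T E R)
include h

theorem zero : E 0 = 1 := by
  have := h.add 0 0
  rwa [add_zero, left_eq_mul] at this

theorem neg (x : Fin 2 → F) : E (-x) = (E x)⁻¹ := by
  rw [eq_inv_iff_mul_eq_one, ← h.add, neg_add_cancel, h.zero]

theorem eq_one {x : Fin 2 → F} : E x = 1 ↔ x = 0 := by rw [← h.zero, h.inj.eq_iff]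

theorem memV (x : Fin 2 → F) : E x ∈ V := (h.mem _).2 ⟨x, rfl⟩

theorem comm (x : Fin 2 → F) (M : SL(2, F)) : ⁅E x, R M⁆ = E (x - M • x) := by
  rw [sub_eq_add_neg, h.add, h.neg, ← h.act, commutatorElement_def]; group

theorem fix {x : Fin 2 → F} {M : SL(2, F)} : R M * E x = E x * R M ↔ M • x = x := by
  rw [← h.inj.eq_iff, ← h.act, mul_inv_eq_iff_eq_mul]

theorem memT {g : G} : g ∈ T ↔ ∃ t, R (upT t) = g := by
  rw [← h.up]
  exact ⟨fun ⟨_, hM, e⟩ => (mem_upU.1 hM).elim fun t ht => ⟨t, ht ▸ e⟩,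
    fun ⟨t, e⟩ => ⟨_, upT_mem_upU t, e⟩⟩

theorem fix_up {x : Fin 2 → F} {t : F} : R (upT t) * E x = E x * R (upT t) ↔ t * x 1 = 0 := by
  rw [h.fix, upT_smul']
  exact ⟨fun e => by simpa using congrFun e 0, fun e => by ext i; fin_cases i <;> simp [e]⟩

theorem memC {x : Fin 2 → F} : E x ∈ CC(T) ↔ x 1 = 0 :=
  ⟨fun e => one_mul (x 1) ▸ h.fix_up.1 (mem_CC.1 e _ (h.memT.2 ⟨1, rfl⟩)), fun e => mem_CC.2
    fun _ hg => (h.memT.1 hg).elim fun t ht => ht ▸ h.fix_up.2 (by rw [e, mul_zero])⟩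

theorem memZ {v : G} : v ∈ V ⊓ CC(T) ↔ ∃ a, E ![a, 0] = v := by
  refine ⟨fun hv => ?_, fun ⟨a, e⟩ => e ▸ ⟨h.memV _, h.memC.2 rfl⟩⟩
  obtain ⟨x, rfl⟩ := (h.mem v).1 hv.1
  exact ⟨x 0, congrArg E (by ext i; fin_cases i <;> simp [h.memC.1 hv.2])⟩

theorem comm_up (x : Fin 2 → F) (t : F) : ⁅E x, R (upT t)⁆ = E ![-(t * x 1), 0] := by
  rw [h.comm, upT_smul']
  exact congrArg E (by ext i; fin_cases i <;> simp)

theorem comm_le : ⁅V, T⁆ ≤ V ⊓ CC(T) := Subgroup.commutator_le.2 fun v hv s hs => by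
  obtain ⟨x, rfl⟩ := (h.mem v).1 hv
  obtain ⟨t, rfl⟩ := h.memT.1 hs
  exact h.memZ.2 ⟨_, (h.comm_up x t).symm⟩

theorem cardV [Fintype F] : Nat.card V = Fintype.card F ^ 2 := by
  rw [← Nat.card_congr (Equiv.ofBijective (fun x => (⟨E x, h.memV x⟩ : V))
    ⟨fun _ _ e => h.inj (congrArg Subtype.val e), fun v => ((h.mem v).1 v.2).imp fun _ => Subtype.ext⟩)]
  simp

theorem cardZ [Fintype F] : Nat.card (V ⊓ CC(T) : Subgroup G) = Fintype.card F := by
  rw [← Nat.card_congr (Equiv.ofBijective (fun a => (⟨_, h.memZ.2 ⟨a, rfl⟩⟩ : (V ⊓ CC(T) : Subgroup G)))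
    ⟨fun _ _ e => congrFun (h.inj (congrArg Subtype.val e)) 0,
      fun v => (h.memZ.1 v.2).imp fun _ => Subtype.ext⟩), Nat.card_eq_fintype_card]

theorem mem_NN [Finite G] {M : SL(2, F)} (hM : M.1 1 0 = 0) : R M ∈ L ⊓ NN(T) :=
  ⟨h.range.le ⟨M, rfl⟩, mem_NN_of_conj_mem fun s hs => by
    obtain ⟨t, rfl⟩ := h.memT.1 hs
    exact h.memT.2 ⟨_, by rw [← conj_upT_borel hM, map_mul, map_mul, map_inv]⟩⟩

theorem dg_mem [Finite G] {U : Subgroup G} (hU : L ⊓ NN(T) ≤ NN(U)) {x : Fin 2 → F} (hx : E x ∈ U)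
    {c : F} (hc : c ≠ 0) : E ![c * x 0, c⁻¹ * x 1] ∈ U := by
  have := conj_mem_of_mem_NN (hU (h.mem_NN (M := dgT c hc) rfl)) hx
  rw [h.act, sl2_smul] at this
  simpa [dgT] using this

end NP

end H10
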