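import Cfsg.Agent.H10.PU8
import Cfsg.Agent.H9.Blackburn
import Cfsg.Agent.H1.Gasch

/-!
Pushing up inside a maximal `p`-local subgroup.
-/

set_option autoImplicit false
set_option linter.unusedSectionVars false

namespace H10

open Cfsg
open scoped commutatorElement MatrixGroups

variable {G : Type*} [Group G] {p q : ℕ} [Fact p.Prime] [Finite G] {P S T U V W : Subgroup G}

theorem CP.cj {P' T' : Subgroup G} (h : CP p P P' T T') (g : G) :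
    CP p (H10.cj g P) (H10.cj g P') (H10.cj g T) (H10.cj g T') :=
  ⟨h.v.cj g, h.v'.cj g, h.s.cj g, h.s'.cj g, cj_ZQ (p := p) g P ▸ cj_mono g h.le,
    cj_ZQ (p := p) g P' ▸ cj_mono g h.le', by
      rw [← cj_ZQ, ← cj_pCoreOf, cj_le_cj]; exact h.nle⟩

theorem frOf_sup_le {Z D : Subgroup G} (hZ : IsElementaryAbelian p Z) (hD : IsPGroup p D)
    (hc : D ≤ CC(Z)) : frOf (Z ⊔ D) ≤ frOf D := by
  refine frOf_le_of (p := p) ((comm_sup_sup_le le_rfl le_rfl hc).trans (sup_le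
    ((comm_eq_bot.2 (elab_le_CC hZ)).le.trans bot_le) (comm_le_frOf hD))) fun x hx => ?_
  obtain ⟨u, hu, d, hd, rfl⟩ := (mem_sup_of_NN' (hc.trans (CC_le_NN Z))).1 hx
  rw [Commute.mul_pow (mem_CC.1 (hc hd) u hu), (isElementaryAbelian_iff.1 hZ).2 u hu, one_mul]
  exact pow_mem_frOf hD hd

theorem CP.frOf_eq {P' : Subgroup G} (h : CP p P P' T T) :
    frOf (pCoreOf p P) = frOf (pCoreOf p P' ⊓ pCoreOf p P) :=
  le_antisymm ((congrArg frOf h.Q_eq).ge.trans (frOf_sup_le (elab_ZO _)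
    ((isPGroup_pCoreOf P).to_le inf_le_right) (inf_le_right.trans (Q_le_CC_ZQ P))))
    (frOf_mono (isPGroup_pCoreOf P) inf_le_right)

theorem ZQ_eq_of_frOf (h : frOf (pCoreOf p P) = ⊥) : ZQ p P = pCoreOf p P :=
  le_antisymm (ZQ_le P) (le_ZO le_rfl (comm_eq_bot.1 (eq_bot_iff.2
    ((comm_le_frOf (isPGroup_pCoreOf P)).trans h.le))) fun _ ha =>
      Subgroup.mem_bot.1 (h ▸ pow_mem_frOf (isPGroup_pCoreOf P) ha))

theorem exists_compl_of_sylow (hT : IsSylowIn p T P) (hV : V ≤ CC(V)) (hn : P ≤ NN(V)) {B : Subgroup G}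
    (h1 : B ⊓ V = ⊥) (h2 : V ⊔ B = T) : ∃ L, L ⊓ V = ⊥ ∧ V ⊔ L = P := by
  have hVP : V ≤ P := (le_sup_left.trans h2.le).trans hT.le
  have hBP : B ≤ P := (le_sup_right.trans h2.le).trans hT.le
  haveI := normal_subgroupOf hn
  haveI : IsMulCommutative (V.subgroupOf P) := isMulCommutative_iff_le_CC.2 (by
    rw [CC_subgroupOf hVP]; exact Subgroup.subgroupOf_mono P hV)
  obtain ⟨k, hk⟩ := (isPGroup_subgroupOf (hT.isPGroup.to_le (le_sup_left.trans h2.le)) P).exists_card_eq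
  obtain ⟨L, hL⟩ := H1.gaschutz_exists (A := V.subgroupOf P) (U := T.subgroupOf P) (H := B.subgroupOf P)
    (eq_bot_iff.2 fun x hx => Subtype.ext (Subgroup.mem_bot.1 (h1.le hx)))
    (by rw [← Subgroup.subgroupOf_sup hVP hBP, h2])
    (by rw [hk]; exact ((Nat.Prime.coprime_iff_not_dvd Fact.out).2 hT.not_dvd_relIndex).pow_left k)
  refine ⟨L.map P.subtype, ?_, ?_⟩
  · rw [← map_subgroupOf_of_le hVP, ← Subgroup.map_inf_eq _ _ _ P.subtype_injective, inf_comm,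
      disjoint_iff.1 hL.disjoint, Subgroup.map_bot]
  · rw [← map_subgroupOf_of_le hVP, ← Subgroup.map_sup, hL.sup_eq_top, map_top_subtype]

theorem NV.qd (h : NV p q P V) (hp : ∀ v ∈ V, v ^ p = 1) (h2 : p ≠ 2) (hc : P ⊓ CC(V) ≤ V)
    {L : Subgroup G} (h1 : L ⊓ V = ⊥) (e : V ⊔ L = P) (F : Type*) [Field F] [Fintype F]
    (hF : Fintype.card F = q) : IsInternalDirectProduct (⁅V, P⁆ ⊔ L) (V ⊓ CC(P)) P ∧
      Nonempty ((⁅V, P⁆ ⊔ L : Subgroup G) ≃* qdOver F) := by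
  obtain ⟨S, hS⟩ := exists_isSylowIn p P
  have hV : V ≤ P := le_sup_left.trans e.le
  have hL : L ≤ P := le_sup_right.trans e.le
  have c1 : ⁅V, P⁆ ≤ V := comm_le_left h.nn
  have n1 : P ≤ NN(⁅V, P⁆) := right_le_NN_comm _ _
  have hG : ⁅V, P⁆ ⊔ L ≤ P := sup_le (c1.trans hV) hL
  have e1 : ⁅V, P⁆ ⊔ V ⊓ CC(P) = V := h.irr n1 c1 fun e => h.comm_not_le hS le_rfl (h.rk.not_le hS)
    ((Subgroup.commutator_mono le_rfl hS.le).trans e)
  have e2 : (⁅V, P⁆ ⊔ L) ⊓ (V ⊓ CC(P)) = ⊥ := by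
    rw [← inf_assoc, dedekind_right c1 (hL.trans n1), h1, sup_bot_eq, h.comm_inf_eq_bot hp h2]
  refine ⟨⟨hG, inf_le_left.trans hV, fun a ha b hb => mem_CC.1 hb.2 a (hG ha), e2, by
    rw [sup_right_comm, e1, e]⟩, ?_⟩
  obtain ⟨S, T, ρ, ψ, n⟩ := h.na' hp F hF
  have ex : ∀ g : P, ∃ z : V, (z : G)⁻¹ * g ∈ L := fun g => by
    obtain ⟨a, ha, b, hb, e⟩ := (mem_sup_of_NN' (hL.trans h.nn)).1 (e.ge g.2)
    exact ⟨⟨a, ha⟩, by rwa [← e, inv_mul_cancel_left]⟩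
  choose z hz using ex
  have un : ∀ (g : P) (w : V), (w : G)⁻¹ * g ∈ L → z g = w := fun g w hw => by
    have := Subgroup.mem_bot.1 (h1.le ⟨L.mul_mem hw (L.inv_mem (hz g)), by
      simpa [mul_assoc] using V.mul_mem (V.inv_mem w.2) (z g).2⟩)
    exact Subtype.ext (by simpa [mul_assoc, inv_mul_eq_one, eq_comm] using this)
  let θ : P →* qdOver F := MonoidHom.mk' (fun g => H12.af (ρ g) (ψ (z g)).toAdd) fun a b => by
    rw [H12.af_mul, map_mul, un (a * b) (z a * ⟨_, conj_mem_of_mem_NN (h.nn a.2) (z b).2⟩) ?_, map_mul,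
      toAdd_mul, n.na.act a (z b) ⟨_, conj_mem_of_mem_NN (h.nn a.2) (z b).2⟩ rfl]
    have c := mem_CC.1 (h.ab (V.inv_mem (z a).2)) _ (conj_mem_of_mem_NN (h.nn a.2) (V.inv_mem (z b).2))
    have := L.mul_mem (hz a) (hz b)
    convert this using 1
    rw [Subgroup.coe_mul, Subgroup.coe_mul, mul_inv_rev]
    calc _ = (a * (z b : G)⁻¹ * (a : G)⁻¹) * (z a : G)⁻¹ * (a * b) := by group
      _ = (z a : G)⁻¹ * (a * (z b : G)⁻¹ * (a : G)⁻¹) * (a * b) := by rw [c]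
      _ = _ := by group
  refine ⟨MulEquiv.ofBijective (θ.comp (Subgroup.inclusion hG)) ⟨(injective_iff_map_eq_one _).2
    fun g hg => ?_, fun X => ?_⟩⟩
  · have := H12.af_inj.1 (hg.trans H12.af_one.symm)
    have h3 : (g : G) ∈ V := hc ⟨hG g.2, (n.ker _).1 this.1⟩
    rw [un _ ⟨g, h3⟩ (by simp)] at this
    exact Subtype.ext (Subgroup.mem_bot.1 (e2.le ⟨g.2, (natAct_mem n.na ⟨g, h3⟩).2 this.2⟩))
  · obtain ⟨M, w, rfl⟩ := H12.af_surj X
    obtain ⟨g, rfl⟩ := n.surj M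
    obtain ⟨v, hv⟩ := n.na.surj (Multiplicative.ofAdd w)
    obtain ⟨a, ha, b, hb, e3⟩ := (mem_sup_of_NN' ((inf_le_left.trans hV).trans n1)).1 (e1.ge v.2)
    refine ⟨⟨a * ((z g : G)⁻¹ * g), Subgroup.mul_mem _ (Subgroup.mem_sup_left ha)
      (Subgroup.mem_sup_right (hz g))⟩, H12.af_inj.2 ⟨?_, ?_⟩⟩
    · have k : ∀ v : V, ρ ⟨v, hV v.2⟩ = 1 := fun v => (n.ker _).2 (h.ab v.2)
      change ρ (⟨a, hV (c1 ha)⟩ * (⟨z g, hV (z g).2⟩⁻¹ * g)) = _
      rw [map_mul, map_mul, map_inv, k ⟨a, c1 ha⟩, k, inv_one, one_mul, one_mul]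
    · rw [un _ ⟨a, c1 ha⟩ (by simpa using hz g), ← toAdd_ofAdd w, ← hv,
        show v = ⟨a, c1 ha⟩ * ⟨b, hb.1⟩ from Subtype.ext e3.symm, map_mul, (n.na.ker ⟨b, hb.1⟩).2 hb,
        mul_one]

theorem CP.qd {P' : Subgroup G} (h : CP p P P' T T) (n : NV p q P (ZQ p P)) (h2 : p ≠ 2)
    (h0 : frOf (pCoreOf p P) = ⊥) (F : Type*) [Field F] [Fintype F] (hF : Fintype.card F = q) :
    ∃ G₀ E : Subgroup G, IsInternalDirectProduct G₀ E P ∧ IsElementaryAbelian p E ∧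
      Nonempty (G₀ ≃* qdOver F) := by
  have e := ZQ_eq_of_frOf h0
  obtain ⟨B, h1, h3, h4⟩ := H9.exists_compl_of_elementary (elab_ZO (pCoreOf p P'))
    (inf_le_left : ZQ p P' ⊓ ZQ p P ≤ _)
  obtain ⟨L, h5, h6⟩ := exists_compl_of_sylow h.s n.ab n.nn (B := B)
    (eq_bot_iff.2 (le_trans (le_inf (le_inf (inf_le_left.trans h1) inf_le_right) inf_le_left) h3.le))
    (le_antisymm (sup_le h.le (h1.trans h.le')) (h.symm.sup.ge.trans (sup_le (h4.ge.trans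
      (sup_le_sup_right inf_le_right _)) (le_sup_of_le_left e.ge))))
  have := n.qd (fun _ => pow_ZQ) h2 (h.cent.trans e.ge) h5 h6 F hF
  exact ⟨_, _, this.1, elab_of_le (elab_ZO _) inf_le_left, this.2⟩

end H10
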