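import Cfsg.Agent.H10.PU13
import Cfsg.Agent.H10.PU9

/-!
Pushing up `SL₂(q)`: two rank one groups over the same Sylow subgroup.
-/

set_option autoImplicit false
set_option linter.unusedSectionVars false

namespace H10

open Cfsg
open scoped commutatorElement

variable {G : Type*} [Group G] {p q q' : ℕ} {P P' S A D V : Subgroup G}

/-- the subgroup `S₀` of Glauberman and Niles -/
def S0 (p : ℕ) (S : Subgroup G) : Subgroup G :=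
  if p = 2 then ⁅frOf S, S⁆ ⊔ frOf (frOf S) else if p = 3 then ⁅⁅frOf S, S⁆, S⁆ ⊔ frOf (frOf S)
    else ⁅frOf S, S⁆ ⊔ powerClosure p 1 S

theorem pow_mem_sup {B N : Subgroup G} {n : ℕ} (hA : A ≤ NN(N)) (hB : B ≤ NN(N)) (hc : ⁅A, B⁆ ≤ N)
    (h1 : ∀ a ∈ A, a ^ n ∈ N) (h2 : ∀ a ∈ B, a ^ n ∈ N) (hn : B ≤ NN(A)) {x : G} (hx : x ∈ A ⊔ B) :
    x ^ n ∈ N := by
  obtain ⟨a, ha, b, hb, rfl⟩ := (mem_sup_of_NN' hn).1 hx
  haveI := normal_subgroupOf (le_refl NN(N))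
  have c : Commute (QuotientGroup.mk ⟨a, hA ha⟩ : NN(N) ⧸ N.subgroupOf NN(N))
      (QuotientGroup.mk ⟨b, hB hb⟩) := commutatorElement_eq_one_iff_commute.1
    ((QuotientGroup.eq_one_iff (N := N.subgroupOf NN(N)) ⁅(⟨a, hA ha⟩ : NN(N)), ⟨b, hB hb⟩⁆).2
      (hc (Subgroup.commutator_mem_commutator ha hb)))
  refine (QuotientGroup.eq_one_iff (N := N.subgroupOf NN(N))
    ((⟨a, hA ha⟩ * ⟨b, hB hb⟩ : NN(N)) ^ n)).1 ?_
  rw [QuotientGroup.mk_pow, QuotientGroup.mk_mul, c.mul_pow, ← QuotientGroup.mk_pow,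
    ← QuotientGroup.mk_pow, (QuotientGroup.eq_one_iff (N := N.subgroupOf NN(N)) (⟨a, hA ha⟩ ^ n)).2
    (h1 a ha), (QuotientGroup.eq_one_iff (N := N.subgroupOf NN(N)) (⟨b, hB hb⟩ ^ n)).2 (h2 b hb),
    mul_one]

variable [Finite G] [Fact p.Prime]

local notation "𝐐" => pCoreOf p P
local notation "𝐕" => ZQ p P
local notation "𝐑" => resOf p P
local notation "𝚪" => pCoreOf p P ⊓ CC(resOf p P)

theorem frOf_le_CC (hD : D ≤ 𝐐) (h : ⁅D, 𝐑⁆ ≤ 𝐕) : frOf D ≤ CC(𝐑) := by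
  have h1 : ⁅⁅D, 𝐑⁆, D⁆ ≤ ⊥ := (comm_eq_bot'.2 ((hD.trans (Q_le_CC_ZQ P)).trans (CC_anti h))).le
  have n : ∀ {X : Subgroup G}, X ≤ NN((⊥ : Subgroup G)) := fun {_} => le_top.trans NN_bot.ge
  refine frOf_le_of (p := p) (comm_eq_bot.1 (eq_bot_iff.2 (three_subgroups n n n h1
    (Subgroup.commutator_comm D 𝐑 ▸ h1)))) fun x hx => mem_CC.2 fun g hg => ?_
  have hv := comm_inv_mem (h (Subgroup.commutator_mem_commutator hx hg))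
  rw [← mul_inv_eq_iff_eq_mul, ← conj_pow, show g * x * g⁻¹ = ⁅g, x⁆ * x by
    simp [commutatorElement_def], Commute.mul_pow (mem_CC.1 (Q_le_CC_ZQ P (hD hx)) _ hv), pow_ZQ hv,
    one_mul]

theorem NV.exists_neg (h : NV p q P V) (hp : ∀ v ∈ V, v ^ p = 1) (h2 : p ≠ 2) :
    ∃ z ∈ 𝐑, (∀ v ∈ V, z * v * z⁻¹ * v ∈ CC(P)) ∧ ∀ g ∈ P, ⁅z, g⁆ ∈ CC(V) := by
  obtain ⟨S, hS⟩ := exists_isSylowIn p P
  obtain ⟨T, hT, e⟩ := (h.rk S hS).opp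
  obtain ⟨F, _, _, ρ, ψ, n⟩ := h.na0 hp hS hT e
  have : (-1 : Matrix.SpecialLinearGroup (Fin 2) F) ∈ (resOf p (⊤ : Subgroup P)).map ρ := by
    rw [map_resOf, Subgroup.map_top_of_surjective _ n.surj]
    exact mem_resOf trivial (((Nat.coprime_primes Nat.prime_two Fact.out).2 h2.symm).coprime_dvd_left
      (orderOf_dvd_of_pow_eq_one (by simp)))
  obtain ⟨z, hz, e⟩ := this
  refine ⟨z, resOf_mono (map_top_subtype P).le (map_resOf_le P.subtype ⊤ ⟨z, hz, rfl⟩),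
    fun v hv => ((natAct_mem n.na (⟨_, conj_mem_of_mem_NN (h.nn z.2) hv⟩ * ⟨v, hv⟩)).2 ?_).2,
    fun g hg => (n.ker ⁅z, ⟨g, hg⟩⁆).1 (by simp [e, commutatorElement_def])⟩
  rw [map_mul, toAdd_mul, n.na.act z ⟨v, hv⟩ _ rfl, e]
  simp [Matrix.SpecialLinearGroup.smul_def]

theorem mem_of_sq_mem {N : Subgroup G} {v : G} (h2 : p ≠ 2) (hv : v ^ p = 1) (h : v * v ∈ N) : v ∈ N :=
  mem_of_pow_mem (((Nat.coprime_primes Fact.out Nat.prime_two).2 h2).coprime_dvd_left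
    (orderOf_dvd_of_pow_eq_one hv)) (pow_two v ▸ h)

theorem le_NN_Γ : P ≤ NN(𝚪) := le_NN_inf (le_NN_pCoreOf P) (le_NN_CC (le_NN_resOf P))

theorem Γ_le : 𝚪 ≤ CC(𝐕) := inf_le_left.trans (Q_le_CC_ZQ P)

namespace GP

variable (h : GP p q P S) (hF : ⁅pCoreOf p P, resOf p P⁆ ≤ ZQ p P)
include h hF

theorem Q_le (h2 : p ≠ 2) : 𝐐 ≤ 𝐕 ⊔ 𝚪 ∧ ∀ s ∈ S, s ^ p ∈ 𝚪 := by
  obtain ⟨z, hz, z1, z2⟩ := h.nv.exists_neg (fun _ => pow_ZQ) h2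
  have hc : P ⊓ CC(𝐕) ≤ 𝐐 := h.ch.inf_le_Q (le_NN_CC (le_NN_ZQ P)) (resOf_le_CC_of_step (isPGroup_ZO _)
    ((Subgroup.commutator_mono le_rfl (resOf_mono inf_le_left)).trans hF)
    ((resOf_le _).trans inf_le_right))
  have zP := resOf_le P hz
  have z3 : ∀ g ∈ P, ⁅z, g⁆ ∈ 𝐐 := fun g hg =>
    hc ⟨comm_le_of_le le_rfl le_rfl (Subgroup.commutator_mem_commutator zP hg), z2 g hg⟩
  have fr := frOf_le_CC (D := 𝐐) le_rfl hF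
  have cv : ∀ {g t}, g ∈ 𝐑 → t ∈ 𝐐 → ⁅g, t⁆ ∈ 𝐕 := fun hg ht =>
    comm_inv_mem (hF (Subgroup.commutator_mem_commutator ht hg))
  have PR : CC(P) ≤ CC(𝐑) := CC_anti (resOf_le P)
  have h1 : 𝐐 ≤ 𝐕 ⊔ 𝚪 := fun t ht => by
    obtain ⟨m, hm⟩ := (Fact.out : p.Prime).odd_of_ne_two h2
    have hv := pow_mem (cv hz ht) (m + 1)
    have e : ⁅z, t⁆ ^ (m + 1) * ⁅z, t⁆ ^ (m + 1) = ⁅z, t⁆ := by
      rw [← pow_add, show m + 1 + (m + 1) = p + 1 by omega, pow_succ, pow_ZQ (cv hz ht), one_mul]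
    generalize ⁅z, t⁆ ^ (m + 1) = v at hv e
    have ht' := mul_mem (ZQ_le P hv) ht
    have hy : ⁅z, v * t⁆ ∈ CC(P) := by
      rw [comm_mul_right, ← e, show ⁅z, v⁆ * (v * (v * v) * v⁻¹) = z * v * z⁻¹ * v by
        rw [commutatorElement_def]; group]
      exact z1 v hv
    refine (Subgroup.mul_mem_cancel_left _ (Subgroup.mem_sup_left hv)).1 (Subgroup.mem_sup_right
      ⟨ht', le_CC_symm (resOf_le_CC_of_step (V := 𝐐 ⊓ stabMod 𝐑 (𝐕 ⊓ CC(𝐑)))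
        ((isPGroup_ZO _).to_le inf_le_left) (le_stabMod.1 inf_le_right).2
        (le_CC_symm inf_le_right)) ⟨ht', CC_le_NN _ (CC_anti inf_le_left (Q_le_CC_ZQ P ht')),
        fun g hg => comm_inv_mem ⟨cv hg ht', ?_⟩⟩⟩)
    generalize v * t = t at ht' hy
    have hk := z3 g (resOf_le P hg)
    have hw := cv hg ht'
    have e1 : z * ⁅g, t⁆ * z⁻¹ = ⁅g, t⁆ * ⁅⁅z, g⁆, t⁆ := by
      have a := conj_eq_of_mem_CC hy (mul_mem (pCoreOf_le P hk) (resOf_le P hg))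
      have b := conj_eq_of_mem_CC' (Q_le_CC_ZQ P hk) hw
      have c := mem_CC.1 hy _ (pCoreOf_le P (mul_mem (ZQ_le P hw)
        (comm_le_of_le le_rfl le_rfl (Subgroup.commutator_mem_commutator hk ht'))))
      rw [← mul_left_inj ⁅z, t⁆, c]
      conv_rhs => rw [← a, ← b]
      simp only [commutatorElement_def]; group
    have e2 := PR (z1 _ hw)
    have e3 := fr (comm_le_frOf (isPGroup_pCoreOf P) (Subgroup.commutator_mem_commutator hk ht'))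
    rw [e1, mul_assoc, ← mem_CC.1 (Q_le_CC_ZQ P (comm_le_of_le le_rfl le_rfl
      (Subgroup.commutator_mem_commutator hk ht'))) _ hw, ← mul_assoc,
      Subgroup.mul_mem_cancel_right _ e3] at e2
    exact mem_of_sq_mem h2 (pow_ZQ hw) e2
  refine ⟨h1, fun s hs => ?_⟩
  have n := Γ_le.trans (CC_le_NN 𝐕)
  obtain ⟨v, hv, c, hc, e⟩ := (mem_sup_of_NN' n).1 (h1 (z3 s (h.syl.le hs)))
  obtain ⟨w, hw, d, hd, e'⟩ := (mem_sup_of_NN' n).1 (h1 ((h.nv.rk S h.syl).pw s hs))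
  have e1 := mul_pow_mul_inv_mem hc (le_NN_Γ (h.syl.le (mul_mem (h.VS hv) hs))) p
  have cs := h.nv.comm_mem h.syl hv hs
  rw [← mul_assoc, ← mem_CC.1 (Γ_le hc) v hv, e, show ⁅z, s⁆ * s = z * s * z⁻¹ by
    simp [commutatorElement_def], conj_pow, H9.mul_pow_of_odd (mem_CC.1 (comm_inv_mem cs).2 v (h.VS hv))
    (mem_CC.1 (comm_inv_mem cs).2 s hs) ((Fact.out : p.Prime).odd_of_ne_two h2)
    (pow_ZQ (comm_inv_mem cs).1), pow_ZQ hv, one_mul, ← e', show z * (w * d) * z⁻¹ * (w * d)⁻¹ =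
    z * w * z⁻¹ * w * (w⁻¹ * (z * d * z⁻¹ * d⁻¹) * w⁻¹) by group, conj_eq_of_mem_CC hd.2 hz,
    mul_inv_cancel, mul_one] at e1
  exact e' ▸ mul_mem ⟨ZQ_le P hw, (Subgroup.inv_mem_iff _).1 (mem_of_sq_mem h2
    (pow_ZQ (inv_mem hw)) ((Subgroup.mul_mem_cancel_left _ (PR (z1 w hw))).1 e1.2))⟩ hd

theorem memN {a x : G} (ha : a ∈ S) (hq : a ∉ 𝐐) (hx : x ∈ 𝐕 ⊔ 𝚪) (hc : ⁅a, x⁆ ∈ CC(𝐑)) :
    x ∈ 𝐕 ⊓ CC(S) ⊔ 𝚪 := by
  obtain ⟨v, hv, c, hc', rfl⟩ := (mem_sup_of_NN' (Γ_le.trans (CC_le_NN 𝐕))).1 hx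
  rw [comm_mul_right, Subgroup.mul_mem_cancel_right _ (conj_mem_of_mem_NN (le_NN_Γ (h.syl.le (h.VS hv)))
    (comm_le_right le_NN_Γ (Subgroup.commutator_mem_commutator (h.syl.le ha) hc'))).2] at hc
  refine mul_mem (Subgroup.mem_sup_left ⟨hv, (h.nv.nc h.syl hv ha ?_).resolve_right hq⟩)
    (Subgroup.mem_sup_right hc')
  rw [← h.syl.resOf_sup, CC_sup]
  exact ⟨comm_inv_mem hc, (h.nv.comm_mem h.syl hv ha).2⟩

theorem frOf_le : frOf S ≤ 𝐕 ⊓ CC(S) ⊔ 𝚪 := by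
  obtain ⟨A, ha, hn⟩ := h.ex
  have fr : frOf 𝐐 ≤ 𝚪 := le_inf (H10.frOf_le _) (frOf_le_CC le_rfl hF)
  have hp := isPGroup_pCoreOf (p := p) P
  have n : S ≤ NN(𝐕 ⊓ CC(S) ⊔ 𝚪) :=
    le_NN_sup ((le_CC_symm inf_le_right).trans (CC_le_NN _)) (h.syl.le.trans le_NN_Γ)
  have qq := (comm_le_frOf hp).trans fr
  have N := sup_le_sup_right hF 𝚪
  have h1 : ⁅A, 𝐐⁆ ≤ 𝐕 ⊓ CC(S) ⊔ 𝚪 := by
    by_cases h2 : p = 2
    · refine Subgroup.commutator_le.2 fun a ha' t ht => ?_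
      by_cases hq : a ∈ 𝐐
      · exact Subgroup.mem_sup_right (qq (Subgroup.commutator_mem_commutator hq ht))
      have hc := comm_inv_mem (N (h.comm_QA ha hn (Subgroup.commutator_mem_commutator ht ha')))
      refine h.memN hF (ha.1 ha') hq hc ?_
      have e := (qq (Subgroup.commutator_mem_commutator ((h.nv.rk S h.syl).pw a (ha.1 ha')) ht)).2
      have e2 := (fr (pow_mem_frOf hp (sup_le (ZQ_le P) inf_le_left hc))).2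
      subst h2
      rw [pow_two, comm_mul_left, show a * ⁅a, t⁆ * a⁻¹ * ⁅a, t⁆ = ⁅a, ⁅a, t⁆⁆ * ⁅a, t⁆ ^ 2 by
        generalize ⁅a, t⁆ = c; rw [commutatorElement_def, pow_two]; group] at e
      exact (Subgroup.mul_mem_cancel_right _ e2).1 e
    · refine (Subgroup.commutator_mono le_rfl (h.Q_le hF h2).1).trans (comm_sup_le' (h.VS.trans n)
        ((inf_le_left.trans h.QS).trans n) (le_sup_of_le_left ?_) (le_sup_of_le_right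
          (comm_le_right ((ha.1.trans h.syl.le).trans le_NN_Γ))))
      rw [Subgroup.commutator_comm]
      exact (Subgroup.commutator_mono le_rfl ha.1).trans (h.nv.comm_le h.syl)
  have e := h.sup_Q ha hn
  have nA := ha.1.trans n
  have nQ := h.QS.trans n
  refine frOf_le_of (p := p) ((Subgroup.commutator_mono e.ge e.ge).trans (comm_sup_le nA nQ
    (comm_sup_le' nA nQ ((comm_eq_bot.2 (elab_le_CC ha.2.1)).le.trans bot_le) h1) (comm_sup_le' nA nQ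
    (Subgroup.commutator_comm A 𝐐 ▸ h1) (le_sup_of_le_right qq)))) fun x hx => pow_mem_sup nQ nA
    (Subgroup.commutator_comm A 𝐐 ▸ h1) (fun t ht => Subgroup.mem_sup_right (fr (pow_mem_frOf hp ht)))
    (fun a ha' => ?_) ((ha.1.trans h.syl.le).trans (le_NN_pCoreOf P)) ((sup_comm _ _).trans e ▸ hx)
  obtain ⟨b, hb, hq⟩ := SetLike.not_le_iff_exists.1 hn
  refine h.memN hF (ha.1 hb) hq (N (h.B_le ha hn (Subgroup.mem_sup_left ⟨pow_mem ha' p,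
    (h.nv.rk S h.syl).pw a (ha.1 ha')⟩))) ?_
  rw [comm_eq_one_of_mem_CC (elab_le_CC ha.2.1 hb) (pow_mem ha' p)]
  exact one_mem _

theorem S0_le : S0 p S ≤ CC(𝐑) := by
  have n := h.syl.le.trans (le_NN_Γ (p := p))
  have h1 : ⁅frOf S, S⁆ ≤ 𝚪 := (Subgroup.commutator_mono (h.frOf_le hF) le_rfl).trans (comm_sup_le
    ((inf_le_left.trans h.VS).trans n) (le_NN_self _) ((comm_eq_bot.2 inf_le_right).le.trans bot_le)
    (comm_le_left n))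
  have hp := (isPGroup_pCoreOf (p := p) P).to_le (inf_le_left : 𝚪 ≤ _)
  have h2 : frOf (frOf S) ≤ 𝚪 := (frOf_mono (h.syl.isPGroup.to_le (sup_le (inf_le_left.trans h.VS)
    (inf_le_left.trans h.QS))) (h.frOf_le hF)).trans ((frOf_sup_le (elab_of_le (elab_ZO _)
    inf_le_left) hp (Γ_le.trans (CC_anti inf_le_left))).trans (H10.frOf_le _))
  refine le_trans ?_ (inf_le_right : 𝚪 ≤ _)
  unfold S0
  split_ifs with a b
  · exact sup_le h1 h2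
  · exact sup_le ((Subgroup.commutator_mono h1 le_rfl).trans (comm_le_left n)) h2
  · refine sup_le h1 ((Subgroup.closure_le _).2 ?_)
    rintro _ ⟨s, hs, rfl⟩
    rw [pow_one]
    exact (h.Q_le hF a).2 s hs

end GP

local notation "𝐐'" => pCoreOf p P'
local notation "𝐕'" => ZQ p P'
local notation "𝐑'" => resOf p P'

theorem GP.pv (h : GP p q P S) : PV p P := ⟨h.ch, q, h.nv⟩

theorem GP.T_le (h : GP p q P S) {X N : Subgroup G} (hX : X ≤ S) (hn : ¬ X ≤ 𝐐) (hN : P ≤ NN(N))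
    (e : ⁅⁅𝐐, 𝐑⁆, X⁆ ≤ N) : ⁅𝐐, 𝐑⁆ ≤ N :=
  (comm_resOf_comm (isPGroup_pCoreOf P) ((resOf_le P).trans (le_NN_pCoreOf P))).ge.trans
    (h.nv.rk.comm_res_le h.syl hX hn (le_NN_commutator (le_NN_pCoreOf P) (le_NN_resOf P)) hN e)

theorem T_le_Q : ⁅𝐐, 𝐑⁆ ≤ 𝐐 := comm_le_left ((resOf_le P).trans (le_NN_pCoreOf P))

/-- two rank one groups over `S` -/
structure GG (p q q' : ℕ) (P P' S : Subgroup G) : Prop where
  g : GP p q P S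
  g' : GP p q' P' S
  f : ¬ ⁅pCoreOf p P, resOf p P⁆ ≤ ZQ p P
  f' : ¬ ⁅pCoreOf p P', resOf p P'⁆ ≤ ZQ p P'

namespace GG

theorem symm (h : GG p q q' P P' S) : GG p q' q P' P S := ⟨h.g', h.g, h.f', h.f⟩

variable (h : GG p q q' P P' S)
include h

theorem V_le : 𝐕 ≤ 𝐐' := by_contra fun e =>
  h.f (CP.Qres ⟨h.g.pv, h.g'.pv, h.g.syl, h.g'.syl, h.g.VS, h.g'.VS, e⟩)

theorem cj_le {g : G} (hg : g ∈ P) : cj g 𝐕' ≤ 𝐐 := cj_le_of_mem_NN (le_NN_pCoreOf P hg) h.symm.V_le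

theorem dU : DL S (𝐕' ⊔ 𝐕) := h.g'.dV.sup h.g.dV

theorem cU : S ⊓ CC(𝐕' ⊔ 𝐕) = 𝐐' ⊓ 𝐐 := by rw [CC_sup, inf_inf_distrib_left, h.g.cV, h.g'.cV]

theorem nU : S ≤ NN(𝐕' ⊔ 𝐕) :=
  le_NN_sup (h.g'.syl.le.trans h.g'.nv.nn) (h.g.syl.le.trans h.g.nv.nn)

theorem dec1 {g : G} (hg : g ∈ P) (hn : ¬ cj g 𝐕' ≤ 𝐐') : 𝐐 ≤ cj g 𝐕' ⊔ 𝐐' ⊓ 𝐐 := by
  have d := h.dU.cj g
  rw [cj_sup, cj_eq_of_mem_NN (h.g.nv.nn hg)] at d
  have l := sup_le (h.cj_le hg) (ZQ_le P)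
  replace d := (h.g.syl' (h.g.syl.cj_of_mem hg)).tr h.g.syl d le_sup_right l
  exact (le_inf (h.g.QS.trans (h.g'.coatom d fun e => hn (le_sup_left.trans e)).ge) le_rfl).trans
    ((d.ded h.g'.dQ l).trans (sup_le (sup_le_sup_left (le_inf h.V_le (ZQ_le P)) _) le_sup_right))

theorem dec2 {g : G} (hg : g ∈ P) (hn : ¬ cj g 𝐕' ≤ 𝐐') :
    𝐐' ⊓ 𝐐 ≤ 𝐕' ⊔ 𝐐' ⊓ 𝐐 ⊓ CC(cj g 𝐕') := by
  have := cj_mono g (h.dec1 (inv_mem hg) fun e => hn ((le_inf ((h.cj_le hg).trans h.g.QS) ?_).trans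
    h.g'.cV.le))
  · rw [cj_sup, cj_cj_inv, cj_inf, cj_eq_of_mem_NN (le_NN_pCoreOf P hg)] at this
    refine (le_inf (inf_le_right.trans (this.trans (sup_le_sup_left (show cj g 𝐐' ⊓ 𝐐 ≤ 𝐐 ⊓ CC(cj g 𝐕')
      from le_inf inf_le_right (inf_le_left.trans ?_)) _))) le_rfl).trans ((dedekind_right (le_inf
      (ZQ_le P') h.symm.V_le) ((inf_le_left.trans h.g.QS).trans (h.g'.syl.le.trans h.g'.nv.nn))).le.trans
      (sup_le_sup_left (le_inf inf_le_right (inf_le_left.trans inf_le_right)) _))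
    rw [← cj_centralizer]; exact cj_mono g (Q_le_CC_ZQ P')
  · rw [le_CC_comm, ← cj_centralizer, le_cj_iff]; exact e.trans (Q_le_CC_ZQ P')

theorem comm_D {g : G} (hg : g ∈ P) (hn : ¬ cj g 𝐕' ≤ 𝐐') : ⁅𝐐' ⊓ 𝐐, cj g 𝐕'⁆ ≤ 𝐕' :=
  have n := h.g'.syl.le.trans h.g'.nv.nn
  (Subgroup.commutator_mono (h.dec2 hg hn) le_rfl).trans (comm_sup_le (le_NN_self _)
    ((inf_le_left.trans (inf_le_left.trans h.g'.QS)).trans n)
    (comm_le_left (((h.cj_le hg).trans h.g.QS).trans n))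
    ((comm_eq_bot.2 inf_le_right).le.trans bot_le))

theorem T_not_le {g : G} (hg : g ∈ P) (hn : ¬ cj g 𝐕' ≤ 𝐐') : ¬ ⁅𝐐', 𝐑'⁆ ≤ 𝐐 := fun e =>
  h.f' (h.g'.T_le ((h.cj_le hg).trans h.g.QS) hn h.g'.nv.nn
    ((Subgroup.commutator_mono (le_inf T_le_Q e) le_rfl).trans (h.comm_D hg hn)))

theorem exists_A : ∃ A ∈ H4.maxAb 0 S, ¬ A ≤ 𝐐 ∧ 𝐕' ≤ A ⊓ 𝐐 ⊔ 𝐕 := by
  obtain ⟨A, ha, hn⟩ := h.g.ex
  have b := h.g.max ha hn
  by_cases e : A ⊓ 𝐐 ⊔ 𝐕 ≤ 𝐐'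
  · exact ⟨A, ha, hn, (le_inf h.g'.VS (le_CC_symm (e.trans (Q_le_CC_ZQ P')))).trans (selfc b).le⟩
  refine ⟨_, h.g'.max ha fun e' => e (sup_le (inf_le_left.trans e') h.V_le), fun e' => hn ?_,
    le_sup_of_le_left (le_inf le_sup_right h.symm.V_le)⟩
  have : S ≤ A ⊓ 𝐐 ⊔ 𝐐' := (h.g'.sup_Q b e).ge.trans
    (sup_le (sup_le_sup_left h.V_le _) le_sup_right)
  exact (le_inf (ha.1.trans this) le_rfl).trans ((dedekind_left inf_le_left ((inf_le_left.trans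
    (ha.1.trans h.g'.syl.le)).trans (le_NN_pCoreOf P'))).le.trans (sup_le inf_le_right
    ((inf_comm _ _).le.trans (le_sup_left.trans e'))))

theorem R_le (hT : ¬ ⁅𝐐, 𝐑⁆ ≤ 𝐐') : ⁅𝐕', S⁆ ≤ 𝐕 ⊓ CC(P) := by
  obtain ⟨A, ha, hn, hv⟩ := h.exists_A
  obtain ⟨g, hg, e⟩ := h.g.exists_opp
  obtain ⟨E, M, Z, c⟩ := h.g.pb ha hn hg e
  have h1 := h.g'.nv.comm_le h.g'.syl
  refine le_inf ((h1.trans (inf_le_inf_right _ h.g'.VS)).trans h.g.Z_le) (le_CC_symm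
    (h.g.syl.le_of_resOf_le (le_CC_symm ?_) (le_CC_symm (h1.trans inf_le_right))))
  rw [← h.g'.coatom (c.M_eq' ▸ c.dM) fun e => hT (c.T_M.trans e), H4.commutator_sup_centralizer
    ((c.M_Q.trans (h.g.QS.trans h.g'.syl.le)).trans h.g'.nv.nn) (Q_le_CC_ZQ P')]
  exact (Subgroup.commutator_mono (hv.trans c.B_M) le_rfl).trans (c.MM.trans c.E_R)

theorem X_le : ncl 𝐕' P ≤ 𝐐 := ncl_le h.symm.V_le (le_NN_pCoreOf P)

theorem comm_X (hT : ¬ ⁅𝐐, 𝐑⁆ ≤ 𝐐') : ⁅ncl 𝐕' P, 𝐐⁆ ≤ ⁅𝐕', S⁆ :=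
  comm_ncl_le (Subgroup.commutator_mono le_rfl h.g.QS) (left_le_NN_comm _ _) (le_NN_pCoreOf P)
    ((le_CC_symm ((h.R_le hT).trans inf_le_right)).trans (CC_le_NN _))

theorem X_not_le (hT : ¬ ⁅𝐐, 𝐑⁆ ≤ 𝐐') : ¬ ncl 𝐕' P ≤ 𝐐' := fun hX => by
  obtain ⟨A, ha, hn, hv⟩ := h.exists_A
  obtain ⟨g, hg, e⟩ := h.g.exists_opp
  obtain ⟨E, M, Z, c⟩ := h.g.pb ha hn hg e
  have n1 : ¬ cj g A ⊓ 𝐐 ⊔ 𝐕 ≤ 𝐐' := fun e => hT (c.T_M.trans (c.M_eq'.ge.trans (sup_le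
    ((le_inf c.b0.1 ((elab_le_CC c.b0.2.1).trans (CC_anti hv))).trans h.g'.cV.le) e)))
  obtain ⟨b, hb, hb'⟩ := SetLike.not_le_iff_exists.1 n1
  obtain ⟨s, hs, hs'⟩ : ∃ s ∈ 𝐐', s ∉ 𝐐 := SetLike.not_le_iff_exists.1 fun e => hn
    (ha.1.trans ((h.g'.coatom h.g.dQ fun e => hT (T_le_Q.trans e)).ge.trans (sup_le le_rfl e)))
  obtain ⟨a, ha', t, ht, rfl⟩ := (mem_sup_of_NN (c.A_P.trans (le_NN_pCoreOf P))).1
    ((h.g.sup_Q ha hn).ge (h.g'.QS hs))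
  obtain ⟨u, hu, hu'⟩ := SetLike.not_le_iff_exists.1 (h.g'.nv.not_le_CC h.g'.syl)
  have XM : ncl 𝐕' P ≤ M := ncl_le_iff.2 fun k hk => by
    obtain ⟨r, hr, s, hs, rfl⟩ := h.g.syl.exists_mul hk
    rw [cj_mul, cj_eq_of_mem_NN (h.g'.nv.nn (h.g'.syl.le hs))]
    exact cj_le_of_mem_NN (c.R_NM hr) (hv.trans c.B_M)
  obtain ⟨x, hx, e⟩ := c.surj XM (c.A_P.trans (le_NN_ncl _ _)) (c.symm.A_P.trans (le_NN_ncl _ _)) ha'
    (fun e => hs' (mul_mem e ht)) ⟨le_ncl _ _ hu, hv hu⟩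
  have cx : ∀ {y}, y ∈ 𝐐 → ⁅x, y⁆ ∈ ⁅𝐕', S⁆ := fun hy =>
    h.comm_X hT (Subgroup.commutator_mem_commutator hx.1 hy)
  have bQ := c.M_Q (c.symm.B_M hb)
  have sP := mul_mem (c.A_P ha') (pCoreOf_le P ht)
  have h1 : ⁅(a * t)⁻¹, b⁆ ∈ 𝐐 :=
    comm_le_right (le_NN_pCoreOf P) (Subgroup.commutator_mem_commutator (inv_mem sP) bQ)
  have h2 : ⁅x, ⁅(a * t)⁻¹, b⁆⁆ ∈ CC(P') := by
    rw [← h.g'.syl.resOf_sup, CC_sup]
    exact ⟨h.g'.comm_N (Subgroup.commutator_mem_commutator (h.g'.B_le c.b1 n1 (Subgroup.mem_sup_left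
      ⟨hx.2, hX hx.1⟩)) (h.g'.comm_QA c.b1 n1 (Subgroup.commutator_mem_commutator (inv_mem hs) hb))),
      (h.g'.nv.comm_le h.g'.syl (cx h1)).2⟩
  refine hb' ((h.g'.nv.nc h.g'.syl hu (c.b1.1 hb) ?_).resolve_left hu')
  have r := h.R_le hT (comm_inv_mem (cx ht))
  have e1 : a * t * x * (a * t)⁻¹ = u * (⁅t, x⁆ * (⁅a, x⁆⁻¹ * u)⁻¹ * x) := by
    have k := mem_CC.1 r.2 _ (h.g.syl.le (h.g'.VS hu))
    have k2 := conj_eq_of_mem_CC r.2 (c.A_P ha')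
    rw [← mul_assoc, ← mul_assoc, k, ← k2]
    simp only [commutatorElement_def]; group
  have e2 := conj_eq_of_mem_CC' (le_CC_symm ((h.R_le hT).trans inf_le_right) (inv_mem sP))
    (h.comm_X hT (Subgroup.commutator_mem_commutator (conj_mem_of_mem_NN (le_NN_ncl _ _ sP) hx.1) bQ))
  rw [conjugate_commutatorElement, inv_inv, show (a * t)⁻¹ * (a * t * x * (a * t)⁻¹) * (a * t) = x by
    group, show (a * t)⁻¹ * b * (a * t) = ⁅(a * t)⁻¹, b⁆ * b by simp [commutatorElement_def],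
    comm_mul_right, c.symm.abB hx.2 hb, mul_one, mul_inv_cancel, mul_one, e1, comm_mul_left,
    c.symm.abB (mul_mem (mul_mem (Subgroup.mem_sup_right r.1) (inv_mem (c.symm.Z_B e))) hx.2) hb,
    mul_one, mul_inv_cancel, one_mul] at e2
  exact e2 ▸ h2

theorem exists_cj (hT : ¬ ⁅𝐐, 𝐑⁆ ≤ 𝐐') : ∃ g ∈ P, ¬ cj g 𝐕' ≤ 𝐐' := by
  by_contra! e
  exact h.X_not_le hT (ncl_le_iff.2 e)

section
variable {g k : G} (hg : g ∈ P) (hn : ¬ cj g (ZQ p P') ≤ pCoreOf p P') (hk : k ∈ P')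
  (hn' : ¬ cj k (ZQ p P) ≤ pCoreOf p P)
include hg hn hk hn'

theorem D_le : 𝐐' ⊓ 𝐐 ≤ 𝐕' ⊔ 𝐕 ⊔ 𝐐' ⊓ 𝐐 ⊓ CC(cj g 𝐕') ⊓ CC(cj k 𝐕) := by
  have l : 𝐕 ≤ 𝐐' ⊓ 𝐐 ⊓ CC(cj g 𝐕') := le_inf (le_inf h.V_le (ZQ_le P))
    (le_CC_symm ((h.cj_le hg).trans (Q_le_CC_ZQ P)))
  rw [sup_assoc]
  refine (h.dec2 hg hn).trans (sup_le_sup_left ((le_inf (inf_le_left.trans ((inf_comm _ _).le.trans
    (h.symm.dec2 hk hn'))) le_rfl).trans ((dedekind_right l ((inf_le_left.trans (inf_le_left.trans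
    (pCoreOf_le P))).trans h.g.nv.nn)).le.trans (sup_le_sup_left (le_inf inf_le_right
    (inf_le_left.trans inf_le_right)) _))) _)

theorem comm_W : ⁅cj g 𝐕', cj k 𝐕⁆ ≤ 𝐕' ⊔ 𝐕 := by
  have l1 := h.cj_le hg
  have l2 := h.symm.cj_le hk
  have l : ⁅cj g 𝐕', cj k 𝐕⁆ ≤ S ⊓ CC(𝐕' ⊔ 𝐕) := h.cU ▸ le_inf ((Subgroup.commutator_mono le_rfl
    l2).trans (comm_le_right ((l1.trans (h.g.QS.trans h.g'.syl.le)).trans (le_NN_pCoreOf P'))))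
    ((Subgroup.commutator_mono l1 le_rfl).trans (comm_le_left ((l2.trans (h.g'.QS.trans
    h.g.syl.le)).trans (le_NN_pCoreOf P))))
  refine le_trans (le_inf (l.trans inf_le_left) (le_trans ?_ (CC_anti (h.cU.le.trans
    (h.D_le hg hn hk hn'))))) h.dU.cc.le
  rw [CC_sup]
  exact le_inf (l.trans inf_le_right) (comm_le_of_le (le_CC_symm (inf_le_left.trans inf_le_right))
    (le_CC_symm inf_le_right))

theorem comm_QW {N : Subgroup G} (h1 : S ≤ NN(N)) (h2 : 𝐕 ≤ N) (h3 : ⁅cj g 𝐕', cj k 𝐕⁆ ≤ N) :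
    ⁅𝐐, cj k 𝐕⁆ ≤ N :=
  (Subgroup.commutator_mono (h.dec1 hg hn) le_rfl).trans (comm_sup_le
    (((h.cj_le hg).trans h.g.QS).trans h1) ((inf_le_left.trans h.g'.QS).trans h1) h3
    ((inf_comm 𝐐 𝐐' ▸ h.symm.comm_D hk hn').trans h2))

theorem S_le : S ≤ cj k 𝐕 ⊔ 𝐐 :=
  (h.g'.coatom h.g.dQ fun e => hn ((h.cj_le hg).trans e)).ge.trans (sup_le le_sup_right
    ((h.symm.dec1 hk hn').trans (sup_le_sup_left inf_le_left _)))

theorem comm_XS : ⁅ncl 𝐕' P, S⁆ ≤ 𝐕' ⊔ 𝐕 :=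
  (Subgroup.commutator_mono le_rfl (h.S_le hg hn hk hn')).trans (comm_sup_le'
    (((h.symm.cj_le hk).trans h.g'.QS).trans h.nU) (h.g.QS.trans h.nU)
    ((Subgroup.commutator_mono h.X_le le_rfl).trans (h.comm_QW hg hn hk hn' h.nU le_sup_right
      (h.comm_W hg hn hk hn'))) ((h.comm_X (h.symm.T_not_le hk hn')).trans
      (le_sup_of_le_left (comm_le_left (h.g'.syl.le.trans h.g'.nv.nn)))))

theorem X_le' {r : G} (hr : r ∈ P) (e : S ⊔ cj r S = P) : ncl 𝐕' P ≤ 𝐕' ⊔ 𝐕 ⊔ cj r 𝐕' := by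
  have h1 := h.comm_XS hg hn hk hn'
  have h2 := cj_mono r h1
  rw [cj_commutator, cj_eq_of_mem_NN (le_NN_ncl _ _ hr), cj_sup, cj_eq_of_mem_NN (h.g.nv.nn hr)] at h2
  have k : ∀ T, T ≤ P → ⁅ncl 𝐕' P, T⁆ ≤ 𝐕' ⊔ 𝐕 ⊔ cj r 𝐕' → T ≤ NN(𝐕' ⊔ 𝐕 ⊔ cj r 𝐕') :=
    fun T hT e => le_NN_of_comm_le_of_le (Y := ncl 𝐕' P ⊔ 𝐕) (comm_sup_le
      (le_NN_of_comm_le_right ((Subgroup.commutator_mono h.X_le (sup_le (sup_le (le_sup_of_le_left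
        (le_ncl _ _)) le_sup_right) (le_sup_of_le_left (cj_le_ncl _ hr)))).trans ?_))
      (le_sup_of_le_left le_sup_right |>.trans (le_NN_self _)) e ((comm_le_left
        (hT.trans h.g.nv.nn)).trans (le_sup_of_le_left le_sup_right)))
      (sup_le (sup_le_sup_right (le_ncl _ _) _) (le_sup_of_le_left (cj_le_ncl _ hr)))
  · exact ncl_le (le_sup_of_le_left le_sup_left) (e.ge.trans (sup_le (k S h.g.syl.le
      (h1.trans le_sup_left)) (k _ (cj_le_of_mem hr h.g.syl.le) (h2.trans (sup_le le_sup_right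
        (le_sup_of_le_left le_sup_right))))))
  · have n := (pCoreOf_le (p := p) P).trans h.g.nv.nn
    refine le_trans ?_ (le_sup_of_le_left le_sup_right)
    exact comm_sup_le' (h.X_le.trans n) (le_NN_self _) ((Subgroup.commutator_comm _ _).le.trans
      ((h.comm_X (h.symm.T_not_le hk hn')).trans ((h.R_le (h.symm.T_not_le hk hn')).trans
      inf_le_left))) (comm_le_right n)

theorem opp_not_le {r : G} (hr : r ∈ P) (e : S ⊔ cj r S = P) : ¬ cj r 𝐕' ≤ 𝐐' := fun l =>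
  h.X_not_le (h.symm.T_not_le hk hn') ((h.X_le' hg hn hk hn' hr e).trans
    (sup_le (sup_le (ZQ_le P') h.V_le) l))

end

theorem nor_le {k m : G} (hk : k ∈ P') (hn' : ¬ cj k 𝐕 ≤ 𝐐) (hm : m ∈ P) (e : cj m S = S) :
    cj m 𝐕' ≤ 𝐐' := by_contra fun hn => by
  have l := (h.symm.cj_le hk).trans h.g'.QS
  have := cj_mono m (h.R_le (h.symm.T_not_le hk hn'))
  rw [cj_commutator, e, cj_inf, cj_eq_of_mem_NN (h.g.nv.nn hm)] at this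
  exact h.f (h.g.nv.rk.comm_res_le h.g.syl l hn' (le_NN_pCoreOf P) h.g.nv.nn (h.comm_QW hm hn hk hn'
    (h.g.syl.le.trans h.g.nv.nn) le_rfl ((Subgroup.commutator_mono le_rfl l).trans
    (this.trans inf_le_left))))

theorem cp {g : G} (hg : g ∈ P) (hn : ¬ cj g 𝐕' ≤ 𝐐') : CP p (cj g P') P' (cj g S) S :=
  ⟨h.g'.pv.cj g, h.g'.pv, h.g'.syl.cj g, h.g'.syl, cj_ZQ (p := p) g P' ▸ (h.cj_le hg).trans h.g.QS,
    h.symm.V_le.trans (h.g.syl.cj_of_mem hg).pCoreOf_le, cj_ZQ (p := p) g P' ▸ hn⟩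

theorem three {g k : G} (hg : g ∈ P) (hn : ¬ cj g 𝐕' ≤ 𝐐') (hk : k ∈ P') (hn' : ¬ cj k 𝐕 ≤ 𝐐)
    (e : S ⊔ cj g S = P) (e' : S ⊔ cj k S = P') : p = 3 := by
  have c := h.cp hg hn
  have c' := h.symm.cp hk hn'
  have c1 := c'.cj g
  have c2 := c.symm.cj k
  rw [cj_eq_of_mem hg] at c1
  rw [cj_eq_of_mem hk] at c2
  have l := h.cj_le hg
  have l' := h.symm.cj_le hk
  have m : 𝐕 ≤ pCoreOf p (cj g P') := by
    rw [← cj_pCoreOf, ← cj_eq_of_mem_NN (h.g.nv.nn hg)]; exact cj_mono g h.V_le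
  have m' : 𝐕' ≤ pCoreOf p (cj k P) := by
    rw [← cj_pCoreOf, ← cj_eq_of_mem_NN (h.g'.nv.nn hk)]; exact cj_mono k h.symm.V_le
  refine (B2.three ⟨c1, c, c'.symm, c2, (h.g'.syl.cj_of_mem hk).cj g, (h.g.syl.cj_of_mem hg).cj k,
    by rw [← cj_sup, sup_comm, e'], (sup_comm _ _).trans e, e', by rw [← cj_sup, e],
    by rw [← cj_ZQ, ← cj_ZQ, ← cj_pCoreOf]; exact cj_mono g l', cj_ZQ (p := p) g P' ▸ l, h.V_le, m',
    m, h.symm.V_le, cj_ZQ (p := p) k P ▸ l',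
    by rw [← cj_ZQ, ← cj_ZQ, ← cj_pCoreOf]; exact cj_mono k l, fun n hn e => ?_,
    fun n hn e => ?_⟩).2 <;> rw [← cj_ZQ, ← cj_mul] <;> rw [← cj_mul] at e
  · exact h.nor_le hk hn' (mul_mem hn hg) e
  · exact h.symm.nor_le hg ‹_› (mul_mem hn hk) e

theorem S0_le (hT : ¬ ⁅𝐐, 𝐑⁆ ≤ 𝐐') : S0 p S ≤ CC(𝐑) := by
  obtain ⟨g0, hg0, hn0⟩ := h.exists_cj hT
  obtain ⟨k0, hk0, hn0'⟩ := h.symm.exists_cj (h.T_not_le hg0 hn0)
  obtain ⟨g, hg, e⟩ := h.g.exists_opp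
  obtain ⟨k, hk, e'⟩ := h.g'.exists_opp
  replace hg := resOf_le P hg
  replace hk := resOf_le P' hk
  have hn := h.opp_not_le hg0 hn0 hk0 hn0' hg e
  have hn' := h.symm.opp_not_le hk0 hn0' hg0 hn0 hk e'
  have l := h.cj_le hg
  have l' := h.symm.cj_le hk
  have d := h.D_le hg hn hk hn'
  generalize eD : 𝐐' ⊓ 𝐐 ⊓ CC(cj g 𝐕') ⊓ CC(cj k 𝐕) = D at d
  have D1 : D ≤ 𝐐' ⊓ 𝐐 := eD ▸ inf_le_left.trans inf_le_left
  have D2 : D ≤ CC(𝐕' ⊔ 𝐕) := D1.trans (h.cU.ge.trans inf_le_right)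
  have D3 : D ≤ CC(𝐕' ⊔ 𝐕 ⊔ cj g 𝐕') := by
    rw [CC_sup]; exact le_inf D2 (eD ▸ inf_le_left.trans inf_le_right)
  have D4 : D ≤ CC(𝐕' ⊔ 𝐕 ⊔ cj g 𝐕' ⊔ cj k 𝐕) := by
    rw [CC_sup]; exact le_inf D3 (eD ▸ inf_le_right)
  have DS := D1.trans (inf_le_right.trans h.g.QS)
  have hp := h.g.syl.isPGroup.to_le DS
  have f : frOf D ≤ CC(𝐑) := frOf_le_CC (D1.trans inf_le_right) ((Subgroup.commutator_mono
    (le_inf (D1.trans inf_le_right) (D3.trans (CC_anti (h.X_le' hg hn hk hn' hg e)))) le_rfl).trans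
    (h.g.nv.rk.comm_res_le h.g.syl (l'.trans h.g'.QS) hn' (le_NN_inf (le_NN_pCoreOf P)
      (le_NN_CC (le_NN_ncl _ _))) h.g.nv.nn ((Subgroup.commutator_mono (le_inf inf_le_left
      ((inf_le_inf h.g.QS (CC_anti (le_ncl _ _))).trans h.g'.cV.le)) le_rfl).trans
      (h.symm.comm_D hk hn'))))
  have US : 𝐕' ⊔ 𝐕 ≤ S := h.dU.1
  have s : S ≤ 𝐕' ⊔ 𝐕 ⊔ cj g 𝐕' ⊔ cj k 𝐕 ⊔ D := (h.S_le hg hn hk hn').trans (sup_le
    (le_sup_of_le_left le_sup_right) ((h.dec1 hg hn).trans (sup_le (le_sup_of_le_left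
    (le_sup_of_le_left le_sup_right)) (d.trans (sup_le_sup_right (le_sup_of_le_left le_sup_left) _)))))
  have x := h.comm_XS hg hn hk hn'
  have x' := (h.symm.comm_XS hk hn' hg hn).trans (sup_comm _ _).le
  have u : ⁅𝐕' ⊔ 𝐕, S⁆ ≤ 𝐕 ⊓ CC(S) := comm_sup_le (h.g'.VS.trans ((le_CC_symm inf_le_right).trans
    (CC_le_NN _))) (h.g.VS.trans ((le_CC_symm inf_le_right).trans (CC_le_NN _))) ((h.R_le hT).trans
    (inf_le_inf_left _ (CC_anti h.g.syl.le))) (h.g.nv.comm_le h.g.syl)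
  have w := l.trans h.g.QS
  have w' := l'.trans h.g'.QS
  have y : ⁅𝐕' ⊔ 𝐕 ⊔ cj g 𝐕', S⁆ ≤ 𝐕' ⊔ 𝐕 := comm_sup_le (le_NN_self _) (w.trans h.nU)
    (comm_le_left h.nU) ((Subgroup.commutator_mono (cj_le_ncl _ hg) le_rfl).trans x)
  have y' : ⁅𝐕' ⊔ 𝐕 ⊔ cj g 𝐕' ⊔ cj k 𝐕, S⁆ ≤ 𝐕' ⊔ 𝐕 := comm_sup_le ((sup_le US w).trans h.nU)
    (w'.trans h.nU) y ((Subgroup.commutator_mono (cj_le_ncl _ hk) le_rfl).trans x')
  have el : IsElementaryAbelian p (𝐕' ⊔ 𝐕) :=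
    elab_sup (elab_ZO _) (elab_ZO _) (h.symm.V_le.trans (Q_le_CC_ZQ P))
  have pw : ∀ {X Y : Subgroup G}, IsElementaryAbelian p X → ∀ a ∈ X, a ^ p ∈ Y := fun h a ha => by
    rw [(isElementaryAbelian_iff.1 h).2 a ha]; exact one_mem _
  have h1 : frOf S ≤ 𝐕' ⊔ 𝐕 ⊔ frOf D := by
    refine frOf_le_of (p := p) ((Subgroup.commutator_mono s s).trans ((comm_sup_sup_le le_rfl le_rfl
      D4).trans (sup_le_sup ((Subgroup.commutator_mono le_rfl (sup_le (sup_le US w) w')).trans y')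
      (comm_le_frOf hp)))) fun x hx => ?_
    obtain ⟨a, ha, b, hb, rfl⟩ := (mem_sup_of_NN' (D4.trans (CC_le_NN _))).1 (s hx)
    rw [Commute.mul_pow (mem_CC.1 (D4 hb) a ha)]
    exact mul_mem (Subgroup.mem_sup_left (pow_mem_sup ((sup_le US w).trans h.nU) (w'.trans h.nU)
      ((Subgroup.commutator_mono le_rfl w').trans y) (fun _ hx => pow_mem_sup (le_NN_self _)
        (w.trans h.nU) (comm_le_left (w.trans h.nU)) (pw el) (pw (elab_cj g (elab_ZO _)))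
        (w.trans h.nU) hx) (pw (elab_cj k (elab_ZO _))) (le_NN_of_comm_le_left
        ((Subgroup.commutator_mono le_rfl w').trans (y.trans le_sup_left))) ha))
      (Subgroup.mem_sup_right (pow_mem_frOf hp hb))
  have nf : S ≤ NN(frOf D) := le_NN_frOf (s.trans (sup_le ((le_CC_symm D4).trans (CC_le_NN _))
    (le_NN_self D)))
  have nz : S ≤ NN(𝐕 ⊓ CC(S) ⊔ frOf D) :=
    le_NN_sup ((le_CC_symm inf_le_right).trans (CC_le_NN _)) nf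
  have fS := (H10.frOf_le D).trans DS
  obtain rfl := h.three hg hn hk hn' e e'
  rw [S0, if_neg (by decide), if_pos rfl]
  refine le_trans (sup_le ((Subgroup.commutator_mono ((Subgroup.commutator_mono h1 le_rfl).trans
    (comm_sup_le (US.trans nz) (fS.trans nz) (le_sup_of_le_left u) (le_sup_of_le_right
    (comm_le_left nf)))) le_rfl).trans (comm_sup_le ((inf_le_left.trans h.g.VS).trans nf)
    (le_NN_self _) ((comm_eq_bot.2 inf_le_right).le.trans bot_le) (comm_le_left nf)))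
    ((frOf_mono (h.g.syl.isPGroup.to_le (sup_le US fS)) h1).trans ((frOf_sup_le el
    (hp.to_le (H10.frOf_le D)) ((H10.frOf_le D).trans D2)).trans (H10.frOf_le _)))) f

end GG

/-- the family theorem -/
theorem GP.family (h : GP p q P S) (h' : GP p q' P' S) (n : ¬ S0 p S ≤ CC(𝐑))
    (n' : ¬ S0 p S ≤ CC(𝐑')) : ⁅𝐐, 𝐑⁆ ≤ 𝐐' ∧ 𝐕 ≤ 𝐐' :=
  have c : GG p q q' P P' S := ⟨h, h', fun e => n (h.S0_le e), fun e => n' (h'.S0_le e)⟩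
  ⟨by_contra fun e => n (c.S0_le e), c.V_le⟩

end H10
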