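import Cfsg.Agent.H10.PU14

/-!
Pushing up `SL₂(q)`: the theorem of Glauberman and Niles.
-/

set_option autoImplicit false
set_option linter.unusedSectionVars false

namespace H10

open Cfsg
open scoped commutatorElement Pointwise

universe u

section amb
variable {G G' : Type*} [Group G] [Group G'] [Finite G] {f : G →* G'} {p q : ℕ} {P S : Subgroup G}

theorem map_S0 (hf : Function.Injective f) (S : Subgroup G) : (S0 p S).map f = S0 p (S.map f) := by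
  unfold S0
  split_ifs <;> simp only [Subgroup.map_sup, Subgroup.map_commutator, map_frOf_of_injective hf,
    H9.map_powerClosure]

theorem map_CC_top (hf : Function.Injective f) (X : Subgroup G) :
    CC(X).map f = (⊤ : Subgroup G).map f ⊓ CC(X.map f) := by
  rw [← H4.map_inf_centralizer _ (H4.inf_ker_eq_bot_of_injective _ hf) le_top, top_inf_eq]

theorem map_iSup_MCL (hf : Function.Injective f) (c : Subgroup G → Prop) (c' : Subgroup G' → Prop)
    (g : Subgroup G → Subgroup G) (g' : Subgroup G' → Subgroup G') (hc : ∀ X, c' (X.map f) ↔ c X)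
    (hg : ∀ X, (g X).map f = g' (X.map f)) : (⨆ X : {X // MCL S X ∧ c X}, g X.1).map f =
      ⨆ X : {X // MCL (S.map f) X ∧ c' X}, g' X.1 := by
  rw [Subgroup.map_iSup]
  refine le_antisymm (iSup_le fun ⟨X, hX, e⟩ => le_iSup_of_le
    ⟨_, (MCL_map_iff hf).2 hX, (hc X).2 e⟩ (hg X).le) (iSup_le fun ⟨X, hX, e⟩ => ?_)
  obtain ⟨X, rfl⟩ := exists_map_eq hX.1.1
  exact le_iSup_of_le ⟨X, (MCL_map_iff hf).1 hX, (hc X).1 e⟩ (hg X).ge

theorem sSup_MCL (S : Subgroup G') :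
    sSup {X | MCL S X} = ⨆ X : {X // MCL S X ∧ True}, (X.1 : Subgroup G') :=
  le_antisymm (sSup_le fun X hX => le_iSup_of_le ⟨X, hX, trivial⟩ le_rfl)
    (iSup_le fun X => le_sSup X.2.1)

theorem map_sSup_MCL (hf : Function.Injective f) (S : Subgroup G) :
    (sSup {X | MCL S X}).map f = sSup {X | MCL (S.map f) X} := by
  rw [sSup_MCL, sSup_MCL]
  exact map_iSup_MCL hf _ _ id id (fun _ => Iff.rfl) fun _ => rfl

/-- `S_Φ` -/
def SPhi (p m : ℕ) (S : Subgroup G') : Subgroup G' :=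
  ⨆ X : {X // MCL S X ∧ Nat.card (ZO p X) = m}, frOf X.1

theorem map_SPhi (hf : Function.Injective f) (m : ℕ) (S : Subgroup G) :
    (SPhi p m S).map f = SPhi p m (S.map f) :=
  map_iSup_MCL hf _ _ frOf frOf (fun X => by
    rw [← map_ZO_of_injective hf, Subgroup.card_map_of_injective hf]) (map_frOf_of_injective hf)

theorem CL.mcp {T R : Subgroup G} (h : CL T R) : maxCentralProduct T = cm R := by
  obtain ⟨R, rfl⟩ := exists_sub h.1
  rw [cm_map T.subtype_injective]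
  exact (H11.isCentrallyLarge_iff_card.1 (CL_sub.1 h)).symm

theorem CL.mono {T R : Subgroup G} (h : CL S R) (h1 : R ≤ T) (h2 : T ≤ S) : CL T R :=
  ⟨h1, fun X hX => h.2 X (hX.trans h2)⟩

theorem char_of_map {X : Subgroup G} (F : Subgroup G → Subgroup G)
    (h : ∀ f : G →* G, Function.Injective f → (F ⊤).map f = F ((⊤ : Subgroup G).map f))
    (e : X = F ⊤ := by rfl) : X.Characteristic :=
  e ▸ Subgroup.characteristic_iff_map_eq.2 fun φ => by
    rw [h _ φ.injective, Subgroup.map_top_of_surjective _ φ.surjective]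

/-- the remaining case -/
structure G4 (p : ℕ) (S : Subgroup G') : Prop where
  dS : DL S S
  dA : ∀ A ∈ H4.maxAb 0 S, DL S A
  J : S ≤ thompsonSubgroupOf 0 S
  Z : ∀ z ∈ S ⊓ CC(S), z ^ p = 1

theorem G4.map (h : G4 p S) (hf : Function.Injective f) : G4 p (S.map f) := by
  have k := H4.inf_ker_eq_bot_of_injective S hf
  refine ⟨(DL_map_iff hf).2 h.dS, fun A hA => ?_, ?_, fun z hz => ?_⟩
  · rw [H4.maxAb_map _ k] at hA
    obtain ⟨A, hA, rfl⟩ := hA
    exact (DL_map_iff hf).2 (h.dA A hA)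
  · rw [← H4.map_thompsonOf _ k]; exact Subgroup.map_mono h.J
  · rw [← map_Z hf] at hz
    obtain ⟨z, hz, rfl⟩ := hz
    rw [← map_pow, h.Z z hz, map_one]

theorem G4.gp [Fact p.Prime] (h : G4 p S) (r : RK p q P) (c : CharPIn p P) (s : IsSylowIn p S P)
    (hZ : ¬ S ⊓ CC(S) ≤ CC(P)) : GP p q P S := by
  have hJ : ¬ thompsonSubgroupOf 0 S ≤ pCoreOf p P := fun e => r.not_le s (h.J.trans e)
  have n := r.nvN c s (ZO_zero S ▸ hZ) hJ
  obtain ⟨T, t, e⟩ := (r S s).opp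
  have k : ∀ T, IsSylowIn p T P → ∀ a ∈ ZO 0 (pCoreOf p P) ⊓ CC(T), a ^ p = 1 := fun T t a ha => by
    obtain ⟨g, -, rfl⟩ := RK.exists_cj_res s t
    exact (h.map (f := (MulAut.conj g).toMonoidHom) (MulAut.conj g).injective).Z a
      ⟨t.pCoreOf_le (ZO_le _ ha.1), ha.2⟩
  have E : ZO 0 (pCoreOf p P) = ZQ p P := by
    refine le_antisymm (fun v hv => mem_ZO.2 ⟨ZO_le _ hv, ZO_le_CC _ hv, ?_⟩) fun v hv =>
      mem_ZO.2 ⟨ZO_le _ hv, ZO_le_CC _ hv, pow_zero _⟩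
    obtain ⟨a, ha, b, hb, rfl⟩ := n.dec s t e hv
    rw [Commute.mul_pow (mem_CC.1 (ZO_le_CC _ hb.1) a (ZO_le _ ha.1)), k S s a ha, k T t b hb, one_mul]
  refine ⟨E ▸ n, c, s, ?_, h.dS, h.dA, ?_⟩
  · rw [← E, ZO_zero]
    exact le_antisymm (le_inf ((inf_le_inf_right _ s.le).trans c) inf_le_right)
      (inf_le_inf_right _ s.pCoreOf_le)
  · by_contra! e
    exact hJ (H4.thompsonOf_le_iff.2 e)

end amb

variable {p : ℕ} [Fact p.Prime] {S : Type u} [Group S] [Finite S]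

/-- an embedding of `S` as a Sylow subgroup of a rank one group -/
structure PS (p : ℕ) {S G : Type*} [Group S] [Group G] (τ : S →* G) (P : Subgroup G) : Prop where
  inj : Function.Injective τ
  syl : IsSylowIn p ((⊤ : Subgroup S).map τ) P
  ch : CharPIn p P
  rk : ∃ q, RK p q P

section
variable {G G' : Type u} [Group G] [Finite G] [Group G'] [Finite G'] {τ : S →* G} {τ' : S →* G'}
  {P : Subgroup G} {P' : Subgroup G'}

theorem PS.map (h : PS p τ P) {f : G →* G'} (hf : Function.Injective f) :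
    PS p (f.comp τ) (P.map f) :=
  ⟨hf.comp h.inj, Subgroup.map_map _ f τ ▸ h.syl.map f, (charPIn_map_of_injective hf).2 h.ch,
    h.rk.imp fun _ r => r.map f (isPGroup_inf_ker_of_injective f hf)⟩

theorem PS.comp (h : PS p τ P) (φ : S ≃* S) : PS p (τ.comp φ.toMonoidHom) P :=
  ⟨h.inj.comp φ.injective, by
    rw [← Subgroup.map_map, Subgroup.map_top_of_surjective _ φ.surjective]; exact h.syl, h.ch, h.rk⟩

theorem PS.le_NN (X : Subgroup S) {Y : Subgroup G} (e : X.map τ ≤ Y) (e' : Y ≤ CC(P)) :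
    P ≤ NN(X.map τ) := (le_CC_symm (e.trans e')).trans (CC_le_NN _)

theorem PS.gp (h : PS p τ P) (g : G4 p (⊤ : Subgroup S))
    (hn : ¬ P ≤ NN((S0 p ⊤ ⊓ CC((⊤ : Subgroup S))).map τ)) :
    (∃ q, GP p q P ((⊤ : Subgroup S).map τ)) ∧ ¬ S0 p ((⊤ : Subgroup S).map τ) ≤ CC(resOf p P) := by
  have l : (S0 p ⊤ ⊓ CC((⊤ : Subgroup S))).map τ ≤ _ := (Subgroup.map_inf_le _ _ _).trans
    (inf_le_inf (map_S0 h.inj ⊤).le (map_CC_top h.inj ⊤).le)
  refine ⟨h.rk.imp fun q r => (g.map h.inj).gp r h.ch h.syl fun e => hn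
    (PS.le_NN _ (l.trans inf_le_right) e), fun e => hn (PS.le_NN _ l ?_)⟩
  exact le_CC_symm (h.syl.le_of_resOf_le (le_CC_symm (inf_le_left.trans e))
    (le_CC_symm (inf_le_right.trans inf_le_right)))

theorem PS.two (h : PS p τ P) (h' : PS p τ' P') (g : G4 p (⊤ : Subgroup S))
    (hn : ¬ P ≤ NN((S0 p ⊤ ⊓ CC((⊤ : Subgroup S))).map τ))
    (hn' : ¬ P' ≤ NN((S0 p ⊤ ⊓ CC((⊤ : Subgroup S))).map τ')) :
    (⁅pCoreOf p P, resOf p P⁆ ⊔ ZQ p P).comap τ ≤ (pCoreOf p P').comap τ' := by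
  obtain ⟨H, _, _, f, f', hf, hf', e⟩ := exists_finite_completion h.inj h'.inj
  have e' : f'.comp τ' = f.comp τ := MonoidHom.ext fun c => (e c).symm
  obtain ⟨⟨q, a⟩, b⟩ := (h.map hf).gp g (by rwa [← Subgroup.map_map, le_NN_map_iff hf])
  obtain ⟨⟨q', a'⟩, b'⟩ := (h'.map hf').gp g (by rwa [← Subgroup.map_map, le_NN_map_iff hf'])
  rw [e'] at a' b'
  have := a.family a' b b'
  intro s hs
  have k := Subgroup.mem_map_of_mem f (Subgroup.mem_comap.1 hs)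
  rw [Subgroup.map_sup, Subgroup.map_commutator, map_ZO_of_injective hf,
    map_pCoreOf_of_injective hf, map_resOf] at k
  have k' := sup_le this.1 this.2 k
  rw [← map_pCoreOf_of_injective hf', e] at k'
  exact (Subgroup.mem_map_iff_mem hf').1 k'

end

/-- the conclusion of the theorem -/
structure GN (p : ℕ) {S : Type u} [Group S] (S₁ S₂ : Subgroup S) : Prop where
  n1 : S₁ ≠ ⊥
  n2 : S₂ ≠ ⊥
  c1 : S₁.Characteristic
  c2 : S₂.Characteristic
  z : S₁ ≤ CC((⊤ : Subgroup S))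
  j : S₂ ≤ CC(ZJ 0 (⊤ : Subgroup S))
  c3 : (S₂.subgroupOf CC(ZJ 0 (⊤ : Subgroup S))).Characteristic
  nor : ∀ (G : Type u) [Group G] [Finite G] (τ : S →* G) (P : Subgroup G), PS p τ P →
    P ≤ NN(S₁.map τ) ∨ P ≤ NN(S₂.map τ)

theorem char_sub {X T : Subgroup S} (hT : ⊤ ≤ T) (h : X.Characteristic) :
    (X.subgroupOf T).Characteristic := by
  obtain rfl := top_le_iff.1 hT
  exact Subgroup.characteristic_iff_le_comap.2 fun φ x hx =>
    (Subgroup.characteristic_iff_le_comap.1 h (Subgroup.topEquiv.symm.trans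
      (φ.trans Subgroup.topEquiv)) hx :)

theorem ZJ_top : ZJ 0 (⊤ : Subgroup S) = thompsonSubgroupA S ⊓ CC(thompsonSubgroupA S) := by
  rw [ZJ_zero, H4.centerThompsonAOf_eq, centerThompsonOf, H4.thompsonOf_top, H4.thompsonSubgroupA_eq]

theorem char_Z : CC((⊤ : Subgroup S)).Characteristic := CC_top (G := S) ▸ inferInstance

theorem ne_bot_Z (hS : IsPGroup p S) {X : Subgroup S} (c : X.Characteristic) (h : X ≠ ⊥) :
    X ⊓ CC((⊤ : Subgroup S)) ≠ ⊥ :=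
  inf_CC_ne_bot' (hS.to_subgroup _) (hS.to_subgroup _) (le_NN_of_normal _ _) h

theorem gn_zj (hS : IsPGroup p S) (h : ⁅ZJ 0 (⊤ : Subgroup S), (⊤ : Subgroup S)⁆ ≠ ⊥) :
    GN p (⁅ZJ 0 (⊤ : Subgroup S), (⊤ : Subgroup S)⁆ ⊓ CC((⊤ : Subgroup S))) CC(ZJ 0 (⊤ : Subgroup S)) := by
  haveI : (ZJ 0 (⊤ : Subgroup S)).Characteristic := char_of_map (ZJ 0) fun f hf => map_ZJ hf ⊤
  haveI := char_Z (S := S)
  have n := ne_bot_Z hS inferInstance h
  refine ⟨n, fun e => n (eq_bot_iff.2 (inf_le_right.trans ((CC_anti le_top).trans e.le))),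
    inferInstance, inferInstance, inf_le_right, le_rfl, by rw [Subgroup.subgroupOf_self]; infer_instance,
    fun G _ _ τ P h => ?_⟩
  obtain ⟨q, r⟩ := h.rk
  rw [map_CC_top h.inj (ZJ 0 ⊤), map_ZJ h.inj]
  refine (r.comm_zj (n := 0) h.ch h.syl).symm.imp_left fun e => PS.le_NN _ ?_ e
  rw [← map_ZJ h.inj, ← Subgroup.map_commutator]
  exact (Subgroup.map_inf_le _ _ _).trans (inf_le_inf_left _ (map_CC_le _ _))

variable (hS : IsPGroup p S) (hJ : ⊤ ≤ CC(ZJ 0 (⊤ : Subgroup S)))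
include hS hJ

omit hS in
theorem PS.cJ {G : Type u} [Group G] {τ : S →* G} {P : Subgroup G} (h : PS p τ P) :
    (⊤ : Subgroup S).map τ ≤ CC(ZJ 0 ((⊤ : Subgroup S).map τ)) := by
  rw [← map_ZJ h.inj]; exact (Subgroup.map_mono hJ).trans (map_CC_le _ _)

theorem gn_pow (h : ¬ ∀ z ∈ ⊤ ⊓ CC((⊤ : Subgroup S)), z ^ p = 1) :
    GN p (powerClosure p 1 CC((⊤ : Subgroup S))) ⊤ := by
  haveI := char_Z (S := S)
  have n : powerClosure p 1 CC((⊤ : Subgroup S)) ≠ ⊥ := fun e => h fun z hz =>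
    Subgroup.mem_bot.1 (e ▸ H9.pow_mem_powerClosure_one hz.2)
  refine ⟨n, fun e => n (eq_bot_iff.2 (le_top.trans e.le)), inferInstance, inferInstance,
    H9.powerClosure_le _, hJ, char_sub hJ inferInstance, fun G _ _ τ P h => ?_⟩
  obtain ⟨q, r⟩ := h.rk
  refine (r.pow_center h.ch h.syl).symm.imp (fun e => PS.le_NN _ le_rfl ?_) fun e => by
    rwa [inf_eq_left.2 (h.cJ hJ)] at e
  rw [H9.map_powerClosure, map_CC_top h.inj, H9.powerClosure_le_iff]
  simpa only [pow_one] using e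

theorem gn_mcl {R : Subgroup S} (hR : MCL ⊤ R) (h : ⁅R, R⁆ ≠ ⊥) :
    GN p (⁅R, R⁆ ⊓ CC((⊤ : Subgroup S))) (sSup {X | MCL (⊤ : Subgroup S) X}) := by
  haveI := char_Z (S := S)
  haveI := mcl_char (MCL_top.1 hR)
  have c : (sSup {X | MCL (⊤ : Subgroup S) X}).Characteristic :=
    char_of_map (fun S => sSup {X | MCL S X}) fun f hf => map_sSup_MCL hf ⊤
  refine ⟨ne_bot_Z hS inferInstance h, fun e => h (eq_bot_iff.2 ((comm_le_of_le le_rfl le_rfl).trans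
    ((le_sSup (s := {X | MCL (⊤ : Subgroup S) X}) hR).trans e.le))), inferInstance, c, inf_le_right, le_top.trans hJ, char_sub hJ c,
    fun G _ _ τ P h => ?_⟩
  obtain ⟨q, r⟩ := h.rk
  rw [map_sSup_MCL h.inj]
  refine (r.mcl_normal h.ch h.syl (h.cJ hJ) ((MCL_map_iff h.inj).2 hR)).imp_left
    fun e => PS.le_NN _ ?_ e
  rw [← map_CC_top h.inj, ← Subgroup.map_commutator, inf_comm]
  exact Subgroup.map_inf_le _ _ _

theorem gn_phi [Nontrivial S] (h : ∀ A ∈ maxAbelianSubgroups S, ¬ IsElementaryAbelian p A) :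
    ∃ S₂, GN p CC((⊤ : Subgroup S)) S₂ := by
  obtain ⟨R, hR⟩ := exists_MCL (⊤ : Subgroup S)
  obtain ⟨R, hR, hm⟩ := Set.exists_max_image {X | MCL (⊤ : Subgroup S) X}
    (fun X => Nat.card (ZO p X)) (Set.toFinite _) ⟨R, hR⟩
  have c : (SPhi p (Nat.card (ZO p R)) (⊤ : Subgroup S)).Characteristic :=
    char_of_map (SPhi p _) fun f hf => map_SPhi hf _ ⊤
  refine ⟨SPhi p (Nat.card (ZO p R)) ⊤, top_inf_eq CC((⊤ : Subgroup S)) ▸ ne_bot_Z hS inferInstance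
    top_ne_bot, fun e => ?_, char_Z, c, le_rfl, le_top.trans hJ, char_sub hJ c, fun G _ _ τ P h => ?_⟩
  · have h0 : frOf R ≤ ⊥ := e ▸ le_iSup_of_le (f := fun X : {X // MCL (⊤ : Subgroup S) X ∧
      Nat.card (ZO p X) = Nat.card (ZO p R)} => frOf X.1) ⟨R, hR, rfl⟩ le_rfl
    have ab := comm_eq_bot.1 (eq_bot_iff.2 ((comm_le_frOf (hS.to_subgroup R)).trans h0))
    exact h R ((H11.mcl_iff_maxAbelian (MCL_top.1 hR) (isMulCommutative_iff_le_CC.2 ab) R).1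
      (MCL_top.1 hR)) (isElementaryAbelian_iff.2 ⟨ab, fun a ha =>
        Subgroup.mem_bot.1 (h0 (pow_mem_frOf (hS.to_subgroup R) ha))⟩)
  obtain ⟨q, r⟩ := h.rk
  refine or_iff_not_imp_left.2 fun e => ?_
  rw [map_SPhi h.inj]
  refine (r.nvC h.ch h.syl (h.cJ hJ) fun e' => e (PS.le_NN _ (map_CC_top h.inj ⊤).le e')).phi_normal
    h.syl (ZO_le _) fun X hX => ?_
  obtain ⟨X, rfl⟩ := exists_map_eq hX.1.1
  rw [← map_ZO_of_injective h.inj, Subgroup.card_map_of_injective h.inj]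
  exact hm X ((MCL_map_iff h.inj).1 hX)

theorem gn_fam (g : G4 p (⊤ : Subgroup S)) (h : S0 p (⊤ : Subgroup S) ≠ ⊥) :
    ∃ S₂, GN p (S0 p ⊤ ⊓ CC((⊤ : Subgroup S))) S₂ ∧ CL ⊤ S₂ := by
  haveI := char_Z (S := S)
  haveI : (S0 p (⊤ : Subgroup S)).Characteristic := char_of_map (S0 p) fun f hf => map_S0 hf ⊤
  have n := ne_bot_Z hS inferInstance h
  set 𝒬 := {Q : Subgroup S | ∃ (G : Type u) (_ : Group G) (_ : Finite G) (τ : S →* G) (P : Subgroup G),
    PS p τ P ∧ ¬ P ≤ NN((S0 p ⊤ ⊓ CC((⊤ : Subgroup S))).map τ) ∧ (pCoreOf p P).comap τ = Q}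
  have c : (sInf 𝒬).Characteristic := Subgroup.characteristic_iff_le_comap.2 fun φ x hx =>
    Subgroup.mem_sInf.2 fun _ ⟨G, _, _, τ, P, h, hn, e⟩ => e ▸ Subgroup.mem_sInf.1 hx
      ((pCoreOf p P).comap (τ.comp φ.toMonoidHom)) ⟨G, _, ‹_›, _, P, h.comp φ, by
        rwa [← Subgroup.map_map, Subgroup.characteristic_iff_map_eq.1 inferInstance φ], rfl⟩
  have two : ∀ {G : Type u} [Group G] [Finite G] {τ : S →* G} {P : Subgroup G}, PS p τ P →
      ¬ P ≤ NN((S0 p ⊤ ⊓ CC((⊤ : Subgroup S))).map τ) →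
      (⁅pCoreOf p P, resOf p P⁆ ⊔ ZQ p P).comap τ ≤ sInf 𝒬 := fun h hn =>
    le_sInf fun _ ⟨G, _, _, τ, P, h', hn', e⟩ => e ▸ h.two h' g hn hn'
  have z : CC((⊤ : Subgroup S)) ≤ sInf 𝒬 := le_sInf fun _ ⟨G, _, _, τ, P, h, _, e⟩ => e ▸
    Subgroup.map_le_iff_le_comap.1 ((map_CC_top h.inj ⊤).le.trans
      ((inf_le_inf_right _ h.syl.le).trans (h.ch.center_le h.syl)))
  obtain ⟨X, ⟨d, x1, x2⟩, hm⟩ := exists_minimal_subgroup (P := fun X : Subgroup S => DL ⊤ X ∧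
    ⊤ ⊓ CC(X) ≤ sInf 𝒬 ∧ sInf 𝒬 ≤ X) ⟨g.dS, inf_le_right.trans z, le_top⟩
  obtain rfl : X = sInf 𝒬 := by
    refine le_antisymm (le_sInf fun Q hQ => inf_eq_left.1 (hm _ ?_ inf_le_left)) x2
    have l := sInf_le hQ
    obtain ⟨G, _, _, τ, P, h, hn, rfl⟩ := hQ
    obtain ⟨⟨q, a⟩, -⟩ := h.gp g hn
    have e : ((pCoreOf p P).comap τ).map τ = pCoreOf p P :=
      Subgroup.map_comap_eq_self (a.QS.trans (MonoidHom.range_eq_map τ).ge)
    have dQ : DL ⊤ ((pCoreOf p P).comap τ) := (DL_map_iff h.inj).1 (e.symm ▸ a.dQ)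
    refine ⟨d.inf dQ, (d.cent_inf dQ).le.trans (sup_le x1 (inf_le_right.trans (le_trans
      (Subgroup.map_le_iff_le_comap.1 ?_) (two h hn)))), le_inf x2 l⟩
    rw [map_CC_top h.inj, e, a.cQ]
    exact le_sup_right
  refine ⟨_, ⟨n, fun e => n (eq_bot_iff.2 (inf_le_right.trans (z.trans e.le))), inferInstance, c,
    inf_le_right, le_top.trans hJ, char_sub hJ c, fun G _ _ τ P h => or_iff_not_imp_left.2 fun hn =>
    h.syl.le_of_resOf_le (le_NN_of_comm_le_left ?_) (map_le_NN_map τ (le_NN_of_normal _ _))⟩,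
    CL_top.2 (H11.cl_iff.2 ⟨DL_top.1 d, (le_inf le_top le_rfl).trans x1⟩)⟩
  refine (Subgroup.commutator_mono (Subgroup.map_le_iff_le_comap.2
    (sInf_le (s := 𝒬) ⟨G, _, ‹_›, τ, P, h, hn, rfl⟩)) le_rfl).trans (le_trans (Subgroup.map_comap_eq_self
    (T_le_Q.trans (h.syl.pCoreOf_le.trans (MonoidHom.range_eq_map τ).ge))).ge
    (Subgroup.map_mono ((Subgroup.comap_mono le_sup_left).trans (two h hn))))

omit hJ in
theorem gn_master : (∃ S₁ S₂ : Subgroup S, GN p S₁ S₂ ∧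
    maxCentralProduct S₂ = maxCentralProduct CC(ZJ 0 (⊤ : Subgroup S))) ∨
    ((⊤ : Subgroup S) ≤ CC(ZJ 0 (⊤ : Subgroup S)) ∧ G4 p (⊤ : Subgroup S) ∧ S0 p (⊤ : Subgroup S) = ⊥) := by
  by_cases h1 : ⁅ZJ 0 (⊤ : Subgroup S), (⊤ : Subgroup S)⁆ = ⊥
  swap
  · exact Or.inl ⟨_, _, gn_zj hS h1, rfl⟩
  have hJ := comm_eq_bot'.1 h1
  obtain ⟨R, hR⟩ := exists_MCL (⊤ : Subgroup S)
  have k : ∀ {X R : Subgroup S}, CL ⊤ R → R ≤ X →
      maxCentralProduct X = maxCentralProduct CC(ZJ 0 (⊤ : Subgroup S)) := fun h l =>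
    (h.mono l le_top).mcp.trans (h.mono (le_top.trans hJ) le_top).mcp.symm
  by_cases h2 : ∀ z ∈ ⊤ ⊓ CC((⊤ : Subgroup S)), z ^ p = 1
  swap
  · exact Or.inl ⟨_, _, gn_pow hS hJ h2, k hR.1 le_top⟩
  by_cases h3 : ⁅R, R⁆ = ⊥
  swap
  · exact Or.inl ⟨_, _, gn_mcl hS hJ hR h3, k hR.1 (le_sSup (s := {X | MCL (⊤ : Subgroup S) X}) hR)⟩
  have m := H11.mcl_iff_maxAbelian (MCL_top.1 hR) (isMulCommutative_iff_le_CC.2 (comm_eq_bot.1 h3))
  have e : H4.maxAb 0 (⊤ : Subgroup S) = maxAbelianSubgroups S := by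
    rw [H4.maxAb_top, H4.maxAbelianSubgroups_eq]
  have J : ⊤ ≤ thompsonSubgroupA S := (ZJ_top (S := S) ▸ hJ).trans ((H11.jtilde_le (CL_top.1 hR.1)).trans
    (sup_le (le_sSup ((m R).1 (MCL_top.1 hR))) le_rfl))
  have g : G4 p (⊤ : Subgroup S) := ⟨DL_top.2 (H11.cl_iff.1 (top_le_iff.1 J ▸ H11.cl_sSup
    (fun A hA => ((m A).2 hA).1) H11.exists_maxAbelian)).1, fun A hA =>
    DL_top.2 (H11.cl_iff.1 ((m A).2 (e ▸ hA)).1).1,
    by rwa [H4.thompsonOf_top, ← H4.thompsonSubgroupA_eq], h2⟩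
  by_cases h4 : S0 p (⊤ : Subgroup S) = ⊥
  · exact Or.inr ⟨hJ, g, h4⟩
  obtain ⟨X, a, b⟩ := gn_fam hS hJ g h4
  exact Or.inl ⟨_, _, a, k b le_rfl⟩

omit hS hJ

theorem GN.normal {S₁ S₂ : Subgroup S} (h : GN p S₁ S₂) {G : Type u} [Group G] [Finite G]
    {τ : S →* G} (hτ : Function.Injective τ) (hE : IsPushingUpSituation p τ.range) :
    (S₁.map τ).Normal ∨ (S₂.map τ).Normal := by
  obtain ⟨-, ⟨T, e⟩, hE₁, hE₂, K, _, F, _, _, n, hF, hE₃⟩ := hE
  rw [← e] at hE₂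
  exact (h.nor G τ ⊤ ⟨hτ, MonoidHom.range_eq_map τ ▸ e ▸ isSylowIn_top T, charPIn_top.2 hE₁, _,
    (rk_of_psl T hE₂ K hF hE₃).2⟩).imp normal_of_top_le_NN normal_of_top_le_NN

theorem GN.normal' {S₁ S₂ : Subgroup S} (h : GN p S₁ S₂) {G : Type u} [Group G] [Finite G]
    (P : Subgroup G) (e : S ≃* P) (hE : IsPushingUpSituation p P) :
    (S₁.map (P.subtype.comp e.toMonoidHom)).Normal ∨ (S₂.map (P.subtype.comp e.toMonoidHom)).Normal :=
  h.normal (P.subtype_injective.comp e.injective) (by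
    rwa [MonoidHom.range_comp, MonoidHom.range_eq_top.2 e.surjective, map_top_subtype])

theorem gn_ab [Nontrivial S] (h : (⊤ : Subgroup S) ≤ CC((⊤ : Subgroup S))) :
    GN p (⊤ : Subgroup S) ⊤ :=
  have hJ := h.trans (CC_anti le_top)
  ⟨top_ne_bot, top_ne_bot, inferInstance, inferInstance, h, hJ, char_sub hJ inferInstance,
    fun _ _ _ τ _ k => k.rk.elim fun _ r => (r.not_le k.syl (k.ch.le k.syl.le
      ((Subgroup.map_mono h).trans ((map_CC_le τ _).trans (CC_anti k.syl.pCoreOf_le))))).elim⟩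

theorem G4.exc [Nontrivial S] (hS : IsPGroup p S) (g : G4 p (⊤ : Subgroup S))
    (h : S0 p (⊤ : Subgroup S) = ⊥) : thompsonSubgroupA S = ⊤ ∧
    IsElementaryAbelian p (Subgroup.center S) ∧ IsElementaryAbelian p (frattini S) ∧
    (p = 2 → frattini S ≤ Subgroup.center S) ∧
    (p = 3 → frattini S ≤ Subgroup.upperCentralSeries S 2) ∧
    (3 < p → frattini S ≤ Subgroup.center S ∧ Monoid.exponent S = p) ∧
    (∀ A ∈ maxAbelianSubgroups S, ∀ B ∈ maxAbelianSubgroups S, ∀ Q : Subgroup S,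
      Nat.card A ^ 2 = Nat.card S * Nat.card (Subgroup.center S) ∧
      Nat.card Q * Nat.card (Subgroup.center Q) ≤ Nat.card S * Nat.card (Subgroup.center S) ∧
      ((A ⊔ B : Subgroup S) : Set S) = (A : Set S) * (B : Set S) ∧ A ⊔ B = CC(A ⊓ B)) := by
  have z : IsElementaryAbelian p (Subgroup.center S) := CC_top (G := S) ▸ isElementaryAbelian_iff.2
    ⟨CC_anti le_top, fun a ha => g.Z a ⟨trivial, ha⟩⟩
  have f : frOf (frOf (⊤ : Subgroup S)) ≤ ⊥ → IsElementaryAbelian p (frattini S) := fun e =>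
    frOf_top (G := S) ▸ isElementaryAbelian_iff.2 ⟨comm_eq_bot.1 (eq_bot_iff.2 ((comm_le_frOf
      (hS.to_subgroup _)).trans e)), fun a ha => Subgroup.mem_bot.1 (e (pow_mem_frOf
      (hS.to_subgroup _) ha))⟩
  have c : ⁅frOf (⊤ : Subgroup S), (⊤ : Subgroup S)⁆ ≤ ⊥ → frattini S ≤ Subgroup.center S := fun e =>
    frOf_top (G := S) ▸ CC_top (G := S) ▸ comm_eq_bot.1 (eq_bot_iff.2 e)
  have t : Nat.card S * Nat.card (Subgroup.center S) = maxCentralizerProduct S := by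
    rw [← CC_top, ← Subgroup.card_top]; exact DL_top.1 g.dS
  have d : ∀ A ∈ maxAbelianSubgroups S, IsCentralizerLarge A := fun A hA => DL_top.1 (g.dA A (by
    rwa [H4.maxAb_top, ← H4.maxAbelianSubgroups_eq]))
  unfold S0 at h
  refine ⟨top_le_iff.1 (by rw [H4.thompsonSubgroupA_eq, ← H4.thompsonOf_top]; exact g.J), z, ?_,
    fun e => ?_, fun e => ?_, fun e => ?_, fun A hA B hB Q => ⟨?_, ?_, (H11.cd_pair (d A hA) (d B hB)).1,
      ?_⟩⟩
  · split_ifs at h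
    · exact f (le_sup_right.trans h.le)
    · exact f (le_sup_right.trans h.le)
    · exact elab_of_le z (c (le_sup_left.trans h.le))
  · rw [if_pos e] at h
    exact c (le_sup_left.trans h.le)
  · rw [if_neg (by omega), if_pos e, frOf_top] at h
    refine fun x hx => Subgroup.mem_upperCentralSeries_succ_iff.2 fun y => ?_
    rw [Subgroup.upperCentralSeries_one, ← CC_top]
    exact comm_eq_bot.1 (eq_bot_iff.2 (le_sup_left.trans h.le))
      (Subgroup.commutator_mem_commutator hx trivial)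
  · rw [if_neg (by omega), if_neg (by omega)] at h
    exact ⟨c (le_sup_left.trans h.le), (Monoid.exponent_eq_prime_iff Fact.out).2 fun x hx =>
      orderOf_eq_prime (Subgroup.mem_bot.1 ((le_sup_right.trans h.le)
        (H9.pow_mem_powerClosure_one trivial))) hx⟩
  · rw [t, ← d A hA, H11.centralizer_eq_of_maxAbelian hA, pow_two]
  · rw [t, ← H11.maxCentralProduct_eq]
    exact le_csSup (H11.bddAbove_measure _) ⟨Q, rfl⟩
  · rw [(H11.cd_pair (d A hA) (d B hB)).2.2.2.2, H11.centralizer_eq_of_maxAbelian hA,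
      H11.centralizer_eq_of_maxAbelian hB]

end H10
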