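import Cfsg.Agent.H15.TB
import Cfsg.Agent.H4.Stable

/-!
Self-centralizing normal subgroups of nilpotent overgroups of the Fitting subgroup.
-/

set_option autoImplicit false
set_option linter.unusedSectionVars false

namespace H10

open Cfsg Subgroup H15
open scoped commutatorElement

variable {G : Type*} [Group G] [Finite G]

theorem pStableOn_of_solvable [Group.IsSolvable G] {p : ℕ} [Fact p.Prime] (hp : 5 ≤ p)
    (B : Subgroup G) [B.Normal] (hB : IsPGroup p B) : IsPStableOn p B := by
  have := (inferInstance : B.Normal).map (QuotientGroup.mk' ((frattini B).map B.subtype))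
    (QuotientGroup.mk'_surjective _)
  refine H4.isPStableOn_of_frattini hB (H4.isPStableOn_of_not_natSL2 (by omega)
    (H4.elemAb_map_frattini hB) fun h => H4.not_isPSolvable_sl2 hp (h.isSec.isPSolvable ?_))
  exact H1.isPSolvable_of_isSolvable p inferInstance

theorem mem_fitting_of_quadratic [Group.IsSolvable G] {p : ℕ} [hp' : Fact p.Prime] (hp : 5 ≤ p)
    {x : G} (h1 : x ∈ centralizer (piCoreOf {p}ᶜ (fittingOf (⊤ : Subgroup G)) : Set G))
    (h2 : ⁅⁅pCore p G, zpowers x⁆, zpowers x⁆ = ⊥) : x ∈ fittingOf (⊤ : Subgroup G) := by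
  set F := fittingOf (⊤ : Subgroup G) with hF
  have hFn : Group.IsNilpotent F := nilpotent_fittingOf ⊤
  obtain ⟨D, hD, hxD, hDp⟩ := H4.mk_mem_pCore_iff.1
    (pStableOn_of_solvable hp (pCore p G) (H1.isPGroup_pCore p) x h2)
  have hN : (piCoreOf {p}ᶜ F).Normal := normalizer_eq_top_iff.1 (eq_top_iff.2
    (le_norm_piCoreOf _ (le_norm_fittingOf_self ⊤)))
  set K := D ⊓ centralizer (piCoreOf {p}ᶜ F : Set G) with hK
  have hKn : Group.IsNilpotent K := by
    refine Group.of_quotient_center_nilpotent (IsPGroup.isNilpotent (p := p) fun d => ?_)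
    induction d using QuotientGroup.induction_on with | _ d => ?_
    obtain ⟨i, hi⟩ := H4.exists_pow_coprime_orderOf (p := p) (d : G)
    refine ⟨i, ?_⟩
    rw [← QuotientGroup.mk_pow, QuotientGroup.eq_one_iff, mem_center_iff]
    set y : G := (d : G) ^ p ^ i with hy
    have hyK : y ∈ K := pow_mem d.2 _
    obtain ⟨k, hk⟩ := hDp y hyK.1
    have hyC : y ∈ centralizer (pCore p G : Set G) := by
      obtain ⟨m, hm⟩ := exists_pow_eq_self_of_coprime (x := y) (n := p ^ k) (hi.symm.pow_left k)
      rw [← hm]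
      exact pow_mem hk m
    have hyF : y ∈ F := by
      refine inf_cent_fittingOf_le (X := ⊤) inferInstance ⟨trivial, ?_⟩
      refine zpowers_le.1 ?_
      rw [← hF, ← piCoreOf_sup_compl hFn {p}, pCoreOf_fittingOf, ← pCore_eq_piCoreOf,
        le_centralizer_iff]
      exact sup_le (le_centralizer_iff.1 (zpowers_le.2 hyC))
        (le_centralizer_iff.1 (zpowers_le.2 hyK.2))
    have hyN : y ∈ piCoreOf {p}ᶜ F := zpowers_le.1 (le_piCoreOf_of_nilpotent hFn
      (zpowers_le.2 hyF) (isPi_compl_of_coprime (by rwa [Nat.card_zpowers])))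
    intro g
    exact Subtype.ext (g.2.2 y hyN).symm
  exact le_fittingOf le_top le_normalizer_of_normal hKn ⟨hxD, h1⟩

/-- a self-centralizing normal subgroup of a nilpotent `{2,3}'`-group containing `F(G)` is
self-centralizing in the solvable group `G` -/
theorem scn_cent_le [Group.IsSolvable G] {R A : Subgroup G} (hR : Group.IsNilpotent R)
    (hFR : fittingOf (⊤ : Subgroup G) ≤ R) (h5 : ∀ q, q.Prime → q ∣ Nat.card R → 5 ≤ q)
    (hA : IsSCN R A) : centralizer (A : Set G) ≤ A := by
  set F := fittingOf (⊤ : Subgroup G) with hF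
  have hFn : Group.IsNilpotent F := nilpotent_fittingOf ⊤
  obtain ⟨hAR, hRA, hC⟩ := hA
  have hAc : A ≤ centralizer (A : Set G) := hC.ge.trans inf_le_right
  have hAn : Group.IsNilpotent A := nilpotent_of_comm (le_centralizer_iff_isMulCommutative.1 hAc)
  have hPF : ∀ q [Fact q.Prime], pCore q G ≤ F := fun q _ => by
    rw [pCore_eq_piCoreOf]; exact pCoreOf_le_fittingOf q ⊤
  have hAF : A ≤ F := by
    refine le_of_piCoreOf_le hAn fun q hq hd x hx => ?_
    have := Fact.mk hq
    have hxA : x ∈ A := piCoreOf_le _ _ hx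
    refine mem_fitting_of_quadratic (h5 q hq (hd.trans (card_dvd_of_le hAR)))
      (le_cent_of_nilpotent hR ((piCoreOf_le _ _).trans hAR) ((piCoreOf_le _ _).trans hFR)
        (isPi_piCoreOf _ _) (isPi_piCoreOf _ _) hx) ?_
    rw [commutator_eq_bot_iff_le_centralizer]
    refine le_trans ?_ (hAc.trans (centralizer_le (zpowers_le.2 hxA)))
    exact (commutator_mono ((hPF q).trans (hFR.trans hRA)) (zpowers_le.2 hxA)).trans
      (le_normalizer_iff_commutator_le_right.1 le_rfl)
  intro x₀ hx₀
  refine zpowers_le.1 (le_of_piCoreOf_le (nilpotent_of_comm inferInstance) fun q hq _ => ?_)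
  have := Fact.mk hq
  set X := piCoreOf {q} (zpowers x₀) with hX
  have hXC : X ≤ centralizer (A : Set G) := (piCoreOf_le _ _).trans (zpowers_le.2 hx₀)
  have hXq : IsPiSubgroup {q} X := isPi_piCoreOf _ _
  have hNn : (piCoreOf {q}ᶜ F).Normal := normalizer_eq_top_iff.1 (eq_top_iff.2
    (le_norm_piCoreOf _ (le_norm_fittingOf_self ⊤)))
  have hEN : piCoreOf {q}ᶜ A ≤ piCoreOf {q}ᶜ F :=
    le_piCoreOf_of_nilpotent hFn ((piCoreOf_le _ _).trans hAF) (isPi_piCoreOf _ _)
  have hXN : X ≤ centralizer (piCoreOf {q}ᶜ F : Set G) := by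
    refine cent_of_selfcent' (E := piCoreOf {q}ᶜ A) (H1.isNilpotent_of_le hFn (piCoreOf_le _ _))
      le_normalizer_of_normal (hXq.coprime (isPi_piCoreOf _ _)) hEN
      (le_centralizer_iff.1 (hXC.trans (centralizer_le (piCoreOf_le _ _)))) ?_
    refine le_piCoreOf_of_nilpotent hAn ?_ (isPi_piCoreOf _ _).inf_left
    refine le_trans (le_inf (inf_le_left.trans ((piCoreOf_le _ _).trans hFR)) ?_) hC.le
    rw [le_centralizer_iff]
    conv_lhs => rw [← piCoreOf_sup_compl hAn {q}]
    exact sup_le (le_cent_of_nilpotent hFn ((piCoreOf_le _ _).trans hAF)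
      (inf_le_left.trans (piCoreOf_le _ _)) (isPi_piCoreOf _ _) (isPi_piCoreOf _ _).inf_left)
      (le_centralizer_iff.1 inf_le_right)
  have hXF : X ≤ F := by
    by_cases hd : q ∣ Nat.card R
    · intro x hx
      refine mem_fitting_of_quadratic (h5 q hq hd) (hXN hx) ?_
      have hxC : zpowers x ≤ centralizer (A : Set G) := zpowers_le.2 (hXC hx)
      have h1 : ⁅zpowers x, pCore q G⁆ ≤ centralizer (A : Set G) := by
        refine three_sub ?_ ?_
        · exact ((commutator_mono ((hPF q).trans (hFR.trans hRA)) le_rfl).trans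
            (le_normalizer_iff_commutator_le_right.1 le_rfl)).trans (le_centralizer_iff.1 hxC)
        · rw [commutator_eq_bot_iff_le_centralizer.2 (le_centralizer_iff.1 hxC)]
          exact bot_le
      rw [commutator_eq_bot_iff_le_centralizer, commutator_comm]
      refine le_trans ?_ (le_centralizer_iff.1 hxC)
      rw [← hC]
      exact le_inf ((commutator_le_right _ _).trans ((hPF q).trans hFR)) h1
    · have e : piCoreOf {q}ᶜ F = F :=
        piCoreOf_eq_self (isPi_compl_of_not_dvd fun e => hd (e.trans (card_dvd_of_le hFR)))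
      rw [e] at hXN
      exact le_fittingOf_of_le_cent inferInstance le_top hXN
  rw [← hC]
  exact le_inf (hXF.trans hFR) hXC

end H10
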