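import Cfsg.Agent.H10.Cores
import Cfsg.Agent.H5.Two
import Cfsg.Agent.H5.PRank
import Cfsg.Agent.H17.Be1

/-!
Tools for the signalizer functor method for the prime `2`.
-/

set_option autoImplicit false
set_option linter.unusedSectionVars false

namespace H10.Sg

open Cfsg H10 Subgroup
open H5 (plOf ppOf oppOf)
open scoped commutatorElement

universe u

local notation "C₁(" a ")" => Subgroup.centralizer (Singleton.singleton a : Set _)

variable {G : Type u} [Group G] [Finite G]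

theorem mem_C1 {a x : G} : x ∈ C₁(a) ↔ x * a = a * x := mem_centralizer_singleton_iff

theorem pow_mul_mem {O : Subgroup G} {n o : G} (hn : n ∈ NN(O)) (ho : o ∈ O) (m : ℕ) :
    (n ^ m)⁻¹ * (n * o) ^ m ∈ O := by
  induction m with
  | zero => simp
  | succ m ih =>
    have := mul_mem (conj_mem_of_mem_NN' hn ih) ho
    rw [pow_succ, pow_succ]
    convert this using 1
    group

theorem odd_mem_opp {K : Subgroup G} {n : G} (hn : n ∈ ppOf 2 K) (ho : (orderOf n).Coprime 2) :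
    n ∈ oppOf 2 K := by
  obtain ⟨k, hk⟩ := H5.exists_pow_mem_oppOf hn
  have : n ∈ zpowers (n ^ 2 ^ k) := by
    rw [mem_zpowers_pow_iff]
    exact (ho.pow_right k).symm
  exact (zpowers_le.2 hk) this

theorem odd_le_opp {K X : Subgroup G} (h : X ≤ ppOf 2 K) (ho : (Nat.card X).Coprime 2) :
    X ≤ oppOf 2 K := fun _ hx => odd_mem_opp (h hx) (H5.coprime_orderOf_of_mem ho hx)

theorem pp_le {K T : Subgroup G} (hT : IsSylowIn 2 T K) :
    ppOf 2 K ≤ (T ⊓ ppOf 2 K) ⊔ oppOf 2 K := by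
  have h := hT.inf_normal (H5.ppOf_le 2 K) (H5.self_le_normalizer_ppOf 2 K)
  exact (H5.sylow_sup_oppOf (H15.syl_iff.2 ⟨h.le, h.isPGroup, h.not_dvd_relIndex⟩)).ge

theorem fratt {K T : Subgroup G} (hT : IsSylowIn 2 T K) :
    K ≤ oppOf 2 K ⊔ (K ⊓ NN(T ⊓ ppOf 2 K)) := by
  have h := hT.inf_normal (H5.ppOf_le 2 K) (H5.self_le_normalizer_ppOf 2 K)
  refine (h.frattini_sup (H5.ppOf_le 2 K) (H5.self_le_normalizer_ppOf 2 K)).ge.trans
    (sup_le ((pp_le hT).trans (sup_le (le_sup_of_le_right (le_inf (inf_le_left.trans hT.le)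
      (le_NN_self _))) le_sup_left)) le_sup_right)

theorem cent_le_pp {K T : Subgroup G} (hL : plOf 2 K = ⊥) (hT : IsSylowIn 2 T K) :
    K ⊓ CC(T ⊓ ppOf 2 K) ≤ ppOf 2 K :=
  H5.inf_centralizer_le_ppOf hL (pp_le hT) (inf_le_left.trans hT.le)

/-- An element stabilizing the chain `R ≥ Z ≥ 1` lies in `O_{2',2}`. -/
theorem mem_pp {K T Z : Subgroup G} (hL : plOf 2 K = ⊥) (hT : IsSylowIn 2 T K) (hZ : K ≤ CC(Z))
    {t : G} (ht : t ∈ T) (h : ∀ r ∈ T ⊓ ppOf 2 K, ⁅t, r⁆ ∈ Z) : t ∈ ppOf 2 K := by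
  set R := T ⊓ ppOf 2 K with hR
  have hR2 : IsPGroup 2 R := hT.isPGroup.to_le inf_le_left
  set N := (K ⊓ NN(R)) ⊓ H5.centMod R Z with hN
  have hO := H5.self_le_normalizer_oppOf 2 K
  have hNK : N ≤ K := inf_le_left.trans inf_le_left
  have h1 : ∀ n ∈ N, ∃ k, n ^ 2 ^ k ∈ oppOf 2 K := fun n hn => by
    obtain ⟨k, hk⟩ := exists_pow_coprime (p := 2) (isOfFinOrder_of_finite n)
    have hm : n ^ 2 ^ k ∈ N := pow_mem hn _
    have hz : zpowers (n ^ 2 ^ k) ≤ N := zpowers_le.2 hm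
    refine ⟨k, odd_mem_opp (cent_le_pp hL hT ⟨hNK hm, ?_⟩) hk⟩
    refine H1.le_centralizer_of_commutator_commutator_eq_bot (A := zpowers (n ^ 2 ^ k))
      (hz.trans (inf_le_left.trans inf_le_right)) ?_ ?_ (mem_zpowers _)
    · rw [Nat.card_zpowers]
      exact (H5.coprime_card_of_isPGroup hR2 hk).symm
    · have : ⁅R, zpowers (n ^ 2 ^ k)⁆ ≤ Z := by
        rw [Subgroup.commutator_comm]
        exact (H5.le_centMod.1 (hz.trans inf_le_right)).2
      exact eq_bot_iff.2 ((commutator_mono this le_rfl).trans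
        (comm_eq_bot'.2 ((hz.trans hNK).trans hZ)).le)
  have h2 : N ⊔ oppOf 2 K ≤ ppOf 2 K := by
    refine H5.le_ppOf (sup_le hNK (H5.oppOf_le 2 K)) ((fratt hT).trans (sup_le ?_ ?_)) fun x hx => ?_
    · exact le_sup_right.trans (le_NN_self _)
    · refine le_NN_sup (le_NN_inf (le_NN_self _) ?_) (inf_le_left.trans hO)
      refine le_NN_of_cj_le fun g hg => cj_le_of fun y hy => ⟨?_, fun r hr => ?_⟩
      · exact mul_mem (mul_mem (CC_le_NN _ (hZ hg.1)) hy.1) (inv_mem (CC_le_NN _ (hZ hg.1)))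
      · have := conj_mem_of_mem_NN (CC_le_NN _ (hZ hg.1)) (hy.2 _ (conj_mem_of_mem_NN' hg.2 hr))
        convert this using 1
        simp only [commutatorElement_def]
        group
    · obtain ⟨n, hn, o, ho, rfl⟩ := (mem_sup_of_NN (hNK.trans hO)).1 hx
      obtain ⟨k, hk⟩ := h1 n hn
      refine ⟨k, ?_⟩
      simpa using mul_mem hk (pow_mul_mem (hO (hNK hn)) ho (2 ^ k))
  refine h2 (mem_sup_left ⟨⟨hT.le ht, ?_⟩, CC_le_NN _ (hZ (hT.le ht)), h⟩)
  exact mem_NN_inf (le_NN_self _ ht) (H5.self_le_normalizer_ppOf 2 K (hT.le ht))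

/-- elementary abelian of order at least `2 ^ k` -/
def EA (k : ℕ) (B : Subgroup G) : Prop := IsElementaryAbelian 2 B ∧ 2 ^ k ≤ Nat.card B

theorem EA.two {k : ℕ} {B : Subgroup G} (h : EA k B) : IsPGroup 2 B := H5.isPGroup_of_elemAb h.1

theorem EA.cj {k : ℕ} {B : Subgroup G} (h : EA k B) (g : G) : EA k (cj g B) :=
  ⟨H5.elemAb_cj h.1 g, (card_cj g B).symm ▸ h.2⟩

theorem EA.le_CC {k : ℕ} {B : Subgroup G} (h : EA k B) : B ≤ CC(B) := H5.elemAb_le_centralizer h.1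

theorem EA.comm {k : ℕ} {B : Subgroup G} (h : EA k B) {a b : G} (ha : a ∈ B) (hb : b ∈ B) :
    a * b = b * a := H5.elemAb_comm h.1 ha hb

theorem EA.le_C1 {k : ℕ} {B : Subgroup G} (h : EA k B) {a : G} (ha : a ∈ B) : B ≤ C₁(a) :=
  fun _ hb => mem_C1.2 (h.comm hb ha)

theorem EA.sq {k : ℕ} {B : Subgroup G} (h : EA k B) {a : G} (ha : a ∈ B) : a * a = 1 := by
  rw [← pow_two]; exact h.1.2 a ha

theorem EA.ord {k : ℕ} {B : Subgroup G} (h : EA k B) {a : G} (ha : a ∈ B) (h1 : a ≠ 1) :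
    orderOf a = 2 := H5.orderOf_eq_of_elemAb h.1 ha h1

theorem EA.mono {k l : ℕ} {B : Subgroup G} (h : EA k B) (hl : l ≤ k) : EA l B :=
  ⟨h.1, (Nat.pow_le_pow_right two_pos hl).trans h.2⟩

theorem EA.succ {k : ℕ} {B : Subgroup G} (h : EA k B) {x : G} (hx : x * x = 1) (hc : B ≤ C₁(x))
    (hn : x ∉ B) : EA (k + 1) (B ⊔ zpowers x) := by
  have h1 : IsElementaryAbelian 2 (B ⊔ zpowers x : Subgroup G) :=
    H5.elemAb_sup h.1 (H5.elemAb_zpowers (H6.ord2_of hx fun e => hn (e ▸ one_mem B)))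
      (by rwa [CC_zpowers])
  refine ⟨h1, H5.pow_succ_le_of_lt (H5.isPGroup_of_elemAb h1) (h.2.trans_lt (card_lt_of_lt ?_))⟩
  exact lt_of_le_of_ne le_sup_left fun e => hn (e ▸ mem_sup_right (mem_zpowers x))

theorem ea_one {x : G} (hx : orderOf x = 2) : EA 1 (zpowers x) :=
  ⟨H5.elemAb_zpowers hx, by rw [Nat.card_zpowers, hx]; rfl⟩

theorem mem_zp {x y : G} (hx : orderOf x = 2) : y ∈ zpowers x ↔ y = 1 ∨ y = x :=
  H6.mem_zpowers_ord2 (H6.ord2_mul_self hx)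

theorem exists_normal_four {S B : Subgroup G} (hS : IsPGroup 2 S) (hB : EA 3 B) (hBS : B ≤ S) :
    ∃ U, U ≤ S ∧ S ≤ NN(U) ∧ EA 2 U ∧ Nat.card U = 4 := by
  obtain ⟨U, h1, h2, h3⟩ := H5.exists_normal_rank_two' (p := 2) hS
    (H5.not_pRankLE_iff.2 ⟨B, hBS, hB⟩)
  exact ⟨U.map S.subtype, map_subtype_le _, le_NN_map_subtype U,
    ⟨H5.elemAb_map _ h2, by rw [card_map_subtype, h3]⟩, by rw [card_map_subtype, h3]; rfl⟩

theorem EA.inf_CC {B U : Subgroup G} (hB : EA 3 B) (hU : EA 2 U) (h4 : Nat.card U = 4)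
    (hn : B ≤ NN(U)) : EA 2 (B ⊓ CC(U)) := by
  have := H5.card_le_mul_inf_centralizer (p := 2) hU.two h4.le hB.two hn
  have h := hB.2
  exact ⟨H5.elemAb_of_le hB.1 inf_le_left, by omega⟩

/-- A normal four-group lies in an elementary abelian group of order 8. -/
theorem exists_eight {S B U : Subgroup G} (hB : EA 3 B) (hBS : B ≤ S) (hU : EA 2 U)
    (h4 : Nat.card U = 4) (hUS : U ≤ S) (hn : S ≤ NN(U)) : ∃ A, EA 3 A ∧ U ≤ A ∧ A ≤ S := by
  have h := hB.inf_CC hU h4 (hBS.trans hn)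
  by_cases e : B ⊓ CC(U) ≤ U
  · have e' : B ⊓ CC(U) = U := H5.eq_of_le_of_card_le e (h4 ▸ h.2)
    exact ⟨B, hB, e' ▸ inf_le_left, hBS⟩
  · obtain ⟨x, hx, hxU⟩ := SetLike.not_le_iff_exists.1 e
    exact ⟨_, hU.succ (hB.sq hx.1) (fun u hu => mem_C1.2 (mem_CC.1 hx.2 u hu)) hxU, le_sup_left,
      sup_le hUS (zpowers_le.2 (hBS hx.1))⟩

/-- Bender's theorem: a strongly embedded subgroup has no normal subgroup of odd order. -/
theorem se_odd_bot {M W V : Subgroup G} (hM : IsStronglyEmbedded M) (hO : pPrimeCore 2 G = ⊥)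
    (hV : EA 2 V) (h1 : W ≤ M) (h2 : M ≤ NN(W)) (ho : (Nat.card W).Coprime 2) : W = ⊥ := by
  have h4 : H15.Bd.Four (⊤ : Subgroup G) := H17.Be.four_of_rank ⟨V, hV.1.1, hV.1.2, hV.2⟩
  have h0 : M.normalCore = ⊥ := (H15.Bd.se_core hM h4).trans hO
  obtain ⟨Q, h3, h5⟩ := H15.Bd.se_sz hM h4 h0
  obtain ⟨t, ht, htH⟩ := H6.se_exists_ord2_not_mem hM
  have := H15.Bd.faithful_of_core h0
  have e : MulAction.stabilizer G ((1 : G) : G ⧸ M) = M := MulAction.stabilizer_quotient M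
  exact H17.Be.odd_eq_bot (h5 t ht htH).r1 h3 (e.symm ▸ h1) (e.symm ▸ h2) (Nat.coprime_two_right.1 ho)

end H10.Sg
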