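import Cfsg.Agent.H10.SG1

/-!
The normalizer of the closure of an equivariant `2`-signalizer functor.
-/

set_option autoImplicit false
set_option linter.unusedSectionVars false

namespace H10.Sg

open Cfsg H10 Subgroup
open H5 (plOf ppOf oppOf GF)
open scoped commutatorElement

universe u

local notation "C₁(" a ")" => Subgroup.centralizer (Singleton.singleton a : Set _)

variable {G : Type u} [Group G] [Finite G] {θ : G → Subgroup G} {W : Subgroup G}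

theorem adj (h : GF 2 θ) {A B : Subgroup G} (hA : EA 2 A) (hB : EA 2 B) (hc : A ≤ CC(B)) :
    signalizerClosure A θ = signalizerClosure B θ := h.adj hA.1 hA.2 hB.1 hB.2 hc

theorem cl_normal (h : GF 2 θ) {B U : Subgroup G} (hB : EA 3 B) (hU : EA 2 U) (h4 : Nat.card U = 4)
    (hn : B ≤ NN(U)) : signalizerClosure U θ = signalizerClosure B θ := by
  have h1 := hB.inf_CC hU h4 hn
  rw [← adj h h1 hU inf_le_right, adj h h1 (hB.mono (by norm_num)) (inf_le_left.trans hB.le_CC)]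

theorem cl_eq (h : GF 2 θ) {P A B : Subgroup G} (hP : IsPGroup 2 P) (hA : EA 3 A) (hB : EA 3 B)
    (h1 : A ≤ P) (h2 : B ≤ P) : signalizerClosure A θ = signalizerClosure B θ := by
  obtain ⟨U, -, hn, hU, h4⟩ := exists_normal_four hP hA h1
  rw [← cl_normal h hA hU h4 (h1.trans hn), cl_normal h hB hU h4 (h2.trans hn)]

theorem cj_cl (h : GF 2 θ) {A : Subgroup G} (hA : EA 3 A) (g : G) :
    cj g (signalizerClosure A θ) = signalizerClosure (cj g A) θ := h.cj_closure hA.1 hA.2 g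

/-- `W` is the closure of `θ` on some elementary abelian group of order at least `8`. -/
structure Ctx (θ : G → Subgroup G) (W : Subgroup G) : Prop where
  gf : GF 2 θ
  ex : ∃ A, EA 3 A ∧ signalizerClosure A θ = W

theorem Ctx.odd (h : Ctx θ W) : (Nat.card W).Coprime 2 := by
  obtain ⟨A, hA, rfl⟩ := h.ex
  exact (h.gf.mem hA.1 hA.2).cop

theorem Ctx.cj (h : Ctx θ W) (g : G) : Ctx θ (cj g W) := by
  obtain ⟨A, hA, rfl⟩ := h.ex
  exact ⟨h.gf, _, hA.cj g, (cj_cl h.gf hA g).symm⟩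

theorem Ctx.two_le' (h : Ctx θ W) {P B : Subgroup G} (hP : IsPGroup 2 P) (hB : EA 3 B)
    (hBP : B ≤ P) (e : signalizerClosure B θ = W) : P ≤ NN(W) := fun t ht => by
  rw [mem_NN, ← e, cj_cl h.gf hB, cl_eq h.gf hP (hB.cj t) hB (cj_le_of_mem ht hBP) hBP]

theorem Ctx.exM (h : Ctx θ W) : ∃ A, EA 3 A ∧ A ≤ NN(W) := by
  obtain ⟨A, hA, e⟩ := h.ex
  exact ⟨A, hA, h.two_le' hA.two hA le_rfl e⟩

theorem Ctx.eq (h : Ctx θ W) {B : Subgroup G} (hB : EA 3 B) (hM : B ≤ NN(W)) :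
    signalizerClosure B θ = W := by
  obtain ⟨A, hA, e⟩ := h.ex
  obtain ⟨S, hS, hAS⟩ := exists_isSylowIn_ge hA.two (h.two_le' hA.two hA le_rfl e)
  obtain ⟨m, hm, h1⟩ := hS.exists_cj_le hB.two hM
  have := cl_eq h.gf hS.isPGroup (hB.cj m) hA h1 hAS
  rw [e, ← cj_cl h.gf hB, cj_eq_iff] at this
  rw [this, cj_eq_of_mem_NN (inv_mem hm)]

theorem Ctx.two_le (h : Ctx θ W) {P B : Subgroup G} (hP : IsPGroup 2 P) (hB : EA 3 B)
    (hBP : B ≤ P) (hM : B ≤ NN(W)) : P ≤ NN(W) := h.two_le' hP hB hBP (h.eq hB hM)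

theorem Ctx.mem (h : Ctx θ W) {B : Subgroup G} (hB : EA 3 B) (hM : B ≤ NN(W)) {g : G}
    (hg : H10.cj g B ≤ NN(W)) : g ∈ NN(W) := by
  rw [mem_NN, ← h.eq (hB.cj g) hg, ← cj_cl h.gf hB, h.eq hB hM]
  exact congrArg _ ((h.eq (hB.cj g) hg).symm.trans ((cj_cl h.gf hB g).symm.trans
    (congrArg _ (h.eq hB hM)))).symm

theorem Ctx.eq_four (h : Ctx θ W) {B V : Subgroup G} (hB : EA 3 B) (hM : B ≤ NN(W)) (hV : EA 2 V)
    (hVB : V ≤ B) : signalizerClosure V θ = W :=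
  (adj h.gf hV (hB.mono (by norm_num)) (hVB.trans hB.le_CC)).trans (h.eq hB hM)

theorem Ctx.eqv (h : Ctx θ W) {B : Subgroup G} (hB : EA 3 B) {x : G} (hx : x ∈ B) (h1 : x ≠ 1)
    (g : G) : θ (g * x * g⁻¹) = H10.cj g (θ x) := h.gf.eqv B hB.1 hB.2 x hx h1 g

theorem Ctx.NN_four (h : Ctx θ W) {B V : Subgroup G} (hB : EA 3 B) (hM : B ≤ NN(W)) (hV : EA 2 V)
    (hVB : V ≤ B) : NN(V) ≤ NN(W) := by
  rw [← h.eq_four hB hM hV hVB]
  exact H5.normalizer_le_normalizer_sigClosure fun a ha h1 g => h.eqv hB (hVB ha) h1 g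

theorem Ctx.th_le (h : Ctx θ W) {B : Subgroup G} (hB : EA 3 B) (hM : B ≤ NN(W)) {x : G}
    (hx : x ∈ B) (h1 : x ≠ 1) : θ x ≤ W := h.eq hB hM ▸ H5.le_sigClosure' hx h1

theorem Ctx.inf_eq (h : Ctx θ W) {B : Subgroup G} (hB : EA 3 B) (hM : B ≤ NN(W)) {x : G}
    (hx : x ∈ B) (h1 : x ≠ 1) : W ⊓ C₁(x) = θ x :=
  le_antisymm (h.eq hB hM ▸ (h.gf.mem hB.1 hB.2).le x hx h1)
    (le_inf (h.th_le hB hM hx h1) ((h.gf.sf B hB.1 hB.2).le_cent x hx h1))

theorem Ctx.cj_th (h : Ctx θ W) {B : Subgroup G} (hB : EA 3 B) {x : G} (hx : x ∈ B) (h1 : x ≠ 1)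
    {c : G} (hc : c ∈ C₁(x)) : H10.cj c (θ x) = θ x := by
  rw [← h.eqv hB hx h1, mem_C1.1 hc, mul_inv_cancel_right]

theorem conj_eq_of {y n : G} (h : n ∈ C₁(y)) : n * y * n⁻¹ = y := by
  rw [mem_C1.1 h, mul_inv_cancel_right]

theorem mem_C1_of {y n : G} (h : n * y * n⁻¹ = y) : n ∈ C₁(y) :=
  mem_C1.2 (mul_inv_eq_iff_eq_mul.1 h)

theorem ord_conj (g y : G) : orderOf (g * y * g⁻¹) = orderOf y :=
  (MulAut.conj g).orderOf_eq y

theorem mem_four {U : Subgroup G} (hU : EA 2 U) (h4 : Nat.card U = 4) {z u w : G} (hz : z ∈ U)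
    (hu : u ∈ U) (hw : w ∈ U) (z1 : z ≠ 1) (huz : u ∉ zpowers z) :
    w ∈ zpowers z ∨ w * u ∈ zpowers z := by
  have h1 : (zpowers z).relIndex U = 2 := by
    have := card_mul_relIndex (zpowers_le.2 hz)
    rw [Nat.card_zpowers, hU.ord hz z1, h4] at this
    omega
  by_cases e : w ∈ zpowers z
  · exact Or.inl e
  · have := (mul_mem_iff_of_index_two (H := (zpowers z).subgroupOf U) h1
      (a := ⟨w, hw⟩) (b := ⟨u, hu⟩)).2 (iff_of_false e huz)
    exact Or.inr this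

/-- An involution with a small centralizer. -/
theorem small_cent {S U : Subgroup G} (hS : IsPGroup 2 S) (hU : EA 2 U) (h4 : Nat.card U = 4)
    (hUS : U ≤ S) (hn : S ≤ NN(U)) {y z : G} (hy : orderOf y = 2) (hyS : y ∈ S) (hz : z ∈ U)
    (z1 : z ≠ 1) (hzS : S ≤ C₁(z)) (hyU : y ∉ CC(U))
    (hP : S ⊓ C₁(y) ≤ zpowers y ⊔ zpowers z) : S = U ⊔ zpowers y := by
  obtain ⟨u, hu, huy⟩ : ∃ u ∈ U, u * y ≠ y * u := by
    by_contra! hc
    exact hyU (mem_CC.2 hc)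
  have hyz : z * y = y * z := (mem_C1.1 (hzS hyS)).symm
  have hz2 := hU.ord hz z1
  have key : ∀ w ∈ U, w * y = y * w → w ∈ zpowers z := fun w hw e => by
    have huz : u ∉ zpowers z := fun hh => by
      rcases (mem_zp hz2).1 hh with rfl | rfl
      exacts [huy (by simp), huy hyz]
    refine (mem_four hU h4 hz hw hu z1 · |>.elim (absurd · huz) fun hh => ?_) |> by_contra
    · rcases (mem_zp hz2).1 hh with e' | e'
      · exact huy (by rw [eq_inv_of_mul_eq_one_left e']; exact (Commute.inv_left e).eq)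
      · exact huy (by
          rw [eq_mul_inv_of_mul_eq e']
          exact (Commute.mul_left hyz (Commute.inv_left e)).eq)
  have hD : U ⊔ zpowers y ≤ S := sup_le hUS (zpowers_le.2 hyS)
  have hyN : zpowers y ≤ NN(U) := (zpowers_le.2 hyS).trans hn
  have conj : ∀ n ∈ S, n * y * n⁻¹ ∈ U ⊔ zpowers y → n * y * n⁻¹ = y ∨ n * y * n⁻¹ = z * y := by
    intro n hnS hh
    obtain ⟨w, hw, b, hb, e⟩ := (mem_sup_of_NN' hyN).1 hh
    rcases (mem_zp hy).1 hb with rfl | rfl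
    · refine absurd (hU.le_CC ?_) hyU
      have := conj_mem_of_mem_NN' (hn hnS) hw
      rw [mul_one] at e
      rw [e] at this
      simpa [mul_assoc] using this
    · have h2 : (w * b) * (w * b) = 1 := by
        rw [e]
        calc _ = n * (b * b) * n⁻¹ := by group
          _ = 1 := by rw [H6.ord2_mul_self hy]; group
      have h3 : w * b = b * w := by
        have := eq_inv_of_mul_eq_one_left h2
        rwa [mul_inv_rev, H6.ord2_inv hy, inv_eq_of_mul_eq_one_left (hU.sq hw)] at this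
      rcases (mem_zp hz2).1 (key w hw h3) with rfl | rfl
      exacts [Or.inl (by rw [← e, one_mul]), Or.inr e.symm]
  have hP' : S ⊓ C₁(y) ≤ U ⊔ zpowers y :=
    hP.trans (sup_le le_sup_right (le_sup_of_le_left (zpowers_le.2 hz)))
  by_contra hne
  obtain ⟨n, hnS, hn1, hn2⟩ := H6.exists_mem_normalizer_of_lt hS (lt_of_le_of_ne hD (Ne.symm hne))
  have hyD : y ∈ U ⊔ zpowers y := mem_sup_right (mem_zpowers y)
  rcases conj n hnS (conj_mem_of_mem_NN hn2 hyD) with e | e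
  · exact hn1 (hP' ⟨hnS, mem_C1_of e⟩)
  rcases conj u (hUS hu) (mul_mem (mul_mem (mem_sup_left hu) hyD) (inv_mem (mem_sup_left hu)))
    with e' | e'
  · exact huy (mem_C1.1 (mem_C1_of e'))
  have : u⁻¹ * n ∈ S ⊓ C₁(y) := ⟨S.mul_mem (S.inv_mem (hUS hu)) hnS, mem_C1_of (by
    calc _ = u⁻¹ * (n * y * n⁻¹) * u := by group
      _ = y := by rw [e, ← e']; group)⟩
  exact hn1 (by simpa using mul_mem (mem_sup_left hu : u ∈ U ⊔ zpowers y) (hP' this))

/-- Every involution of `N(W)` lies in an elementary abelian subgroup of order 8 of `N(W)`. -/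
theorem Ctx.good (h : Ctx θ W) (h8 : ∀ t : G, orderOf t = 2 → ∃ B, EA 3 B ∧ t ∈ B)
    (hC : ∀ B, EA 3 B → B ≤ NN(W) → ∀ x ∈ B, x ≠ 1 → C₁(x) ≤ NN(W)) {y : G}
    (hy : orderOf y = 2) (hyM : y ∈ NN(W)) : ∃ B, EA 3 B ∧ B ≤ NN(W) ∧ y ∈ B := by
  by_contra hbad
  have bad : ∀ B, EA 3 B → B ≤ NN(W) → ¬ B ≤ C₁(y) := fun B hB h1 h2 => by
    by_cases e : y ∈ B
    · exact hbad ⟨B, hB, h1, e⟩
    · exact hbad ⟨_, (hB.succ (H6.ord2_mul_self hy) h2 e).mono (by norm_num),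
        sup_le h1 (zpowers_le.2 hyM), mem_sup_right (mem_zpowers y)⟩
  have hyC : zpowers y ≤ C₁(y) := zpowers_le.2 (mem_C1.2 rfl)
  obtain ⟨P, hP, hyP⟩ := exists_isSylowIn_ge (ea_one hy).two (le_inf (zpowers_le.2 hyM) hyC)
  obtain ⟨S, hS, hPS⟩ := exists_isSylowIn_ge hP.isPGroup (hP.le.trans inf_le_left)
  have hPe : S ⊓ C₁(y) = P := hP.eq_of_le (hS.isPGroup.to_le inf_le_left)
    (le_inf hPS (hP.le.trans inf_le_right)) (inf_le_inf_right _ hS.le)
  obtain ⟨A, hA, hAM⟩ := h.exM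
  obtain ⟨m, -, hAS⟩ := hS.exists_cj_le hA.two hAM
  obtain ⟨U, hUS, hn, hU, h4⟩ := exists_normal_four hS.isPGroup (hA.cj m) hAS
  obtain ⟨B, hB, hUB, hBS⟩ := exists_eight (hA.cj m) hAS hU h4 hUS hn
  obtain ⟨z, hz, hzS, hz2⟩ := H5.exists_central_of_isPGroup hS.isPGroup hU.two hn
    (by rintro rfl; simp at h4)
  have z1 := H6.ord2_ne_one hz2
  have hzS' : S ≤ C₁(z) := by rwa [← CC_zpowers, le_CC_comm, zpowers_le]
  have hzM := hC B hB (hBS.trans hS.le) z (hUB hz) z1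
  have hyS : y ∈ S := hPS (hyP (mem_zpowers y))
  have hyU : y ∉ CC(U) := fun e => by
    by_cases e' : y ∈ U
    · exact hbad ⟨B, hB, hBS.trans hS.le, hUB e'⟩
    · exact hbad ⟨_, hU.succ (H6.ord2_mul_self hy) (fun u hu => mem_C1.2 (mem_CC.1 e u hu)) e',
        sup_le (hUS.trans hS.le) (zpowers_le.2 hyM), mem_sup_right (mem_zpowers y)⟩
  have hyz : y ∉ zpowers z := fun e => hyU (hU.le_CC (zpowers_le.2 hz e))
  have hyz' : y * z = z * y := mem_C1.1 (hzS' hyS)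
  have hV : EA 2 (zpowers z ⊔ zpowers y) := (ea_one hz2).succ (H6.ord2_mul_self hy)
    (zpowers_le.2 (mem_C1.2 hyz'.symm)) hyz
  have hVP : zpowers z ⊔ zpowers y ≤ P :=
    sup_le (zpowers_le.2 (hPe.le ⟨hUS hz, mem_C1.2 hyz'.symm⟩)) hyP
  have hPV : P ≤ CC(zpowers z ⊔ zpowers y) := by
    rw [CC_sup, CC_zpowers, CC_zpowers]
    exact le_inf (hPS.trans hzS') (hP.le.trans inf_le_right)
  have inv : ∀ v ∈ P, v * v = 1 → v ∈ zpowers z ⊔ zpowers y := fun v hv e => by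
    by_contra e'
    have := sup_le hVP (zpowers_le.2 hv)
    exact bad _ (hV.succ e (fun a ha => mem_C1.2 (mem_CC.1 (hPV hv) a ha)) e')
      (this.trans (hP.le.trans inf_le_left)) (this.trans (hP.le.trans inf_le_right))
  obtain ⟨T, hT, hPT⟩ := exists_isSylowIn_ge hP.isPGroup (hP.le.trans inf_le_right)
  have hlt : P < T := lt_of_le_of_ne hPT fun e => by
    obtain ⟨E, hE, hyE⟩ := h8 y hy
    obtain ⟨c, -, hc⟩ := hT.exists_cj_le hE.two (hE.le_C1 hyE)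
    rw [← e] at hc
    exact bad _ (hE.cj c) (hc.trans (hP.le.trans inf_le_left)) (hc.trans (hP.le.trans inf_le_right))
  obtain ⟨g, hgT, hgP, hgN⟩ := H6.exists_mem_normalizer_of_lt hT.isPGroup hlt
  have hgz : g * z * g⁻¹ ≠ z := fun e => hgP ((hP.le_of_le_NN (P := zpowers g)
    (hT.isPGroup.to_le (zpowers_le.2 hgT)) (zpowers_le.2 ⟨hzM (mem_C1_of e), hT.le hgT⟩)
    (zpowers_le.2 hgN)) (mem_zpowers g))
  have split : ∀ v ∈ P, v ∈ CC(U) ∨ v * y ∈ CC(U) := fun v hv => by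
    have h1 := H2.relIndex_cent_dvd_of_pgroup (p := 2) hU.two h4.le hS.isPGroup hn
    have h2 : CC(U).relIndex S = 2 := by
      refine ((Nat.dvd_prime Nat.prime_two).1 h1).resolve_left fun e => hyU ?_
      exact relIndex_eq_one.1 e hyS
    by_cases e : v ∈ CC(U)
    · exact Or.inl e
    · exact Or.inr ((mul_mem_iff_of_index_two (H := CC(U).subgroupOf S) h2
        (a := ⟨v, hPS hv⟩) (b := ⟨y, hyS⟩)).2 (iff_of_false e hyU))
  have invK : ∀ v ∈ P, v ∈ CC(U) → v * v = 1 → v ∈ zpowers z := fun v hv e1 e2 => by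
    obtain ⟨a, ha, b, hb, rfl⟩ := (mem_sup_of_NN (H := zpowers z)
      (le_sup_left.trans (hV.le_CC.trans ((CC_anti le_sup_right).trans (CC_le_NN _))))).1 (inv v hv e2)
    rcases (mem_zp hy).1 hb with rfl | rfl
    · simpa using ha
    · exact absurd ((mul_mem_cancel_left (hU.le_CC (zpowers_le.2 hz ha))).1 e1) hyU
  have sqK : ∀ v ∈ P, v * v ∈ CC(U) := fun v hv => (split v hv).elim (fun e => mul_mem e e) fun e => by
    have h1 := mem_C1.1 (hP.le hv).2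
    have : v * y * (v * y) = v * v := by
      calc _ = v * (y * v) * y := by group
        _ = v * v * (y * y) := by rw [← h1]; group
        _ = _ := by rw [H6.ord2_mul_self hy, mul_one]
    exact this ▸ mul_mem e e
  have hsq : ∀ v ∈ P, v * v = 1 := by
    by_contra! hc
    obtain ⟨v, hv, v1⟩ := hc
    obtain ⟨k, hk⟩ := isPGroup_iff_mem.1 hP.isPGroup _ (mul_mem hv hv)
    obtain ⟨_, ⟨i, rfl⟩, hs⟩ := H5.exists_orderOf_eq_mem_zpowers hk v1
    have e : ∀ w : G, (w * w) ^ i = w ^ i * w ^ i := fun w => (Commute.refl w).mul_zpow i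
    simp only at hs
    have key : ∀ w ∈ P, orderOf (w * w) = 2 → w * w = z := fun w hw h2 =>
      ((mem_zp hz2).1 (invK _ (mul_mem hw hw) (sqK w hw) (H6.ord2_mul_self h2))).resolve_left
        (H6.ord2_ne_one h2)
    rw [e] at hs
    have h1 := key _ (zpow_mem hv i) hs
    have h2 : g * v ^ i * g⁻¹ * (g * v ^ i * g⁻¹) = g * z * g⁻¹ := by rw [← h1]; group
    exact hgz (h2 ▸ key _ (conj_mem_of_mem_NN hgN (zpow_mem hv i))
      (by rw [h2, ord_conj]; exact hz2))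
  have e := small_cent hS.isPGroup hU h4 hUS hn hy hyS hz z1 hzS' hyU
    (hPe.le.trans fun v hv => sup_comm (zpowers z) _ ▸ inv v hv (hsq v hv))
  have hc := card_sup_mul_card_inf (L := zpowers y) (N := U) ((zpowers_le.2 hyS).trans hn)
  rw [sup_comm, ← e, Nat.card_zpowers, hy, h4] at hc
  have h0 : 0 < Nat.card (zpowers y ⊓ U : Subgroup G) := Nat.card_pos
  have hBe : B = S := H5.eq_of_le_of_card_le hBS (le_trans (by nlinarith) hB.2)
  exact hbad ⟨B, hB, hBS.trans hS.le, hBe ▸ hyS⟩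

/-- The final step of the signalizer functor method. -/
theorem Ctx.eq_bot (h : Ctx θ W) (hO : pPrimeCore 2 G = ⊥)
    (h8 : ∀ t : G, orderOf t = 2 → ∃ B, EA 3 B ∧ t ∈ B)
    (hC : ∀ B, EA 3 B → B ≤ NN(W) → ∀ x ∈ B, x ≠ 1 → C₁(x) ≤ NN(W)) : W = ⊥ := by
  by_cases hM : NN(W) = ⊤
  · exact H5.eq_bot_of_forall_cj hO h.odd fun g => mem_NN.1 (hM ▸ mem_top g)
  obtain ⟨A, hA, hAM⟩ := h.exM
  refine se_odd_bot ⟨hM, ?_, fun g hg => ?_⟩ hO (hA.mono (by norm_num)) (le_NN_self W) le_rfl h.odd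
  · refine even_iff_two_dvd.2 (dvd_card_of_le hA.two ?_ hAM)
    rintro rfl
    simpa using hA.2
  · rw [← Nat.not_even_iff_odd, even_iff_two_dvd]
    intro h2
    obtain ⟨y, ⟨h3, h4⟩, hy⟩ := exists_orderOf_eq_of_dvd h2
    have h5 : g⁻¹ * y * g ∈ NN(W) := mem_cj.1 h4
    have hy' : orderOf (g⁻¹ * y * g) = 2 := by
      rw [← hy, ← ord_conj g⁻¹ y, inv_inv]
    obtain ⟨B, hB, hBM, hyB⟩ := h.good h8 hC hy h3
    obtain ⟨B', hB', hBM', hyB'⟩ := h.good h8 hC hy' h5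
    refine hg (inv_mem_iff.1 (h.mem hB hBM (le_trans ?_ (hC B' hB' hBM' _ hyB' (H6.ord2_ne_one hy')))))
    have := cj_mono g⁻¹ (hB.le_C1 hyB)
    rwa [cj_centralizer_singleton, inv_inv] at this

end H10.Sg
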