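import Cfsg.Agent.H10.SG2
import Cfsg.Agent.H5.Four

/-!
Groups all of whose involution centralizers are `2`-constrained.
-/

set_option autoImplicit false
set_option linter.unusedSectionVars false

namespace H10.Sg

open Cfsg H10 Subgroup
open H5 (plOf ppOf oppOf GF ocore)
open scoped commutatorElement

universe u

local notation "C₁(" a ")" => Subgroup.centralizer (Singleton.singleton a : Set _)

variable {G : Type u} [Group G] [Finite G] {θ : G → Subgroup G} {W : Subgroup G}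

theorem idx_two_comm {T S : Subgroup G} (hTS : T ≤ S) (h2 : T.relIndex S = 2) {x r : G} (hx : x ∈ T)
    (hc : T ≤ C₁(x)) (xx : x * x = 1) (hr : r ∈ S) : ⁅x, r⁆ * ⁅x, r⁆ = 1 ∧ S ≤ C₁(⁅x, r⁆) := by
  have key : ∀ a ∈ S, ∀ b ∈ S, a * b ∈ T ↔ (a ∈ T ↔ b ∈ T) := fun a ha b hb =>
    mul_mem_iff_of_index_two (H := T.subgroupOf S) h2 (a := ⟨a, ha⟩) (b := ⟨b, hb⟩)
  have xi : x⁻¹ = x := inv_eq_of_mul_eq_one_left xx
  have cj : ∀ a ∈ S, ∀ t ∈ T, a * t * a⁻¹ ∈ T := fun a ha t ht => by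
    rw [key _ (mul_mem ha (hTS ht)) _ (inv_mem ha), key _ ha _ (hTS ht), inv_mem_iff]
    tauto
  have e : ⁅x, r⁆ = x * (r * x * r⁻¹) := by rw [commutatorElement_def, xi]; group
  have h1 : r * x * r⁻¹ * x = x * (r * x * r⁻¹) := mem_C1.1 (hc (cj r hr x hx))
  have h3 : T ≤ C₁(⁅x, r⁆) := fun t ht => mem_C1_of (by
    have a1 := conj_eq_of (hc ht)
    have a2 := conj_eq_of (hc (cj _ (inv_mem hr) t ht))
    rw [e]
    calc _ = t * x * t⁻¹ * (r * (r⁻¹ * t * r⁻¹⁻¹ * x * (r⁻¹ * t * r⁻¹⁻¹)⁻¹) * r⁻¹) := by group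
      _ = _ := by rw [a1, a2])
  refine ⟨?_, fun s hs => ?_⟩
  · rw [e]
    calc _ = x * (r * x * r⁻¹ * x) * (r * x * r⁻¹) := by group
      _ = x * x * (r * (x * x) * r⁻¹) := by rw [h1]; group
      _ = 1 := by rw [xx]; group
  by_cases hs' : s ∈ T
  · exact h3 hs'
  by_cases hr' : r ∈ T
  · rw [e, conj_eq_of (hc hr'), xx]
    exact mem_C1.2 (by simp)
  have h4 : r ∈ C₁(⁅x, r⁆) := mem_C1_of (by
    have a1 := conj_eq_of (hc ((key r hr r hr).2 Iff.rfl))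
    rw [e]
    calc _ = r * x * r⁻¹ * (r * r * x * (r * r)⁻¹) := by group
      _ = _ := by rw [a1, h1])
  have := mul_mem (h3 ((key s hs r hr).2 (iff_of_false hs' hr'))) (inv_mem h4)
  simpa using this

theorem mem_pp_of_uniq (hL : ∀ t : G, orderOf t = 2 → plOf 2 C₁(t) = ⊥) {T : Subgroup G} {x u : G}
    (hx : orderOf x = 2) (hT : IsSylowIn 2 T C₁(x)) (hu : orderOf u = 2) (hxT : x ∈ T)
    (hxu : x ∈ C₁(u)) (hi : Nat.card T ≤ 2 * Nat.card (T ⊓ C₁(u) : Subgroup G))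
    (hZ : ∀ v ∈ T ⊓ ppOf 2 C₁(x), v ∈ CC(T ⊓ ppOf 2 C₁(x)) → v * v = 1 → v ∈ zpowers x) :
    x ∈ ppOf 2 C₁(u) := by
  have hZ' : ∀ v ∈ T, v ∈ CC(T) → orderOf v = 2 → v = x := fun v hv h1 h2 =>
    ((mem_zp hx).1 (hZ v ⟨hv, cent_le_pp (hL x hx) hT ⟨hT.le hv, CC_anti inf_le_left h1⟩⟩
      (CC_anti inf_le_left h1) (H6.ord2_mul_self h2))).resolve_left (H6.ord2_ne_one h2)
  have hTs : IsSylowIn 2 T ⊤ := by
    obtain ⟨S, hS, hTS⟩ := exists_isSylowIn_ge hT.isPGroup le_top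
    obtain ⟨z, hz, hzS, hz2⟩ := H5.exists_central_of_isPGroup hS.isPGroup hS.isPGroup
      (le_NN_self S) (by rintro rfl; exact H6.ord2_ne_one hx (hTS hxT))
    have h1 : S ⊓ C₁(x) = T := hT.eq_of_le (hS.isPGroup.to_le inf_le_left) (le_inf hTS hT.le)
      inf_le_right
    have h2 := hZ' z (h1.le ⟨hz, mem_C1.2 (mem_CC.1 hzS x (hTS hxT)).symm⟩) (CC_anti hTS hzS) hz2
    have h3 : S ≤ C₁(x) := fun s hs => mem_C1.2 (h2 ▸ mem_CC.1 hzS s hs)
    rwa [← h1, inf_eq_left.2 h3]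
  obtain ⟨S, hS, hTS⟩ := exists_isSylowIn_ge (hT.isPGroup.to_le (inf_le_left (b := C₁(u))))
    inf_le_right
  refine mem_pp (Z := zpowers u) (hL u hu) hS (CC_zpowers u).ge (hTS ⟨hxT, hxu⟩) fun r hr => ?_
  rcases hTS.eq_or_lt with e | hlt
  · rw [← e] at hr
    rw [commutatorElement_eq_one_iff_mul_comm.2 (mem_C1.1 (hT.le hr.1.1)).symm]
    exact one_mem _
  have h1 := card_mul_relIndex hTS
  have h2 := hTs.card_le hS.isPGroup le_top
  have h3 := card_lt_of_lt hlt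
  have h0 : 0 < Nat.card (T ⊓ C₁(u) : Subgroup G) := Nat.card_pos
  have h4 : (T ⊓ C₁(u)).relIndex S = 2 := by
    have : (T ⊓ C₁(u)).relIndex S ≤ 2 := by nlinarith
    have : ¬ (T ⊓ C₁(u)).relIndex S ≤ 1 := fun h => by nlinarith
    omega
  obtain ⟨g, -, hg⟩ := hTs.exists_cj (isSylowIn_of_card_ge hTs hS.isPGroup le_top (by nlinarith))
  have huS : u ∈ S := hS.le_of_le_NN (P := zpowers u) (ea_one hu).two
    (zpowers_le.2 (mem_C1.2 rfl)) (((CC_zpowers u).symm ▸ hS.le |> le_CC_symm).trans (CC_le_NN _))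
    (mem_zpowers u)
  have cc : ∀ {v : G} {X : Subgroup G}, cj g X ≤ C₁(v) → g⁻¹ * v * g ∈ CC(X) := fun {v X} h =>
    mem_CC.2 fun a ha => by
      have := mem_C1.1 (h (conj_mem_cj ha))
      calc _ = g⁻¹ * (g * a * g⁻¹ * v) * g := by group
        _ = _ := by rw [this]; group
  have h5 : g⁻¹ * u * g = x := hZ' _ (mem_cj.1 (hg ▸ huS)) (cc (hg ▸ hS.le))
    (by rw [← hu, ← ord_conj g⁻¹ u, inv_inv])
  have h6 : u = g * x * g⁻¹ := by rw [← h5]; group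
  have h7 : cj g (T ⊓ ppOf 2 C₁(x)) = S ⊓ ppOf 2 C₁(u) := by
    rw [cj_inf, hg, h6, ← cj_centralizer_singleton]
    exact congrArg _ (H5.cj_ppOf g 2 _)
  obtain ⟨h8, h9⟩ := idx_two_comm hTS h4 ⟨hxT, hxu⟩ (inf_le_left.trans hT.le) (H6.ord2_mul_self hx) hr.1
  have h10 : ⁅x, r⁆ ∈ S ⊓ ppOf 2 C₁(u) := by
    rw [commutatorElement_def, mul_assoc _ x⁻¹, ← mul_assoc]
    exact mul_mem (conj_mem_of_mem_NN (mem_NN_inf (le_NN_self _ (hTS ⟨hxT, hxu⟩))
      (H5.self_le_normalizer_ppOf 2 _ hxu)) hr) (inv_mem hr)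
  have := hZ _ (mem_cj.1 (h7 ▸ h10)) (cc (h7 ▸ inf_le_left.trans h9)) (by
    calc _ = g⁻¹ * (⁅x, r⁆ * ⁅x, r⁆) * g := by group
      _ = 1 := by rw [h8]; group)
  rw [h6, ← cj_zpowers]
  exact mem_cj.2 this

theorem Ctx.cent_le (h : Ctx ocore W) (hL : ∀ t : G, orderOf t = 2 → plOf 2 C₁(t) = ⊥)
    (B : Subgroup G) (hB : EA 3 B) (hBM : B ≤ NN(W)) (x : G) (hxB : x ∈ B) (x1 : x ≠ 1) :
    C₁(x) ≤ NN(W) := by
  have hx := hB.ord hxB x1
  have xx := hB.sq hxB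
  obtain ⟨T, hT, hBT⟩ := exists_isSylowIn_ge hB.two (hB.le_C1 hxB)
  have hTM := h.two_le hT.isPGroup hB hBT hBM
  refine (fratt hT).trans (sup_le ((h.th_le hB hBM hxB x1).trans (le_NN_self W)) fun c hc => ?_)
  set R := T ⊓ ppOf 2 C₁(x) with hR
  have hRT : R ≤ T := inf_le_left
  by_cases h8 : ∃ E, EA 3 E ∧ E ≤ R
  · obtain ⟨E, hE, hER⟩ := h8
    exact h.mem hE (hER.trans (hRT.trans hTM)) ((cj_le_of_mem_NN hc.2 hER).trans (hRT.trans hTM))
  have hTR : T ≤ NN(R) := le_NN_inf (le_NN_self T) (hT.le.trans (H5.self_le_normalizer_ppOf 2 _))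
  have hxR : x ∈ R := ⟨hBT hxB, cent_le_pp (hL x hx) hT ⟨mem_C1.2 rfl,
    mem_CC.2 fun a ha => mem_C1.1 (hT.le ha.1)⟩⟩
  obtain ⟨U₀, hU₀T, hn₀, hU₀, h4₀⟩ := exists_normal_four hT.isPGroup hB hBT
  obtain ⟨u, hu, hux⟩ : ∃ u ∈ U₀ ⊓ R, u ∉ zpowers x := by
    by_contra! hh
    have h1 : U₀ ≤ zpowers x := fun t ht => hh t ⟨ht, hU₀T ht, mem_pp (Z := zpowers x) (hL x hx) hT
      (CC_zpowers x).ge (hU₀T ht) fun r hr => hh _ ⟨comm_le_left (hRT.trans hn₀)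
        (commutator_mem_commutator ht hr), comm_le_right (hU₀T.trans hTR)
        (commutator_mem_commutator ht hr)⟩⟩
    have := card_le_of_le h1
    rw [Nat.card_zpowers, hx, h4₀] at this
    omega
  have hU : EA 2 (zpowers x ⊔ zpowers u) := (ea_one hx).succ (hU₀.sq hu.1)
    (zpowers_le.2 (mem_C1.2 (mem_C1.1 (hT.le hu.2.1)).symm)) hux
  set U := zpowers x ⊔ zpowers u with hUe
  have hxU : x ∈ U := mem_sup_left (mem_zpowers x)
  have huU : u ∈ U := mem_sup_right (mem_zpowers u)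
  have hUR : U ≤ R := sup_le (zpowers_le.2 hxR) (zpowers_le.2 hu.2)
  have h4 : Nat.card U = 4 := le_antisymm (by
    by_contra! hh
    exact h8 ⟨U, ⟨hU.1, H5.pow_succ_le_of_lt (k := 2) hU.two hh⟩, hUR⟩) hU.2
  have inv : ∀ v ∈ R, v ∈ CC(U) → v * v = 1 → v ∈ U := fun v hv h1 h2 => by
    by_contra h3
    exact h8 ⟨_, hU.succ h2 (fun a ha => mem_C1.2 (mem_CC.1 h1 a ha)) h3, sup_le hUR (zpowers_le.2 hv)⟩
  have sqc : ∀ g v : G, v * v = 1 → g * v * g⁻¹ * (g * v * g⁻¹) = 1 := fun g v e => by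
    calc _ = g * (v * v) * g⁻¹ := by group
      _ = 1 := by rw [e]; group
  have hn : T ≤ NN(U) := le_NN_of_cj_le fun t ht => by
    rw [hUe, cj_sup, cj_zpowers, cj_zpowers, conj_eq_of (hT.le ht)]
    refine sup_le le_sup_left (zpowers_le.2 (inv _ (conj_mem_of_mem_NN (hTR ht) hu.2) ?_
      (sqc _ _ (hU₀.sq hu.1))))
    rw [hUe, CC_sup, CC_zpowers, CC_zpowers]
    exact ⟨hT.le (mul_mem (mul_mem ht hu.2.1) (inv_mem ht)),
      hU₀.le_C1 hu.1 (conj_mem_of_mem_NN (hn₀ ht) hu.1)⟩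
  obtain ⟨E, hE, hUE, hET⟩ := exists_eight hB hBT hU h4 (hUR.trans hRT) hn
  by_cases hUZ : R ≤ CC(U)
  · refine h.NN_four hE (hET.trans hTM) hU hUE (mem_NN_of_conj_mem fun v hv => ?_)
    have := conj_mem_of_mem_NN hc.2 (hUR hv)
    exact inv _ this (hUZ this) (sqc _ _ (hU.sq hv))
  have hZ : ∀ v ∈ R, v ∈ CC(R) → v * v = 1 → v ∈ zpowers x := fun v hv h1 h2 => by
    by_contra h3
    have hxC : zpowers x ≤ CC(R) := zpowers_le.2 (mem_CC.2 fun a ha => mem_C1.1 (hT.le ha.1))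
    refine hUZ (le_CC_symm fun w hw => ?_)
    rcases mem_four hU h4 hxU (inv v hv (CC_anti hUR h1) h2) hw x1 h3 with e | e
    exacts [hxC e, (mul_mem_cancel_right h1).1 (hxC e)]
  have hW := h.cj c
  have hRW : R ≤ NN(H10.cj c W) := by
    rw [← cj_normalizer, ← cj_eq_of_mem_NN hc.2]
    exact cj_mono c (hRT.trans hTM)
  have h1 : H10.cj c W ⊓ C₁(x) ≤ W := by
    have := congrArg (H10.cj c) (h.inf_eq hB hBM hxB x1)
    rw [cj_inf, cj_eq_of_mem hc.1, h.cj_th hB hxB x1 hc.1] at this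
    exact this.le.trans (h.th_le hB hBM hxB x1)
  have h2 : ∀ v ∈ U, v ∉ zpowers x → H10.cj c W ⊓ C₁(v) ≤ W := fun v hv hvx => by
    have v1 : v ≠ 1 := fun e => hvx (e ▸ one_mem _)
    have hxv : x ∈ C₁(v) := hU.le_C1 hv hxU
    have h3 := mem_pp_of_uniq hL hx hT (hU.ord hv v1) hxR.1 hxv
      ((H5.card_le_mul_inf_centralizer (p := 2) hU.two h4.le hT.isPGroup hn).trans
        (Nat.mul_le_mul_left _ (card_le_of_le (inf_le_inf_left _
          ((CC_anti (zpowers_le.2 hv)).trans (CC_zpowers v).le))))) hZ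
    have ho : (Nat.card (H10.cj c W ⊓ C₁(v) : Subgroup G)).Coprime 2 :=
      H5.coprime_of_le hW.odd inf_le_left
    have hxN : zpowers x ≤ NN(H10.cj c W ⊓ C₁(v)) :=
      zpowers_le.2 (mem_NN_inf (hRW hxR) (le_NN_self _ hxv))
    refine (H1.commutator_sup_centralizer hxN (by rw [Nat.card_zpowers, hx]; exact ho.symm)
      (Or.inl (H5.isSolvable_of_isPGroup (ea_one hx).two))).ge.trans (sup_le ?_ ?_)
    · refine (odd_le_opp ?_ (H5.coprime_of_le ho (comm_le_left hxN))).trans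
        (h.th_le hE (hET.trans hTM) (hUE hv) v1)
      exact (commutator_mono le_rfl (zpowers_le.2 h3)).trans
        (comm_le_right (inf_le_right.trans (H5.self_le_normalizer_ppOf 2 _)))
    · rw [CC_zpowers]
      exact le_trans (inf_le_inf_right _ inf_le_left) h1
  exact mem_NN_of_cj_le (H5.le_of_four xx (hU.sq huU) (hU.comm hxU huU) (hRW hxR) (hRW hu.2) hW.odd
    h1 (h2 u huU hux) (h2 _ (mul_mem hxU huU) fun e => hux ((mul_mem_cancel_left (mem_zpowers x)).1 e)))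

/-- The signalizer functor method for groups which are not of component type. -/
theorem core_eq_bot (hO : pPrimeCore 2 G = ⊥) (hL : ∀ t : G, orderOf t = 2 → plOf 2 C₁(t) = ⊥)
    (h8 : ∀ t : G, orderOf t = 2 → ∃ B, EA 3 B ∧ t ∈ B) {t : G} (ht : orderOf t = 2) :
    ocore t = ⊥ := by
  obtain ⟨B, hB, htB⟩ := h8 t ht
  have h : Ctx ocore _ := ⟨H5.gf_core_of_constrained hL, B, hB, rfl⟩
  exact le_bot_iff.1 ((H5.le_sigClosure' htB (H6.ord2_ne_one ht)).trans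
    (h.eq_bot hO h8 (h.cent_le hL)).le)

end H10.Sg
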