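import Cfsg.Agent.H10.SG3
import Cfsg.Agent.S0111
import Cfsg.Agent.S1292

/-!
Involutions lying in elementary abelian subgroups of order 8; the dichotomy theorem.
-/

set_option autoImplicit false
set_option linter.unusedSectionVars false

namespace H10.Sg

open Cfsg H10 Subgroup
open H5 (plOf ppOf oppOf GF ocore)
open scoped commutatorElement

universe u

local notation "C₁(" a ")" => Subgroup.centralizer (Singleton.singleton a : Set _)

variable {G : Type u} [Group G] [Finite G]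

theorem h8_of_sylow {S : Subgroup G} (hS : IsSylowIn 2 S ⊤)
    (h : ∀ t ∈ S, orderOf t = 2 → ∃ g, ∃ B, EA 3 B ∧ g * t * g⁻¹ ∈ B) (t : G) (ht : orderOf t = 2) :
    ∃ B, EA 3 B ∧ t ∈ B := by
  obtain ⟨g, -, hg⟩ := hS.exists_cj_le (ea_one ht).two le_top
  obtain ⟨k, B, hB, h1⟩ := h _ (hg (conj_mem_cj (mem_zpowers t))) (by rw [ord_conj, ht])
  exact ⟨_, hB.cj (k * g)⁻¹, mem_cj.2 (by convert h1 using 1; group)⟩

theorem eight_of_normal {A : Subgroup G} (hA : EA 3 A) {t : G} (ht : orderOf t = 2)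
    (hn : t ∈ NN(A)) : ∃ B, EA 3 B ∧ t ∈ B ∧ B ≤ A ⊔ zpowers t := by
  by_cases e : t ∈ A
  · exact ⟨A, hA, e, le_sup_left⟩
  have h1 : EA 2 (A ⊓ C₁(t)) := ⟨H5.elemAb_of_le hA.1 inf_le_left,
    H5.four_le_inf_centralizer hA.1 hA.2 (H6.ord2_mul_self ht) hn⟩
  exact ⟨_, h1.succ (H6.ord2_mul_self ht) inf_le_right fun e' => e e'.1,
    mem_sup_right (mem_zpowers t), sup_le_sup_right inf_le_left _⟩

theorem h8_of_normal {S A : Subgroup G} (hS : IsSylowIn 2 S ⊤) (hA : EA 3 A) (hn : S ≤ NN(A)) :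
    ∀ t : G, orderOf t = 2 → ∃ B, EA 3 B ∧ t ∈ B :=
  h8_of_sylow hS fun t ht h2 => by
    obtain ⟨B, hB, h1, -⟩ := eight_of_normal hA h2 (hn ht)
    exact ⟨1, B, hB, by simpa using h1⟩

theorem exists_eight_le {S : Subgroup G} (hS : IsSylowIn 2 S ⊤) (h3 : ¬ PRankLE 2 2 G) :
    ∃ A, EA 3 A ∧ A ≤ S := by
  obtain ⟨A, hA⟩ := H5.not_pRankLE_iff_top.1 h3
  obtain ⟨g, -, hg⟩ := hS.exists_cj_le (EA.two hA) le_top
  exact ⟨_, EA.cj hA g, hg⟩

theorem eight_of_conn {S A V : Subgroup G} (hc : IsFourConnected S) (hA : EA 3 A) (hAS : A ≤ S)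
    (hV : EA 2 V) (hVS : V ≤ S) : ∃ B, EA 3 B ∧ V ≤ B ∧ B ≤ S := by
  by_cases h8 : 2 ^ 2 < Nat.card V
  · exact ⟨V, ⟨hV.1, H5.pow_succ_le_of_lt hV.two h8⟩, le_rfl, hVS⟩
  have hK : IsKleinFour V := H6.isKleinFour_of_card (le_antisymm (not_lt.1 h8) hV.2)
    fun _ hx => hV.sq hx
  obtain ⟨U, hUA, hU⟩ := H5.exists_kleinFour_le hA.1 (hA.mono (l := 2) (by norm_num)).2
  obtain ⟨V, rfl⟩ := H5.exists_map_subtype hVS
  obtain ⟨U, rfl⟩ := H5.exists_map_subtype (hUA.trans hAS)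
  have hi := S.subtype_injective
  have := hc V U ((H5.kleinFour_map_iff hi).1 hK) ((H5.kleinFour_map_iff hi).1 hU)
  clear hK h8 hV hVS
  induction this using Relation.ReflTransGen.head_induction_on with
  | refl => exact ⟨A, hA, hUA, hAS⟩
  | @head V V' h _ ih =>
    have h1 : EA 2 _ := H5.elemAb_of_kleinFour ((H5.kleinFour_map_iff hi).2 h.1)
    have h2 : EA 2 _ := H5.elemAb_of_kleinFour ((H5.kleinFour_map_iff hi).2 h.2.1)
    by_cases e : V'.map S.subtype ≤ V.map S.subtype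
    · obtain ⟨B, hB, h3, h4⟩ := ih
      refine ⟨B, hB, (H5.eq_of_le_of_card_le e ?_).ge.trans h3, h4⟩
      rw [card_map_subtype, card_map_subtype, h.1.card_four, h.2.1.card_four]
    · obtain ⟨_, ⟨x, hx, rfl⟩, hxV⟩ := SetLike.not_le_iff_exists.1 e
      refine ⟨_, h1.succ (h2.sq ⟨x, hx, rfl⟩) ?_ hxV, le_sup_left,
        sup_le (map_subtype_le _) (zpowers_le.2 x.2)⟩
      rintro _ ⟨a, ha, rfl⟩
      exact mem_C1.2 (congrArg Subtype.val (h.2.2 a ha x hx))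

theorem eight_of_conn' {S A : Subgroup G} (hS : IsPGroup 2 S) (hc : IsFourConnected S) (hA : EA 3 A)
    (hAS : A ≤ S) {t : G} (htS : t ∈ S) (ht : orderOf t = 2) : ∃ B, EA 3 B ∧ t ∈ B ∧ B ≤ S := by
  obtain ⟨V, h1, h2, h3, h4⟩ := H5.exists_four_mem hS
    (H5.not_pRankLE_iff.2 ⟨A, hAS, hA.mono (by norm_num)⟩) htS ht
  obtain ⟨B, hB, h5, h6⟩ := eight_of_conn hc hA hAS ⟨h2, h3⟩ h1
  exact ⟨B, hB, h5 h4, h6⟩

theorem h8_of_conn {S : Subgroup G} (hS : IsSylowIn 2 S ⊤) (hc : IsFourConnected S)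
    (h3 : ¬ PRankLE 2 2 G) : ∀ t : G, orderOf t = 2 → ∃ B, EA 3 B ∧ t ∈ B :=
  h8_of_sylow hS fun t ht h2 => by
    obtain ⟨A, hA, hAS⟩ := exists_eight_le hS h3
    obtain ⟨B, hB, h1, -⟩ := eight_of_conn' hS.isPGroup hc hA hAS ht h2
    exact ⟨1, B, hB, by simpa using h1⟩

theorem h8_of_index (hO2 : ∀ N : Subgroup G, N.Normal → N.index ≠ 2) (h3 : ¬ PRankLE 2 2 G) :
    ∀ t : G, orderOf t = 2 → ∃ B, EA 3 B ∧ t ∈ B := by
  obtain ⟨S⟩ : Nonempty (Sylow 2 G) := inferInstance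
  have hS := isSylowIn_top S
  obtain ⟨A, hA, hAS⟩ := exists_eight_le hS h3
  obtain ⟨U, hUS, hn, hU, h4⟩ := exists_normal_four hS.isPGroup hA hAS
  obtain ⟨B, hB, hUB, -⟩ := exists_eight hA hAS hU h4 hUS hn
  have key : ∀ t ∈ CC(U), orderOf t = 2 → ∃ B, EA 3 B ∧ t ∈ B := fun t ht h2 => by
    by_cases e : t ∈ U
    · exact ⟨B, hB, hUB e⟩
    · exact ⟨_, hU.succ (H6.ord2_mul_self h2) (fun u hu => mem_C1.2 (mem_CC.1 ht u hu)) e,
        mem_sup_right (mem_zpowers t)⟩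
  refine h8_of_sylow hS fun t ht h2 => ?_
  by_cases e : t ∈ CC(U)
  · obtain ⟨B, hB, h1⟩ := key t e h2
    exact ⟨1, B, hB, by simpa using h1⟩
  have h1 := H2.relIndex_cent_dvd_of_pgroup (p := 2) hU.two h4.le hS.isPGroup hn
  have h5 : CC(U).relIndex S = 2 :=
    ((Nat.dvd_prime Nat.prime_two).1 h1).resolve_left fun e' => e (relIndex_eq_one.1 e' ht)
  rcases Cfsg.Agent.S0111.result S (CC(U) ⊓ S) inf_le_right (by rwa [inf_relIndex_right]) t h2 ht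
    (fun e' => e e'.1) with ⟨M, h6, h7, -⟩ | ⟨g, hg⟩
  · exact absurd h7 (hO2 M h6)
  · exact ⟨g, key _ hg.1 (by rw [ord_conj, h2])⟩

theorem plOf_of_not_comp (hc : ¬ IsComponentType G) (t : G) (ht : orderOf t = 2) :
    plOf 2 C₁(t) = ⊥ := by
  have h1 : layer (C₁(t) ⧸ pPrimeCore 2 C₁(t)) = ⊥ :=
    sSup_eq_bot.2 fun K hK => absurd ⟨t, ht, K, hK⟩ hc
  rw [← H5.map_pLayer_mk', Subgroup.map_eq_bot_iff, QuotientGroup.ker_mk'] at h1
  exact H5.plOf_eq_bot_iff.2 fun L hL => hL.not_le_oppOf _ (hL.le_plOf.trans (map_mono h1))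

theorem char_two (hO : oddCore G = ⊥) (hc : ¬ IsComponentType G) (he : Even (Nat.card G))
    (h8 : ∀ t : G, orderOf t = 2 → ∃ B, EA 3 B ∧ t ∈ B) : IsCharacteristicTwoType G := by
  refine ⟨he, fun T hT h1 => H5.fstar_eq_pCore_iff_centralizer.1
    (Cfsg.Agent.S1292.result (fun t ht => ?_) T hT h1)⟩
  have h2 := core_eq_bot hO (plOf_of_not_comp hc) h8 ht
  rw [H5.fstar_eq_pCore_iff_of, H5.fstarOf_eq_opOf_iff, ← H5.plOf_eq_layerOf h2]
  exact ⟨plOf_of_not_comp hc t ht, h2⟩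

theorem even_of_rank (h3 : ¬ PRankLE 2 2 G) : Even (Nat.card G) := by
  obtain ⟨A, hA⟩ := H5.not_pRankLE_iff_top.1 h3
  have := dvd_card_of_le (L := ⊤) (EA.two hA) (by rintro rfl; simpa using hA.2) le_top
  rwa [card_top, ← even_iff_two_dvd] at this

theorem core_bot_of_simple [IsSimpleGroup G] (he : Even (Nat.card G)) : pPrimeCore 2 G = ⊥ := by
  refine (IsSimpleGroup.eq_bot_or_eq_top_of_normal _ inferInstance).resolve_right fun e => ?_
  have := H5.coprime_card_oppOf 2 (⊤ : Subgroup G)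
  rw [H5.oppOf_top, e, card_top, Nat.coprime_two_right, ← Nat.not_even_iff_odd] at this
  exact this he

end H10.Sg
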