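import Cfsg.Agent.H10.N9
import Cfsg.Agent.H1.Rk1
import Cfsg.Agent.H12.ES3
import Cfsg.Agent.S3807
import Cfsg.Agent.S0130
import Cfsg.Agent.S0094

/-!
Special `2`-groups without normal elementary abelian subgroups of order `8`.
-/

set_option autoImplicit false

namespace H10
namespace Sc

open Cfsg Subgroup N8
open scoped commutatorElement

variable {P : Type*} [Group P] [Finite P]

local notation "Q8" => QuaternionGroup 2

theorem h01 : ∀ a : ZMod 2, a = 0 ∨ a = 1 := by decide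

omit [Finite P] in
theorem cz (hc : commutator P ≤ center P) (a b g : P) : g * ⁅a, b⁆ = ⁅a, b⁆ * g :=
  mem_center_iff.1 (hc (commutator_mem_commutator (mem_top a) (mem_top b))) g

omit [Finite P] in
theorem cl (hc : commutator P ≤ center P) (a b c : P) : ⁅a * b, c⁆ = ⁅a, c⁆ * ⁅b, c⁆ := by
  calc ⁅a * b, c⁆ = a * ⁅b, c⁆ * a⁻¹ * ⁅a, c⁆ := by simp only [commutatorElement_def]; group
    _ = _ := by rw [cz hc b c a, mul_inv_cancel_right, cz hc a c]

omit [Finite P] in
theorem cr (hc : commutator P ≤ center P) (a b c : P) : ⁅a, b * c⁆ = ⁅a, b⁆ * ⁅a, c⁆ := by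
  calc ⁅a, b * c⁆ = ⁅a, b⁆ * (b * ⁅a, c⁆ * b⁻¹) := by simp only [commutatorElement_def]; group
    _ = _ := by rw [cz hc a c b, mul_inv_cancel_right]

theorem cw (hc : commutator P ≤ center P) (he : ∀ z ∈ center P, z ^ 2 = 1)
    (hs : ∀ x : P, x ^ 2 ∈ center P) (hi : ∀ x : P, x ^ 2 = 1 → x ∈ center P) :
    (center P).index ≤ Nat.card (center P) ^ 2 := by
  by_contra hlt
  have hsq : ∀ x y : P, (x * y) ^ 2 = x ^ 2 * y ^ 2 * ⁅x⁻¹, y⁆ := fun x y => by
    rw [mul_assoc, cz hc]; simp only [commutatorElement_def, sq]; group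
  letI : CommGroup (P ⧸ center P) :=
    { (inferInstance : Group (P ⧸ center P)) with
      mul_comm := by
        intro a b
        obtain ⟨a, rfl⟩ := QuotientGroup.mk_surjective a
        obtain ⟨b, rfl⟩ := QuotientGroup.mk_surjective b
        refine QuotientGroup.eq.2 (hc ?_)
        have := commutator_mem_commutator (mem_top b⁻¹) (mem_top a⁻¹)
        simpa [commutatorElement_def, mul_assoc, _root_.commutator_def] using this }
  letI : CommGroup (center P) := IsMulCommutative.instCommGroup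
  letI : Module (ZMod 2) (Additive (P ⧸ center P)) :=
    AddCommGroup.zmodModule fun x => by
      obtain ⟨a, ha⟩ := QuotientGroup.mk_surjective x.toMul
      show x.toMul ^ 2 = 1
      rw [← ha, ← QuotientGroup.mk_pow, QuotientGroup.eq_one_iff]
      exact hs _
  letI : Module (ZMod 2) (Additive (center P)) :=
    AddCommGroup.zmodModule fun x => Subtype.ext (he _ x.toMul.2)
  let q : Additive (P ⧸ center P) → Additive (center P) := fun x =>
    Quotient.liftOn' x.toMul (fun a : P => Additive.ofMul (⟨a ^ 2, hs _⟩ : center P))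
      (fun a b h => by
      have h' : a⁻¹ * b ∈ center P := QuotientGroup.leftRel_apply.1 h
      congr 2
      have : b = a * (a⁻¹ * b) := by group
      rw [this, (show Commute _ _ from mem_center_iff.1 h' a).mul_pow, he _ h', mul_one])
  have hpol : ∀ a b : P, ((QuadraticMap.polar q (Additive.ofMul (a : P ⧸ center P))
      (Additive.ofMul (b : P ⧸ center P))).toMul : P) = ⁅a⁻¹, b⁆ := fun a b => by
    show (a * b) ^ 2 / a ^ 2 / b ^ 2 = _
    rw [hsq, cz hc, div_eq_mul_inv, div_eq_mul_inv, mem_center_iff.1 (hs b) (a ^ 2)]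
    group
  have q0 : q 0 = 0 := Subtype.ext (one_pow 2)
  obtain ⟨v, hv, hv0⟩ := H1.Rk.cw2 (QuadraticMap.ofPolar (R := ZMod 2) q
    (fun a x => by rcases h01 a with rfl | rfl <;> simp [q0])
    (fun x x' y => by
      obtain ⟨a, ha⟩ := QuotientGroup.mk_surjective x.toMul
      obtain ⟨a', ha'⟩ := QuotientGroup.mk_surjective x'.toMul
      obtain ⟨b, hb⟩ := QuotientGroup.mk_surjective y.toMul
      obtain rfl : x = Additive.ofMul (a : P ⧸ center P) := ha.symm
      obtain rfl : x' = Additive.ofMul (a' : P ⧸ center P) := ha'.symm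
      obtain rfl : y = Additive.ofMul (b : P ⧸ center P) := hb.symm
      refine Subtype.ext ((hpol (a * a') b).trans ?_)
      rw [mul_inv_rev, cl hc, cz hc, ← hpol, ← hpol]; rfl)
    (fun a x y => by rcases h01 a with rfl | rfl <;> simp [q0, QuadraticMap.polar]))
    (not_le.1 hlt)
  obtain ⟨a, ha⟩ := QuotientGroup.mk_surjective v.toMul
  obtain rfl : v = Additive.ofMul (a : P ⧸ center P) := ha.symm
  exact hv ((QuotientGroup.eq_one_iff a).2 (hi a (congrArg Subtype.val hv0)))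

theorem center_CC (H : Subgroup P) : center P ≤ CC(H) := CC_top (G := P) ▸ CC_anti le_top

theorem comm_le_two (hP : IsPGroup 2 P) (h : (center P).index ≤ 4) :
    Nat.card (commutator P) ≤ 2 := by
  by_cases hab : IsMulCommutative P
  · rw [(commutator_eq_bot_iff_center_eq_top P).2 (center_eq_top_iff.2 hab), card_bot]; omega
  obtain ⟨W, h1, -, h2⟩ := exists_step (V := center P) (isPGroup_top_iff.2 hP) le_top fun h =>
    hab (center_eq_top_iff.1 (top_le_iff.1 h))
  have hW := H1.isMulCommutative_of_relIndex_prime (D := center P) (L := W)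
    (le_CC_symm (center_CC W)) (by rw [relIndex_two h1 h2]; norm_num)
  have h3 := W.card_mul_index
  have h4 := (center P).card_mul_index
  have h5 : W.index ≠ 1 := fun e => hab (by
    rw [index_eq_one] at e
    subst e
    exact ⟨⟨fun a b => congrArg Subtype.val (hW.1.1 ⟨a, trivial⟩ ⟨b, trivial⟩)⟩⟩)
  have h6 : (center P).index = 2 * W.index := by
    rw [h2, ← h4] at h3
    exact Nat.eq_of_mul_eq_mul_left Nat.card_pos (by rw [← h3]; ring)
  have h7 : W.index ≠ 0 := index_ne_zero_of_finite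
  have := (Cfsg.Agent.S3807.result 2 hP hab W hW (by omega)).1
  omega

theorem exists_pair (hc : commutator P ≤ center P) (he : ∀ z ∈ center P, z ^ 2 = 1)
    (hs : ∀ x : P, x ^ 2 ∈ center P) (h4 : Nat.card (center P) = 4) (h8 : (center P).index = 8) :
    ∃ x y : P, x * y = y * x ∧ x ∉ center P ∧ y ∉ center P ∧ x * y ∉ center P := by
  classical
  by_contra! H
  let f := QuotientGroup.mk' (center P)
  have f1 : ∀ x, f x = 1 ↔ x ∈ center P := fun x => QuotientGroup.eq_one_iff x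
  have f2 : ∀ u : P ⧸ center P, u * u = 1 := fun u => by
    obtain ⟨a, rfl⟩ := QuotientGroup.mk'_surjective _ u
    rw [← map_mul, ← sq]; exact (f1 _).2 (hs a)
  have f3 : ∀ u v : P ⧸ center P, u * v = 1 ↔ u = v := fun u v => by
    rw [mul_eq_one_iff_eq_inv, inv_eq_of_mul_eq_one_left (f2 v)]
  have f4 : ∀ u v : P ⧸ center P, u * v = v * u := fun u v => by
    rw [← f3, ← inv_eq_of_mul_eq_one_left (f2 (v * u)), mul_inv_rev,
      inv_eq_of_mul_eq_one_left (f2 u), inv_eq_of_mul_eq_one_left (f2 v), f2]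
  have H' : ∀ x y : P, f x ≠ 1 → f y ≠ 1 → f x ≠ f y → ⁅x, y⁆ ≠ 1 := fun x y h1 h2 h3 h =>
    h3 ((f3 _ _).1 (by
      rw [← map_mul, f1]
      exact H x y (commutatorElement_eq_one_iff_mul_comm.1 h) (mt (f1 _).2 h1) (mt (f1 _).2 h2)))
  haveI := Fintype.ofFinite (P ⧸ center P)
  have hx : ∀ s : Finset (P ⧸ center P), s.card < 8 → ∃ x, f x ∉ s := fun s h => by
    obtain ⟨u, -, hu⟩ := Finset.exists_mem_notMem_of_card_lt_card (s := s) (t := Finset.univ) (by
      rwa [Finset.card_univ, ← Nat.card_eq_fintype_card, ← index_eq_card, h8])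
    obtain ⟨a, rfl⟩ := QuotientGroup.mk'_surjective _ u
    exact ⟨a, hu⟩
  obtain ⟨x, h1⟩ := hx {1} (by simp)
  obtain ⟨y, h2⟩ := hx {1, f x} (Finset.card_le_two.trans_lt (by norm_num))
  obtain ⟨w, h3⟩ := hx {1, f x, f y, f x * f y} (Finset.card_le_four.trans_lt (by norm_num))
  simp only [Finset.mem_insert, Finset.mem_singleton, not_or] at h1 h2 h3
  obtain ⟨y1, y2⟩ := h2
  obtain ⟨w1, w2, w3, w4⟩ := h3
  have g1 : f x * f w ≠ 1 := fun h => w2 ((f3 _ _).1 h).symm
  have g2 : f y * f w ≠ 1 := fun h => w3 ((f3 _ _).1 h).symm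
  have g3 : f x ≠ f y * f w := fun h => w4 (by rw [h, f4 (f y), mul_assoc, f2, mul_one])
  have g4 : f x * f w ≠ f y := fun h => w4 (by rw [← h, ← mul_assoc, f2, one_mul])
  have a1 := H' x y h1 y1 (Ne.symm y2)
  have a2 := H' x w h1 w1 (Ne.symm w2)
  have a3 := H' y w y1 w1 (Ne.symm w3)
  have a4 := H' x (y * w) h1 (by rwa [map_mul]) (by rwa [map_mul])
  have a5 := H' (x * w) y (by rwa [map_mul]) y1 (by rwa [map_mul])
  have a6 := H' (x * y) w (by rw [map_mul]; exact fun h => y2 ((f3 _ _).1 h).symm) w1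
    (by rw [map_mul]; exact Ne.symm w4)
  have a7 := H' (x * w) (y * w) (by rwa [map_mul]) (by rwa [map_mul])
    (by rw [map_mul, map_mul]; exact fun h => y2 (mul_right_cancel h).symm)
  rw [cr hc] at a4
  rw [cl hc, ← commutatorElement_inv y w, Ne, mul_inv_eq_one] at a5
  rw [cl hc] at a6
  rw [cl hc, cr hc, cr hc, commutatorElement_self, mul_one, ← commutatorElement_inv y w, Ne,
    mul_inv_eq_one] at a7
  have m : ∀ a b : P, ⁅a, b⁆ ∈ center P := fun a b =>
    hc (commutator_mem_commutator (mem_top a) (mem_top b))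
  have e : ∀ a b c d : P, ⁅a, b⁆ * ⁅c, d⁆ ≠ 1 → ⁅a, b⁆ ≠ ⁅c, d⁆ := fun a b c d h h' =>
    h (by rw [h', ← sq, he _ (m _ _)])
  have hcard : ({1, ⁅x, y⁆, ⁅x, w⁆, ⁅x, y⁆ * ⁅x, w⁆, ⁅y, w⁆} : Finset P).card = 5 := by
    rw [Finset.card_insert_of_notMem, Finset.card_insert_of_notMem, Finset.card_insert_of_notMem,
      Finset.card_pair a7]
    · simp [a1, e _ _ _ _ a6]
    · simp [a2, a5, e _ _ _ _ a4]
    · simp [a1.symm, a2.symm, a3.symm, a4.symm]
  have := Set.ncard_le_ncard (s := (({1, ⁅x, y⁆, ⁅x, w⁆, ⁅x, y⁆ * ⁅x, w⁆, ⁅y, w⁆} : Finset P) :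
    Set P)) (t := center P) (by
      intro g hg
      simp only [Finset.coe_insert, Finset.coe_singleton, Set.mem_insert_iff,
        Set.mem_singleton_iff] at hg
      rcases hg with rfl | rfl | rfl | rfl | rfl
      exacts [one_mem _, m _ _, m _ _, mul_mem (m _ _) (m _ _), m _ _])
  rw [Set.ncard_coe_finset, hcard, ← Nat.card_coe_set_eq] at this
  exact absurd (this.trans_eq h4) (by norm_num)

omit [Finite P] in
theorem three {X B : Subgroup P} (h : ⁅B, X⁆ ≤ CC(X)) : ⁅X, X⁆ ≤ CC(B) :=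
  comm_eq_bot.1 (commutator_commutator_eq_bot_of_rotate
    (by rw [commutator_comm X B]; exact comm_eq_bot.2 h) (comm_eq_bot.2 h))

omit [Finite P] in
theorem elab_zp {t : P} (h : t ^ 2 = 1) : IsElementaryAbelian 2 (zpowers t) :=
  ⟨inferInstance, by
    rintro _ ⟨k, rfl⟩
    rw [← zpow_natCast, ← zpow_mul, mul_comm, zpow_mul, zpow_natCast, h, one_zpow]⟩

theorem alp (hP : IsPGroup 2 P) (V : Subgroup P) (hV : V ≤ center P) (he : ∀ v ∈ V, v ^ 2 = 1)
    (hN : ∀ B : Subgroup P, B.Normal → B ≤ CC(B) → V ≤ B → ∀ t ∈ B, t ^ 2 = 1 → t ∈ V)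
    {t : P} (ht : t ∈ commutator P) (h2 : t ^ 2 = 1) : t ∈ V := by
  have sq4 : ∀ x : P, x ^ 2 = 1 → x ^ 2 ^ 2 = 1 := fun x h => by rw [sq 2, pow_mul, h, one_pow]
  obtain ⟨B, hVB, ⟨hBn, hBa, hBe⟩, hmax⟩ := Finite.exists_le_maximal
    (p := fun B : Subgroup P => B.Normal ∧ IsMulCommutative B ∧ ∀ b ∈ B, b ^ 2 ^ 2 = 1) (a := V)
    ⟨⟨fun v hv g => by rwa [mem_center_iff.1 (hV hv) g, mul_inv_cancel_right]⟩,
      isMulCommutative_iff_le_CC.2 (hV.trans (center_CC V)), fun v hv => sq4 v (he v hv)⟩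
  have hB := isMulCommutative_iff_le_CC.1 hBa
  have h1 : ⁅B, ⊤⁆ ≤ V := commutator_le.2 fun b hb x _ => by
    have h3 : x * b⁻¹ * x⁻¹ ∈ B := hBn.conj_mem _ (inv_mem hb) x
    have h4 : ⁅b, x⁆ = b * (x * b⁻¹ * x⁻¹) := by simp only [commutatorElement_def, mul_assoc]
    refine hN B hBn hB hVB _ (h4 ▸ mul_mem hb h3) ?_
    have h5 := hV (hN B hBn hB hVB _ (pow_mem hb 2) (by rw [← pow_mul]; exact hBe b hb))
    rw [h4, (show Commute b _ from mem_CC.1 (hB h3) b hb).mul_pow, conj_pow, inv_pow,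
      mem_center_iff.1 (inv_mem h5) x, mul_inv_cancel_right, mul_inv_cancel]
  exact hN B hBn hB hVB t (Cfsg.Agent.S0130.result hP 2 (by norm_num) B hBa hBe
    (fun C c1 c2 c3 c4 => le_antisymm (hmax ⟨c1, c2, c3⟩ c4) c4) t
    (three (h1.trans (hV.trans (center_CC ⊤))) ht) (sq4 t h2)) h2

theorem card_inv {V : Subgroup P} (h4 : Nat.card V = 4) (h : ∀ x, x ^ 2 = 1 ↔ x ∈ V) :
    Nat.card {x : P // orderOf x = 2} = 3 := by
  have : {x : P | orderOf x = 2} = (V : Set P) \ {1} := Set.ext fun x => by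
    simp only [Set.mem_ofPred_eq, orderOf_eq_prime_iff, h, Set.mem_sdiff, SetLike.mem_coe,
      Set.mem_singleton_iff]
  change Nat.card {x : P | orderOf x = 2} = 3
  rw [this, Nat.card_coe_set_eq, Set.ncard_sdiff_singleton_of_mem V.one_mem, ← Nat.card_coe_set_eq]
  change Nat.card V - 1 = 3
  rw [h4]

theorem qg11 : Nat.card {x : H12.QG (H12.bMinus 1) // orderOf x = 2} = 11 := by
  rw [Nat.card_congr ((H12.QG.equivProd _).subtypeEquiv (q := fun p =>
    p ≠ (0, 0) ∧ H12.bMinus 1 p.1 p.1 = 0) fun x => by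
      rw [orderOf_eq_prime_iff, H12.QG.sq_eq, and_comm]
      simp [H12.QG.ext_iff, H12.QG.equivProd]), Nat.card_eq_fintype_card]
  simp only [H12.bMinus_apply]
  decide +kernel

theorem fin (hs : IsSpecial 2 P) (hna : ¬ IsMulCommutative P)
    (hN : ∀ B : Subgroup P, B.Normal → IsElementaryAbelian 2 B → Nat.card B ≤ 4)
    (h2 : ∀ M : Subgroup P, M.Characteristic → M.index ≠ 2) (hA : ¬ IsPGroup 2 (MulAut P)) :
    Nonempty (P ≃* Q8) ∨
      (IsSpecial 2 P ∧ Nat.card P = 64 ∧ Nat.card {x : P // orderOf x = 2} = 3 ∧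
        ∀ x : P, orderOf x = 2 → x ∈ center P) ∨
      (IsExtraspecial 2 P ∧ Nat.card P = 32 ∧ Nat.card {x : P // orderOf x = 2} = 11) := by
  have hP := hs.1
  have he := Cfsg.Agent.S0094.result hs
  have hc := hs.2.2.le
  have hsq : ∀ x : P, x ^ 2 ∈ center P := fun x => hs.2.1 ▸ H3.pow_mem_frattini hP x
  have hZ : IsElementaryAbelian 2 (center P) := ⟨inferInstance, he⟩
  have hE : ∀ E : Subgroup P, IsElementaryAbelian 2 E → Nat.card (center P ⊔ E : Subgroup P) ≤ 4 :=
    fun E h => hN _ (normal_of_top_le_NN (le_NN_of_comm_le_left ((commutator_mono le_top le_rfl).trans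
      (hc.trans le_sup_left)))) (elab_sup hZ h (center_CC E))
  have hab : ∀ M : Subgroup P, M ≤ CC(M) → M ≠ ⊤ := by
    rintro _ h rfl
    exact hna ⟨⟨fun a b => mem_CC.1 (h (mem_top b)) a trivial⟩⟩
  obtain ⟨k, hk⟩ := (IsPGroup.iff_card (p := 2)).1 (hP.to_subgroup (center P))
  have hk0 : k ≠ 0 := by
    rintro rfl
    have := hs.2.2.trans (card_eq_one.1 hk)
    exact hna (center_eq_top_iff.1 ((commutator_eq_bot_iff_center_eq_top P).1 this))
  have hk2 : k ≤ 2 := by
    have := hN _ inferInstance hZ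
    rw [hk] at this
    exact (Nat.pow_le_pow_iff_right (by norm_num)).1 (show 2 ^ k ≤ 2 ^ 2 from this)
  rcases (show k = 1 ∨ k = 2 by omega) with rfl | rfl
  · have hx : IsExtraspecial 2 P := ⟨hs, hk⟩
    obtain ⟨n, hn, e⟩ := Cfsg.Agent.S0095.result hx
    rcases (show n = 1 ∨ 2 ≤ n by omega) with rfl | hn2
    · have hne : NE (⊤ : Subgroup P) := fun A _ h1 h8 =>
        absurd (eq_top_of_card_eq A (h8.trans e.symm)) (hab A h1)
      rcases hne.aut (isPGroup_top_iff.2 hP) with h | ⟨-, h⟩ | ⟨⟨f⟩⟩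
      · exact absurd (h.of_equiv (MulAut.congr topEquiv)) hA
      · rw [card_top, e] at h; norm_num at h
      · exact Or.inl ⟨topEquiv.symm.trans f⟩
    have hr : ∀ A : Subgroup P, IsElementaryAbelian 2 A → Nat.card A ≤ 2 ^ 2 := fun A h =>
      (card_le_of_le le_sup_right).trans (hE A h)
    have hm : ¬ ∃ A : Subgroup P, IsElementaryAbelian 2 A ∧ Nat.card A = 2 ^ (n + 1) := by
      rintro ⟨A, h1, h3⟩
      have := hr A h1
      rw [h3, Nat.pow_le_pow_iff_right (by norm_num)] at this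
      omega
    obtain rfl : n = 2 := le_antisymm ((H12.es_rank_minus hx e hm 2).1 fun A h1 h3 =>
      hr A ⟨h1, h3⟩) hn2
    obtain ⟨f⟩ := H12.es_equiv_minus (m := 1) hx e hm
    refine Or.inr (Or.inr ⟨hx, e, ?_⟩)
    rw [← qg11]
    exact Nat.card_congr (f.toEquiv.subtypeEquiv fun x => by
      rw [← f.orderOf_eq x]; rfl)
  have hi : ∀ x : P, x ^ 2 = 1 → x ∈ center P := fun x hx =>
    (H5.eq_of_le_of_card_le (le_sup_left : center P ≤ center P ⊔ zpowers x)
      (hk ▸ hE _ (elab_zp hx))).ge (mem_sup_right (mem_zpowers x))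
  have h1 := cw hc he hsq hi
  obtain ⟨m, hm⟩ := hP.index (center P)
  have h3 : 2 < m := by
    by_contra! h
    have := comm_le_two hP (hm ▸ Nat.pow_le_pow_right (n := 2) (j := 2) (by norm_num) h)
    rw [hs.2.2, hk] at this
    omega
  have h4 : m ≤ 4 := by
    rw [hm, hk, ← pow_mul] at h1
    exact (Nat.pow_le_pow_iff_right (by norm_num)).1 h1
  have hcard := (center P).card_mul_index
  rw [hm, hk] at hcard
  rcases (show m = 3 ∨ m = 4 by omega) with rfl | rfl
  swap
  · exact Or.inr (Or.inl ⟨hs, hcard.symm, card_inv hk fun x => ⟨hi x, he x⟩,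
      fun x hx => hi x (hx ▸ pow_orderOf_eq_one x)⟩)
  exfalso
  obtain ⟨x, y, hxy, hx, hy, hxy'⟩ := exists_pair hc he hsq hk hm
  let f := QuotientGroup.mk' (center P)
  have f1 : ∀ x, f x = 1 ↔ x ∈ center P := fun x => QuotientGroup.eq_one_iff x
  have f2 : ∀ x, x ∉ center P → orderOf (f x) = 2 := fun x h =>
    orderOf_eq_prime (by rw [← map_pow, f1]; exact hsq x) (mt (f1 x).1 h)
  have h5 := (Sg.ea_pair (f2 x hx) (f2 y hy) (fun h => hxy' (by
    rw [← f1, map_mul, h, ← map_mul, ← sq, f1]; exact hsq x))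
    (by rw [← map_mul, hxy, map_mul])).2
  rw [← f.map_zpowers, ← f.map_zpowers, ← Subgroup.map_sup] at h5
  obtain ⟨M, hM, hi2⟩ : ∃ M : Subgroup P, M ≤ CC(M) ∧ M.index = 2 := by
    refine ⟨((zpowers x ⊔ zpowers y).map f).comap f, ?_, ?_⟩
    · have c : zpowers x ≤ CC(zpowers y) := zpowers_le.2 (le_CC_symm (zpowers_le.2
        (mem_CC.2 (by rintro _ ⟨k, rfl⟩; exact (Commute.zpow_left hxy k)))) (mem_zpowers x))
      have d : ∀ x : P, zpowers x ≤ CC(zpowers x) := fun x =>
        isMulCommutative_iff_le_CC.1 inferInstance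
      rw [comap_map_eq, QuotientGroup.ker_mk', CC_sup, CC_sup]
      exact sup_le (le_inf (le_inf (sup_le (d x) (le_CC_symm c)) (sup_le c (d y)))
        (le_CC_symm (center_CC _))) (le_inf (le_inf (center_CC _) (center_CC _)) (center_CC _))
    · rw [index_comap_of_surjective _ (QuotientGroup.mk'_surjective _)]
      have := ((zpowers x ⊔ zpowers y).map f).card_mul_index
      rw [h5, ← index_eq_card, hm] at this
      omega
  refine h2 M (characteristic_iff_map_le.2 fun φ => ?_) hi2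
  by_contra h6
  have h7 : (M.map (φ : P →* P)).index = 2 := by rw [index_map_equiv, hi2]
  have h8 : M.map (φ : P →* P) ≤ CC(M.map (φ : P →* P)) := (map_mono hM).trans (map_CC_le _ _)
  have h9 : M ⊔ M.map (φ : P →* P) = ⊤ := ((H1.eq_or_eq_of_relIndex_prime (D := M) (P := ⊤)
    (by rw [relIndex_top_right, hi2]; norm_num) le_sup_left le_top).resolve_left fun h =>
      h6 (le_sup_right.trans h.le))
  have h10 : M ⊓ M.map (φ : P →* P) ≤ center P := by
    rw [← CC_top, ← h9, CC_sup]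
    exact inf_le_inf hM h8
  have := (index_antitone h10).trans index_inf_le
  rw [hm, hi2, h7] at this
  omega

end Sc
end H10
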