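import Cfsg.Agent.H10.Sc1
import Cfsg.Agent.H1.SmallCrit
import Cfsg.Agent.S1138
import Cfsg.Agent.S3779

/-!
`2`-groups of normal rank at most two with `X = [X, A]` are special.
-/

set_option autoImplicit false

namespace H10
namespace Sc

open Cfsg Subgroup N8
open scoped commutatorElement

universe u

theorem suz {P : Type*} [Group P] [Finite P] (hP : IsPGroup 2 P) (hna : ¬ IsMulCommutative P)
    (φ : MulAut P) (h3 : orderOf φ = 3) (hf : ∀ g, φ g = g → g = 1) {V : Subgroup P}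
    (h4 : Nat.card V = 4) (h : ∀ x, x ^ 2 = 1 ↔ x ∈ V) (x : P) : x * x ∈ center P := by
  have hc := card_inv h4 h
  have e : ∀ x : P, x ≠ 1 → x * x = 1 → orderOf x = 2 := fun x h1 h2 =>
    orderOf_eq_prime (by rwa [sq]) h1
  refine (Cfsg.Agent.S1138.result ⟨inferInstance, hP, ?_, ?_, zpowers φ, inferInstance,
    fun x y h1 h2 h5 h6 => ?_⟩).1 x
  · by_contra! H
    exact hna ⟨⟨H⟩⟩
  · haveI := Finite.one_lt_card_iff_nontrivial.1 (hc ▸ (by norm_num : 1 < 3))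
    obtain ⟨a, b, hab⟩ := exists_pair_ne {x : P // orderOf x = 2}
    have a1 := orderOf_eq_prime_iff.1 a.2
    have b1 := orderOf_eq_prime_iff.1 b.2
    exact ⟨a, b, fun h => hab (Subtype.ext h), a1.2, sq (a : P) ▸ a1.1, b1.2, sq (b : P) ▸ b1.1⟩
  have hk : Nat.card (zpowers φ) = 3 := by rw [Nat.card_zpowers, h3]
  let F : zpowers φ → {x : P // orderOf x = 2} := fun k =>
    ⟨(k : MulAut P) x, by rw [MulEquiv.orderOf_eq, e x h1 h2]⟩
  have hF : Function.Bijective F := (Nat.bijective_iff_injective_and_card F).2 ⟨fun k k' hk' => by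
    by_contra h7
    have h8 : (k'⁻¹ * k : zpowers φ) ∈ (MulAction.stabilizer (MulAut P) x).subgroupOf _ := by
      change (k' : MulAut P)⁻¹ ((k : MulAut P) x) = x
      rw [show (k : MulAut P) x = (k' : MulAut P) x from congrArg Subtype.val hk']
      exact MulAut.inv_apply_self _ _ _
    exact h1 (hf x (zpowers_le.2 h8 (mem_zpowers_of_prime_card (p := 3) hk
      (fun h9 => h7 (inv_mul_eq_one.1 h9).symm) (g' := ⟨φ, mem_zpowers φ⟩)))), by rw [hk, hc]⟩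
  obtain ⟨k, k1, k2⟩ := hF.existsUnique ⟨y, e y h5 h6⟩
  exact ⟨k, congrArg Subtype.val k1, fun k' h => k2 k' (Subtype.ext h)⟩

variable {G : Type u} [Group G] [Finite G]

/-- normal `2`-rank at most two -/
def NR (X : Subgroup G) : Prop :=
  ∀ B ≤ X, X ≤ NN(B) → IsElementaryAbelian 2 B → Nat.card B ≤ 4

theorem NR.inv {X B W : Subgroup G} (h : NR X) (hB : B ≤ X) (hn : X ≤ NN(B)) (hc : B ≤ CC(B))
    (hW : W ≤ B) (hE : IsElementaryAbelian 2 W) (h4 : Nat.card W = 4) {t : G} (ht : t ∈ B)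
    (h2 : t ^ 2 = 1) : t ∈ W :=
  (H5.eq_of_le_of_card_le (show W ≤ ZO 2 B from fun w hw =>
    mem_ZO.2 ⟨hW hw, hc (hW hw), hE.2 w hw⟩) (h4 ▸ h _ ((ZO_le B).trans hB) (le_NN_ZO hn)
      (elab_ZO B))).ge (mem_ZO.2 ⟨ht, hc ht, h2⟩)

theorem NR.inv' {X C Z W : Subgroup G} (h : NR X) (hC : C ≤ X) (hZ : Z ≤ C ⊓ CC(C))
    (hn : X ≤ NN(Z)) (hc : ⁅C, X⁆ ≤ Z) (hW : W ≤ Z) (hE : IsElementaryAbelian 2 W)
    (h4 : Nat.card W = 4) {t : G} (ht : t ∈ C) (h2 : t ^ 2 = 1) : t ∈ W := by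
  have h1 : Z ⊔ zpowers t ≤ C := sup_le (hZ.trans inf_le_left) (zpowers_le.2 ht)
  have h3 : Z ≤ CC(Z ⊔ zpowers t) := hZ.trans (inf_le_right.trans (CC_anti h1))
  refine h.inv (h1.trans hC) (le_NN_of_comm_le_left ((commutator_mono h1 le_rfl).trans
    (hc.trans le_sup_left))) (sup_le h3 ?_) (hW.trans le_sup_left) hE h4
    (mem_sup_right (mem_zpowers t)) h2
  rw [CC_sup]
  exact le_inf (le_CC_symm (h3.trans (CC_anti le_sup_right))) (elab_le_CC (elab_zp h2))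

theorem ne_of_lt {V : Subgroup G} (h : Nat.card V ≤ 4) : NE V := fun A hA _ h8 => by
  have := card_le_of_le hA
  omega

theorem four_of {V A : Subgroup G} (hV : IsPGroup 2 V) (h : Nat.card V ≤ 4) (hn : A ≤ NN(V))
    (hc : (Nat.card A).Coprime 2) (h0 : ¬ A ≤ CC(V)) : Nat.card V = 4 := by
  rcases ((ne_of_lt h).cases hV hn hc).resolve_left h0 with h1 | ⟨⟨e⟩⟩
  · exact h1.2
  · have := q8_card e
    omega

theorem irr {V A U : Subgroup G} (hV : IsElementaryAbelian 2 V) (h4 : Nat.card V = 4)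
    (hn : A ≤ NN(V)) (hc : (Nat.card A).Coprime 2) (h0 : ¬ A ≤ CC(V)) (hU : U ≤ V)
    (hAU : A ≤ NN(U)) (hU0 : U ≠ ⊥) : V ≤ U := by
  have hP := elab_isPGroup hV
  have k : ∀ Y ≤ V, A ≤ NN(Y) → ¬ A ≤ CC(Y) → V ≤ Y := fun Y h5 h6 h7 =>
    (H5.eq_of_le_of_card_le h5 (by
      rw [h4, four_of (hP.to_le h5) (h4 ▸ card_le_of_le h5) h6 hc h7])).ge
  refine k U hU hAU fun h5 => hU0 ?_
  have cop := (coprime_card_of_isPGroup hP hc).symm
  haveI := hV.1
  rw [← le_bot_iff, ← H1.inf_centralizer_inf_commutator_eq_bot hn cop]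
  refine le_inf (le_inf hU (le_CC_symm h5)) (hU.trans (k _ (comm_le_left hn)
    (right_le_NN_comm _ _) fun h7 => h0 ?_))
  exact H1.le_centralizer_of_commutator_commutator_eq_bot hn cop (comm_eq_bot'.2 h7)

theorem NR.cent {X A V : Subgroup G} (h : NR X) (hX : IsPGroup 2 X) (hc : (Nat.card A).Coprime 2)
    (hXA : X ≤ ⁅X, A⁆) [X.Normal] [V.Normal] (hV : V ≤ X) (hE : IsElementaryAbelian 2 V) :
    X ≤ CC(V) := by
  by_cases h0 : A ≤ CC(V)
  · exact hXA.trans ((commutator_mono le_rfl h0).trans (commutator_le_right _ _))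
  have h4 := four_of (hX.to_le hV) (h V hV (le_NN_of_normal _ _) hE) (le_NN_of_normal _ _) hc h0
  rcases (Nat.dvd_prime Nat.prime_two).1 (four_pgroup_relIndex hE h4 hX (le_NN_of_normal _ _))
    with h1 | h1
  · exact relIndex_eq_one.1 h1
  refine hXA.trans (commutator_le.2 fun x hx a _ => ?_)
  have hx' : a * x⁻¹ * a⁻¹ ∈ X := Normal.conj_mem inferInstance _ (inv_mem hx) a
  have := (mul_mem_iff_of_index_two h1 (a := ⟨x, hx⟩) (b := ⟨_, hx'⟩)).2 (by
    change x ∈ CC(V) ↔ a * x⁻¹ * a⁻¹ ∈ CC(V)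
    rw [← inv_mem_iff (x := x)]
    exact ⟨fun h => Normal.conj_mem inferInstance _ h a, fun h => by
      simpa [mul_assoc] using Normal.conj_mem inferInstance _ h a⁻¹⟩)
  simpa [commutatorElement_def, mul_assoc, mem_subgroupOf] using this

omit [Finite G] in
theorem comm_le_ZO {Y : Subgroup G} (hsq : ∀ y ∈ Y, y ^ 2 ∈ CC(Y)) : ⁅Y, Y⁆ ≤ ZO 2 Y :=
  commutator_le.2 fun x hx y hy => by
    have h1 : ⁅x, y⁆ ∈ CC(Y) := by
      rw [show ⁅x, y⁆ = (x * y) ^ 2 * (y⁻¹ * x⁻¹ * y) ^ 2 * y⁻¹ ^ 2 by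
        simp only [commutatorElement_def, sq]; group]
      exact mul_mem (mul_mem (hsq _ (mul_mem hx hy)) (hsq _ (mul_mem (mul_mem (inv_mem hy)
        (inv_mem hx)) hy))) (hsq _ (inv_mem hy))
    refine mem_ZO.2 ⟨commutator_le_self Y (commutator_mem_commutator hx hy), h1, ?_⟩
    rw [← commutator_pow_of_commute (mem_CC.1 h1 x hx), commutatorElement_eq_one_iff_mul_comm]
    exact (mem_CC.1 (hsq x hx) y hy).symm

theorem ab_of {Y A : Subgroup G} (hY : IsPGroup 2 Y) (hsq : ∀ y ∈ Y, y ^ 2 ∈ CC(Y))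
    (h4 : Nat.card (ZO 2 Y) = 4) (hi : ∀ y ∈ Y, y ^ 2 = 1 → y ∈ ZO 2 Y) (hn : A ≤ NN(Y))
    (hc : (Nat.card A).Coprime 2) (h0 : ¬ A ≤ CC(ZO 2 Y)) (hZ : ¬ Y ⊓ CC(Y) ≤ ZO 2 Y) :
    Y ≤ CC(Y) := by
  have hVZ : ZO 2 Y ≤ Y ⊓ CC(Y) := le_inf (ZO_le Y) (ZO_le_CC Y)
  have hcomm := comm_le_ZO hsq
  have hnZ : A ≤ NN(Y ⊓ CC(Y)) := le_NN_inf hn (le_NN_CC hn)
  have cm : ∀ {a b : G}, a ∈ Y → b ∈ CC(Y) → Commute a b := fun ha hb => mem_CC.1 hb _ ha
  let U : Subgroup G :=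
    { carrier := {v | v ∈ ZO 2 Y ∧ ∃ z ∈ Y ⊓ CC(Y), z ^ 2 = v}
      one_mem' := ⟨one_mem _, 1, one_mem _, one_pow 2⟩
      mul_mem' := by
        rintro _ _ ⟨h1, a, ha, rfl⟩ ⟨h2, b, hb, rfl⟩
        exact ⟨mul_mem h1 h2, a * b, mul_mem ha hb, (cm ha.1 hb.2).mul_pow 2⟩
      inv_mem' := by
        rintro _ ⟨h1, a, ha, rfl⟩
        exact ⟨inv_mem h1, a⁻¹, inv_mem ha, inv_pow a 2⟩ }
  have hU : ZO 2 Y ≤ U := irr (elab_ZO Y) h4 (le_NN_ZO hn) hc h0 (fun v hv => hv.1)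
    (fun a ha => mem_NN_of_conj_mem (by
      rintro _ ⟨h1, z, hz, rfl⟩
      exact ⟨(mem_normalizer_iff.1 (le_NN_ZO hn ha) _).1 h1, a * z * a⁻¹,
        (mem_normalizer_iff.1 (hnZ ha) _).1 hz, conj_pow⟩)) (by
      obtain ⟨W, w1, w2, w3⟩ := exists_step (hY.to_le inf_le_left) hVZ hZ
      have w4 := relIndex_two w1 w3
      obtain ⟨w, hw, hw'⟩ := SetLike.not_le_iff_exists.1 (show ¬ W ≤ ZO 2 Y from fun h => by
        have := relIndex_eq_one.2 h
        omega)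
      intro h
      have : w ^ 2 ∈ U := ⟨by rw [sq]; exact sq_mem w4 hw, w, w2 hw, rfl⟩
      exact hw' (hi w (w2 hw).1 (by rwa [h] at this)))
  have key : ∀ y ∈ Y, ∀ y' ∈ Y, y ^ 2 = y' ^ 2 → y * y'⁻¹ ∈ ZO 2 Y := by
    intro y hy y' hy' e
    have hu := mul_mem hy (inv_mem hy')
    have c := hcomm (commutator_mem_commutator (inv_mem hy') hy)
    have e1 : (y * y'⁻¹) ^ 2 = ⁅y'⁻¹, y⁆ := by
      calc (y * y'⁻¹) ^ 2 = y * ⁅y'⁻¹, y⁆ * y * (y' ^ 2)⁻¹ := by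
            simp only [commutatorElement_def, sq]; group
        _ = _ := by rw [(cm hy (hVZ c).2).eq, ← e, sq]; group
    obtain ⟨-, z, hz, e2⟩ := hU c
    have h5 := hVZ (hi _ (mul_mem hu (inv_mem hz.1)) (by
      rw [(cm hu (inv_mem hz.2)).mul_pow, inv_pow, e2, e1, mul_inv_cancel]))
    have h6 : y * y'⁻¹ ∈ CC(Y) := (mul_mem_cancel_right (H := CC(Y)) (inv_mem hz.2)).1 h5.2
    refine hi _ hu ?_
    have := (cm hy' h6).symm.mul_pow 2
    rw [inv_mul_cancel_right, e] at this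
    exact right_eq_mul.1 this
  have hr : ∀ s : G, ∃ r : G, ∀ y ∈ Y, y ^ 2 = s → y * r⁻¹ ∈ ZO 2 Y := fun s => by
    by_cases h : ∃ r ∈ Y, r ^ 2 = s
    · obtain ⟨r, r1, r2⟩ := h
      exact ⟨r, fun y hy e => key y hy r r1 (e.trans r2.symm)⟩
    · exact ⟨1, fun y hy e => absurd ⟨y, hy, e⟩ h⟩
  choose r hr using hr
  have h5 := Nat.card_le_card_of_injective (fun y : Y => ((⟨(y : G) ^ 2, pow_mem y.2 2, hsq _ y.2⟩,
    ⟨y * (r (y ^ 2))⁻¹, hr _ _ y.2 rfl⟩) : (Y ⊓ CC(Y) : Subgroup G) × ZO 2 Y)) fun y y' e => by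
      have e1 : (y : G) ^ 2 = y' ^ 2 := congrArg (fun p => (p.1 : G)) e
      have e2 : (y : G) * (r (y ^ 2))⁻¹ = y' * (r (y' ^ 2))⁻¹ := congrArg (fun p => (p.2 : G)) e
      rw [e1] at e2
      exact Subtype.ext (mul_right_cancel e2)
  rw [Nat.card_prod, h4, ← map_center_subtype, card_map_subtype, ← (center Y).card_mul_index] at h5
  have h6 := comm_le_two hY (Nat.le_of_mul_le_mul_left h5 Nat.card_pos)
  rw [← card_map_subtype, map_subtype_commutator] at h6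
  by_contra h7
  have := card_le_of_le (irr (elab_ZO Y) h4 (le_NN_ZO hn) hc h0 hcomm (le_NN_commutator hn hn)
    fun h => h7 (comm_eq_bot.1 h))
  omega

theorem fix_le_comm {X A M : Subgroup G} [X.Normal] (hX : IsPGroup 2 X)
    (hc : (Nat.card A).Coprime 2) (hXA : X ≤ ⁅X, A⁆) (hM : M ≤ X) (h1 : A ≤ CC(M)) :
    M ≤ ⁅X, X⁆ := by
  have cop := (coprime_card_of_isPGroup hX hc).symm
  let f := QuotientGroup.mk' ⁅X, X⁆
  haveI : IsMulCommutative (X.map f) := isMulCommutative_iff_le_CC.2 (comm_eq_bot.1 (by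
    rw [← map_commutator, Subgroup.map_eq_bot_iff, QuotientGroup.ker_mk']))
  have h2 := H1.inf_centralizer_inf_commutator_eq_bot (V := X.map f) (A := A.map f)
    (map_le_NN_map f (le_NN_of_normal A X))
    ((cop.coprime_dvd_left (card_map_dvd A f)).coprime_dvd_right (card_map_dvd X f))
  rw [← QuotientGroup.ker_mk' ⁅X, X⁆, ← Subgroup.map_eq_bot_iff, ← le_bot_iff, ← h2,
    ← map_commutator]
  exact le_inf (le_inf (map_mono hM) ((map_mono (le_CC_symm h1)).trans (map_CC_le f A)))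
    (map_mono (hM.trans hXA))

theorem cent_of_ZO {Y A : Subgroup G} (hY : IsPGroup 2 Y) (hn : A ≤ NN(Y))
    (hc : (Nat.card A).Coprime 2) (h : A ≤ CC(ZO 2 Y)) : A ≤ CC(Y ⊓ CC(Y)) := by
  have hP := hY.to_le (inf_le_left : Y ⊓ CC(Y) ≤ Y)
  haveI : IsMulCommutative (Y ⊓ CC(Y) : Subgroup G) :=
    isMulCommutative_iff_le_CC.2 (inf_le_right.trans (CC_anti inf_le_left))
  refine H1.le_centralizer_of_prime_order (le_NN_inf hn (le_NN_CC hn))
    (coprime_card_of_isPGroup hP hc).symm fun v hv hp a ha => ?_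
  obtain ⟨k, hk⟩ := hP ⟨v, hv⟩
  have := (Nat.prime_dvd_prime_iff_eq hp Nat.prime_two).1 (hp.dvd_of_dvd_pow
    (orderOf_dvd_of_pow_eq_one (congrArg Subtype.val hk)))
  exact (mem_CC.1 (h ha) v (mem_ZO.2 ⟨hv.1, hv.2, this ▸ pow_orderOf_eq_one v⟩)).symm

theorem NR.special' {X A : Subgroup G} [X.Normal] (h : NR X) (hX : IsPGroup 2 X)
    (hc : (Nat.card A).Coprime 2) (hXA : X ≤ ⁅X, A⁆) (hab : ¬ X ≤ CC(X))
    (hsq : ∀ y ∈ X, y ^ 2 ∈ CC(X)) : IsSpecial 2 X := by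
  have hcomm := comm_le_ZO hsq
  have hVZ : ZO 2 X ≤ X ⊓ CC(X) := le_inf (ZO_le X) (ZO_le_CC X)
  have hn := le_NN_of_normal A X
  refine special_of hX ?_ (frOf_le_of (p := 2) (hcomm.trans hVZ) fun x hx =>
    ⟨pow_mem hx 2, hsq x hx⟩)
  by_cases h0 : A ≤ CC(ZO 2 X)
  · exact fix_le_comm hX hc hXA inf_le_left (cent_of_ZO hX hn hc h0)
  have h4 := four_of (isPGroup_ZO X) (h _ (ZO_le X) (le_NN_ZO (le_NN_self X)) (elab_ZO X))
    (le_NN_ZO hn) hc h0
  refine le_trans ?_ (irr (elab_ZO X) h4 (le_NN_ZO hn) hc h0 hcomm (le_NN_commutator hn hn)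
    fun h => hab (comm_eq_bot.1 h))
  by_contra h5
  exact hab (ab_of hX hsq h4 (fun y hy e => h.inv' le_rfl le_rfl (le_NN_of_normal _ _)
    (hcomm.trans hVZ) hVZ (elab_ZO X) h4 hy e) hn hc h0 h5)

theorem NR.special {X A : Subgroup G} [X.Normal] (h : NR X) (hX : IsPGroup 2 X)
    (hc : (Nat.card A).Coprime 2) (hXA : X ≤ ⁅X, A⁆) (hab : ¬ X ≤ CC(X)) : IsSpecial 2 X := by
  refine h.special' hX hc hXA hab ?_
  obtain ⟨C, hCX, hCn, hCs, hC1, hC2⟩ := H1.exists_critical_amb hX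
  haveI : C.Normal := normal_of_top_le_NN ((le_NN_of_normal ⊤ X).trans hCn)
  by_cases hZ : C ⊓ CC(C) ≤ CC(X)
  · intro x hx
    have : x ^ 2 ∈ CC(C) := mem_CC.2 fun c hc => by
      have h1 := hZ (hC1 (commutator_mem_commutator hc hx))
      have h2 := commutator_pow_of_commute (mem_CC.1 h1 c (hCX hc)) 2
      rw [commutatorElement_eq_one_iff_mul_comm.2
        (mem_CC.1 (hZ ⟨pow_mem hc 2, hCs c hc⟩) x hx).symm] at h2
      have h3 := commutator_pow_of_commute (x := x) (v := c) (by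
        rw [← commutatorElement_inv]; exact mem_CC.1 (inv_mem h1) x hx) 2
      rw [← commutatorElement_inv c x, inv_pow, ← h2, inv_one] at h3
      exact (commutatorElement_eq_one_iff_mul_comm.1 h3).symm
    exact hZ ⟨hC2 ⟨pow_mem hx 2, this⟩, this⟩
  have hPC := hX.to_le hCX
  have hE := elab_ZO (p := 2) C
  have hVZ : ZO 2 C ≤ C ⊓ CC(C) := le_inf (ZO_le C) (ZO_le_CC C)
  haveI : (ZO 2 C).Normal := normal_of_top_le_NN (le_NN_ZO (le_NN_of_normal ⊤ C))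
  have hVX := (ZO_le (p := 2) C).trans hCX
  have hXV := h.cent hX hc hXA hVX hE
  have h0 : ¬ A ≤ CC(ZO 2 C) := fun h1 => hZ (le_CC_symm (hXA.trans ((commutator_mono le_rfl
    (cent_of_ZO hPC (le_NN_of_normal _ _) hc h1)).trans (commutator_le_right _ _))))
  have h4 := four_of (isPGroup_ZO C) (h _ hVX (le_NN_of_normal _ _) hE) (le_NN_of_normal _ _) hc h0
  have hCab := ab_of hPC hCs h4 (fun y hy e => h.inv' hCX le_rfl (le_NN_of_normal _ _) hC1 hVZ hE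
    h4 hy e) (le_NN_of_normal _ _) hc h0 fun h1 => hZ (h1.trans (le_CC_symm hXV))
  have hA0 : A ⊓ CC(ZO 2 C) ≤ CC(X) := by
    have c0 := hc.coprime_dvd_left (card_dvd_of_le (inf_le_left : A ⊓ CC(ZO 2 C) ≤ A))
    have h1 := (cent_of_ZO hPC (le_NN_of_normal _ _) c0 inf_le_right).trans
      (CC_anti (le_inf le_rfl hCab))
    exact H1.le_centralizer_of_commutator_le (N := C) ((le_inf (commutator_le_left _ _)
      ((commutator_mono le_rfl h1).trans (commutator_le_right _ _))).trans hC2) (le_CC_symm h1)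
      (coprime_card_of_isPGroup hPC c0).symm
  generalize ZO 2 C = V at *
  have h3 : CC(V).relIndex A = 3 := by
    have h5 := H6.four_relIndex_dvd (H6.isKleinFour_of_card h4 fun x hx => by
      simpa [sq] using hE.2 x hx) (le_NN_of_normal A V)
    exact ((Nat.dvd_prime Nat.prime_three).1 ((hc.coprime_dvd_left
      (relIndex_dvd_card _ _)).dvd_of_dvd_mul_left h5)).resolve_left fun e =>
        h0 (relIndex_eq_one.1 e)
  obtain ⟨a, ha, ha'⟩ := SetLike.not_le_iff_exists.1 h0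
  have ha3 : a ^ 3 ∈ CC(X) := hA0 ⟨pow_mem ha 3, h3 ▸ pow_relIndex_mem _ ha⟩
  have hgen : A ⊓ CC(V) ⊔ zpowers a = A := (H1.eq_or_eq_of_relIndex_prime (D := A ⊓ CC(V))
    (by rw [inf_relIndex_left, h3]; norm_num) le_sup_left
    (sup_le inf_le_left (zpowers_le.2 ha))).resolve_left fun e =>
      ha' (e.le (mem_sup_right (mem_zpowers a))).2
  have hinv : ∀ t ∈ ⁅X, X⁆, t ^ 2 = 1 → t ∈ V := fun t ht e => by
    have htX := commutator_le_self X ht
    refine alp hX (V.subgroupOf X) (fun v hv => mem_center_iff.2 fun g => Subtype.ext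
      (mem_CC.1 (hXV g.2) v hv).symm) (fun v hv => Subtype.ext (hE.2 v hv))
      (fun B _ b1 b2 s hs e => ?_) (t := ⟨t, htX⟩) ?_ (Subtype.ext e)
    · exact h.inv (map_subtype_le B) (le_NN_map_subtype B) ((map_mono b1).trans (map_CC_le _ _))
        (le_map_subtype_iff.2 ⟨hVX, b2⟩) hE h4 (mem_map_of_mem _ hs) (congrArg Subtype.val e)
    · rw [← map_subtype_commutator] at ht
      obtain ⟨s, hs, rfl⟩ := ht
      exact hs
  have hD : X ⊓ CC(zpowers a) = ⊥ := by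
    by_contra hD
    have h5 : A ≤ CC(X ⊓ CC(zpowers a)) := hgen ▸ sup_le (hA0.trans (CC_anti inf_le_left))
      (le_CC_symm inf_le_right)
    obtain ⟨t, ht, ot⟩ := exists_orderOf_eq_of_ne_bot (hX.to_le inf_le_left) hD
    have h6 := hinv t (fix_le_comm hX hc hXA inf_le_left h5 ht) (ot ▸ pow_orderOf_eq_one t)
    have h7 := irr (U := V ⊓ (X ⊓ CC(zpowers a))) hE h4 (le_NN_of_normal _ _) hc h0 inf_le_left
      ((h5.trans (CC_anti inf_le_right)).trans (CC_le_NN _)) fun e =>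
        H6.ord2_ne_one ot (e.le ⟨h6, ht⟩)
    exact ha' (le_CC_symm (h7.trans (inf_le_right.trans inf_le_right)) (mem_zpowers a))
  have hna : ¬ IsMulCommutative X := fun h => hab (isMulCommutative_iff_le_CC.1 h)
  have hf : ∀ g : X, MulAut.conjNormal a g = g → g = 1 := fun g e => by
    have e' := mul_inv_eq_iff_eq_mul.1 ((MulAut.conjNormal_apply a g).symm.trans
      (congrArg Subtype.val e))
    exact Subtype.ext (hD.le ⟨g.2, le_CC_symm (zpowers_le.2 (mem_CC.2 (by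
      rintro _ ⟨k, rfl⟩; exact (Commute.zpow_left e'.symm k)))) (mem_zpowers _)⟩)
  have ho : orderOf (MulAut.conjNormal (H := X) a) = 3 := orderOf_eq_prime (by
    rw [← map_pow]
    ext g
    rw [MulAut.conjNormal_apply, ← mem_CC.1 ha3 g g.2, mul_inv_cancel_right]; rfl) fun e =>
      hna ⟨⟨fun x y => by rw [hf x (by rw [e]; rfl), mul_one, one_mul]⟩⟩
  have h2 : ⁅X, X⁆ ≤ X ⊓ CC(X) := by
    rw [← map_subtype_commutator, ← map_center_subtype, ← CC_top]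
    exact map_mono (comm_eq_bot.1 ((Cfsg.Agent.S3779.result Nat.prime_three _ ho hf).2.1 rfl))
  intro y hy
  have := suz hX hna _ ho hf (V := V.subgroupOf X) (by rw [card_subgroupOf_of_le hVX, h4])
    (fun x => ⟨fun e => h.inv' le_rfl le_rfl (le_NN_of_normal _ _) h2
      (le_inf hVX (le_CC_symm hXV)) hE h4 x.2 (congrArg Subtype.val e),
      fun hx => Subtype.ext (hE.2 _ hx)⟩) ⟨y, hy⟩
  rw [sq]
  exact mem_CC.2 fun g hg => congrArg Subtype.val (mem_center_iff.1 this ⟨g, hg⟩)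

theorem special_equiv {P Q : Type*} [Group P] [Group Q] {p : ℕ} (e : P ≃* Q)
    (h : IsSpecial p P) : IsSpecial p Q := by
  have hc : (center P).map (e : P →* Q) = center Q := by
    ext x
    obtain ⟨y, rfl⟩ := e.surjective x
    simp [mem_center_iff, e.surjective.forall, ← map_mul]
  refine ⟨h.1.of_equiv e, by rw [← H1.map_frattini_equiv e, h.2.1, hc], ?_⟩
  rw [← hc, ← h.2.2, _root_.commutator_def, _root_.commutator_def, map_commutator,
    map_top_of_surjective _ e.surjective]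

end Sc
end H10
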