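import Cfsg.Agent.H10.K3
import Cfsg.Agent.H10.Misc

/-!
Sims' and Glauberman's analysis of a `p`-group `P` with `|P : P ∩ P^h| = p`.
-/

set_option autoImplicit false

namespace H10

open Cfsg

variable {G : Type*} [Group G]

/-- `⋂_{a ≤ i ≤ b} P^{h^i}` -/
def SI (P : Subgroup G) (h : G) (a b : ℤ) : Subgroup G := ⨅ i ∈ Set.Icc a b, cj (h ^ i) P

theorem mem_SI {P : Subgroup G} {h y : G} {a b : ℤ} :
    y ∈ SI P h a b ↔ ∀ i, a ≤ i → i ≤ b → y ∈ cj (h ^ i) P := by
  simp [SI, Subgroup.mem_iInf]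

theorem SI_mono {P : Subgroup G} {h : G} {a b a' b' : ℤ} (h1 : a ≤ a') (h2 : b' ≤ b) :
    SI P h a b ≤ SI P h a' b' := fun _ hy =>
  mem_SI.2 fun i i1 i2 => mem_SI.1 hy i (by omega) (by omega)

theorem SI_inf {P : Subgroup G} {h : G} {a b a' b' : ℤ} (h1 : a' ≤ b + 1) :
    SI P h a b ⊓ SI P h a' b' ≤ SI P h a b' := fun _ hy => mem_SI.2 fun i i1 i2 => by
  by_cases e : i ≤ b
  · exact mem_SI.1 hy.1 i i1 e
  · exact mem_SI.1 hy.2 i (by omega) i2

theorem SI_self (P : Subgroup G) (h : G) (a : ℤ) : SI P h a a = cj (h ^ a) P :=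
  le_antisymm (fun _ hy => mem_SI.1 hy a le_rfl le_rfl)
    fun _ hy => mem_SI.2 fun _ i1 i2 => le_antisymm i1 i2 ▸ hy

theorem cj_SI {P : Subgroup G} {h : G} {a b a' b' : ℤ} (j : ℤ) (h1 : a' = a + j)
    (h2 : b' = b + j) : cj (h ^ j) (SI P h a b) = SI P h a' b' := by
  subst h1 h2
  ext y
  rw [mem_cj, mem_SI, mem_SI]
  have e : ∀ i, (h ^ j)⁻¹ * y * h ^ j ∈ cj (h ^ i) P ↔ y ∈ cj (h ^ (i + j)) P := fun i => by
    rw [add_comm, zpow_add, cj_mul, mem_cj (g := h ^ j)]
  refine ⟨fun H i i1 i2 => ?_, fun H i i1 i2 => (e i).2 (H _ (by omega) (by omega))⟩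
  have := (e (i - j)).1 (H _ (by omega) (by omega))
  rwa [sub_add_cancel] at this

theorem comm_le_of_relIndex_prime [Finite G] {p : ℕ} [hp : Fact p.Prime] {P H : Subgroup G}
    (hP : IsPGroup p P) (hle : H ≤ P) (h : H.relIndex P = p) : ⁅P, P⁆ ≤ H := by
  refine (comm_le_frOf hP).trans (frOf_le_coatom (lt_of_le_of_ne hle fun e => ?_) fun X h1 h2 =>
    eq_of_relIndex_prime hp.out h h1.le h2 h1.not_ge)
  rw [e, Subgroup.relIndex_self] at h
  exact hp.out.one_lt.ne h

/-- The hypothesis of the Sims--Glauberman lemma. -/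
structure SM (p : ℕ) (P : Subgroup G) (h : G) : Prop where
  pg : IsPGroup p P
  idx : (P ⊓ cj h P).relIndex (cj h P) = p
  inv : ∀ Q ≤ P, P ≤ NN(Q) → cj h Q = Q → Q = ⊥

namespace SM

variable [Finite G] {p : ℕ} [hp : Fact p.Prime] {P : Subgroup G} {h : G}

theorem pgI (H : SM p P h) {a b : ℤ} (hab : a ≤ b) : IsPGroup p (SI P h a b) :=
  (isPGroup_cj (h ^ a) H.pg).to_le (SI_self P h a ▸ SI_mono le_rfl hab)

/-- the orders are as expected up to length `k` -/
def Good (p : ℕ) (P : Subgroup G) (h : G) (k : ℕ) : Prop :=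
  ∀ j ≤ k, ∀ a b : ℤ, b = a + j → Nat.card (SI P h a b) * p ^ j = Nat.card P

theorem Good.idx {k : ℕ} (g : Good p P h k) {a b a' b' : ℤ} (h0 : a ≤ b) (h1 : a' ≤ a)
    (h2 : b ≤ b') (h3 : b' - a' = b - a + 1) (h4 : b' - a' ≤ k) :
    (SI P h a' b').relIndex (SI P h a b) = p := by
  obtain ⟨j, hj⟩ := Int.eq_ofNat_of_zero_le (show 0 ≤ b - a by omega)
  have e1 := g j (by omega) a b (by omega)
  have e2 := g (j + 1) (by omega) a' b' (by push_cast; omega)
  have e3 := card_mul_relIndex (SI_mono (P := P) (h := h) h1 h2)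
  rw [← e1, ← e3, pow_succ', mul_assoc] at e2
  have e4 := Nat.eq_of_mul_eq_mul_left Nat.card_pos e2
  exact (Nat.eq_of_mul_eq_mul_right (pow_pos hp.out.pos j) e4).symm

theorem Good.gen {k : ℕ} (g : Good p P h k) {a b : ℤ} (h0 : a ≤ b) (h4 : b - a + 2 ≤ k)
    {L : Subgroup G} (h1 : SI P h a (b + 1) ≤ L) (h2 : SI P h (a - 1) b ≤ L) : SI P h a b ≤ L := by
  have e1 := g.idx (a' := a) (b' := b + 1) h0 le_rfl (by omega) (by omega) (by omega)
  have e2 := g.idx (a := a - 1) (b := b) (a' := a - 1) (b' := b + 1) (by omega) le_rfl (by omega)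
    (by omega) (by omega)
  refine (eq_of_relIndex_prime hp.out e1 le_sup_left (sup_le (SI_mono le_rfl (by omega))
    (SI_mono (a := a - 1) (by omega) le_rfl)) fun hle => ?_).ge.trans (sup_le h1 h2)
  have := Subgroup.relIndex_eq_one.2 ((le_inf le_rfl (le_sup_right.trans hle)).trans
    (SI_inf (by omega)))
  exact hp.out.one_lt.ne' (e2.symm.trans this)

theorem eq_bot (H : SM p P h) {k : ℕ} (g : Good p P h (k + 1))
    (e : SI P h 0 (k + 1) = SI P h 1 (k + 2)) : SI P h 0 (k + 1) = ⊥ := by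
  have e1 : cj h (SI P h 0 (k + 1)) = SI P h 0 (k + 1) := by
    have := cj_SI (P := P) (h := h) (a := 0) (b := k + 1) (a' := 1) (b' := k + 2) 1
      (by omega) (by omega)
    rw [zpow_one] at this
    exact this.trans e.symm
  have e2 : ∀ a : ℤ, SI P h a (a + k + 1) = SI P h 0 (k + 1) := fun a =>
    (cj_SI (a := 0) (b := k + 1) a (by omega) (by omega)).symm.trans
      (cj_eq_of_mem_NN (zpow_mem (mem_NN.2 e1) a))
  have e3 : SI P h 0 0 = P := by rw [SI_self, zpow_zero, cj_one]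
  have e4 : SI P h 0 (k + 1) ≤ P := (SI_mono le_rfl (by omega)).trans e3.le
  generalize SI P h 0 (k + 1) = D at e1 e2 e4
  have key : ∀ j : ℕ, j ≤ k → ∀ a b : ℤ, b = a + k - j → SI P h a b ≤ NN(D) := by
    intro j
    induction j with
    | zero =>
      intro _ a b hb
      have h1 : D ≤ SI P h a b := (e2 a).ge.trans (SI_mono le_rfl (by omega))
      refine le_NN_of_comm_le_of_le (comm_le_of_relIndex_prime (H.pgI (by omega)) h1 ?_) h1
      rw [← e2 a]
      exact g.idx (by omega) le_rfl (by omega) (by omega) (by omega)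
    | succ j ih =>
      intro hj a b hb
      exact g.gen (by omega) (by omega) (ih (by omega) _ _ (by omega)) (ih (by omega) _ _ (by omega))
  exact H.inv _ e4 (e3.ge.trans (key k le_rfl 0 0 (by omega))) e1

theorem good_of {k : ℕ} (g : Good p P h k)
    (e : Nat.card (SI P h 0 (k + 1)) * p ^ (k + 1) = Nat.card P) : Good p P h (k + 1) := by
  intro j hj a b hb
  rcases Nat.lt_or_eq_of_le hj with hj | rfl
  · exact g j (by omega) a b hb
  · rw [← cj_SI (a := 0) (b := k + 1) a (by omega) (by push_cast at hb; omega), card_cj, e]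

theorem good (H : SM p P h) {t : ℕ} (ht : Nat.card P = p ^ t) (k : ℕ) (hk : k ≤ t) :
    Good p P h k := by
  induction k with
  | zero =>
    intro j hj a b hb
    obtain rfl : j = 0 := by omega
    rw [show b = a by omega, SI_self, card_cj, pow_zero, mul_one]
  | succ k ih =>
    have g := ih (by omega)
    refine good_of g ?_
    rcases k with - | k
    · have e : SI P h 0 ((0 : ℕ) + 1) = P ⊓ cj h P := by
        refine le_antisymm (le_inf ?_ ?_) ?_
        · simpa [SI_self] using SI_mono (P := P) (h := h) (a := 0) (b := 1) (a' := 0) (b' := 0)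
            le_rfl (by omega)
        · simpa [SI_self] using SI_mono (P := P) (h := h) (a := 0) (b := 1) (a' := 1) (b' := 1)
            (by omega) le_rfl
        · simpa [SI_self] using SI_inf (P := P) (h := h) (a := 0) (b := 0) (a' := 1) (b' := 1)
            (by omega)
      rw [e, zero_add, pow_one, ← H.idx, card_mul_relIndex inf_le_right, card_cj]
    · have e1 := g (k + 1) le_rfl 0 (k + 1) (by push_cast; omega)
      have hne : SI P h 0 (k + 1) ≠ SI P h 1 (k + 2) := fun e => by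
        rw [H.eq_bot g e, Subgroup.card_bot, one_mul, ht] at e1
        have := Nat.pow_right_injective hp.out.two_le e1
        omega
      have e2 : SI P h 0 ((k + 1 : ℕ) + 1) = SI P h 1 (k + 2) ⊓ SI P h 0 (k + 1) :=
        le_antisymm (le_inf (SI_mono (by omega) (by push_cast; omega))
          (SI_mono le_rfl (by push_cast; omega))) (by
            rw [inf_comm]; exact (SI_inf (by omega)).trans (SI_mono le_rfl (by push_cast; omega)))
      have e3 : (SI P h 1 (k + 2)).relIndex (SI P h 0 (k + 1)) = p := by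
        have e4 := g.idx (a := 1) (b := k + 1) (a' := 1) (b' := k + 2) (by omega) le_rfl (by omega)
          (by omega) (by omega)
        have h1 : SI P h 1 (k + 2) ≤ SI P h 1 (k + 1) := SI_mono le_rfl (by omega)
        have h2 : SI P h 0 (k + 1) ≤ SI P h 1 (k + 1) := SI_mono (by omega) le_rfl
        rw [← relIndex_sup_of_NN (h2.trans (le_NN_of_comm_le_of_le
          (comm_le_of_relIndex_prime (H.pgI (by omega)) h1 e4) h1)),
          eq_of_relIndex_prime hp.out e4 le_sup_right (sup_le h2 h1) fun hle => hne ?_, e4]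
        refine Subgroup.eq_of_le_of_card_ge (le_sup_left.trans hle) ?_
        rw [← cj_SI (a := 0) (b := k + 1) 1 (by omega) (by omega), card_cj]
      rw [e2, pow_succ', ← mul_assoc, ← e1, ← e3, card_inf_mul_relIndex]

end SM

/-- `⟨x_i, …, x_j⟩` -/
def SX (P : Subgroup G) (h : G) (t : ℕ) (i j : ℤ) : Subgroup G := SI P h j (i + t - 1)

/-- `x_0` commutes with `x_d` -/
def SC (P : Subgroup G) (h : G) (t : ℕ) (d : ℤ) : Prop := SX P h t 0 0 ≤ CC(SX P h t d d)

section
variable {P : Subgroup G} {h : G} {t : ℕ}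

theorem SX_mono {i j i' j' : ℤ} (h1 : i ≤ i') (h2 : j' ≤ j) : SX P h t i' j' ≤ SX P h t i j :=
  SI_mono h2 (by omega)

theorem SX_inf {i j i' j' : ℤ} (h1 : j ≤ i' + t) :
    SX P h t i j ⊓ SX P h t i' j' ≤ SX P h t i j' := by
  rw [inf_comm]; exact SI_inf (by omega)

theorem cj_SX {i j i' j' : ℤ} (a : ℤ) (h1 : i' = i + a) (h2 : j' = j + a) :
    cj (h ^ a) (SX P h t i j) = SX P h t i' j' := cj_SI a h2 (by omega)

theorem SX_eq {i j : ℤ} (e : i + t - 1 = j) : SX P h t i j = cj (h ^ j) P := by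
  rw [SX, e, SI_self]

theorem SC_iff {i j d : ℤ} (e : d = j - i) : SX P h t i i ≤ CC(SX P h t j j) ↔ SC P h t d := by
  rw [SC, ← cj_SX (i := 0) (j := 0) (i' := i) (j' := i) i (by omega) (by omega),
    ← cj_SX (i := d) (j := d) (i' := j) (j' := j) i (by omega) (by omega), ← cj_centralizer,
    cj_le_cj]

theorem SC_neg {d : ℤ} (c : SC P h t d) : SC P h t (-d) :=
  (SC_iff (i := d) (j := 0) (by omega)).1 (le_CC_symm c)

end

namespace SM

variable [Finite G] {p : ℕ} [hp : Fact p.Prime] {P : Subgroup G} {h : G} {t : ℕ}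
  (H : SM p P h) (ht : Nat.card P = p ^ t)
include H ht

local notation "𝐗" => SX P h t

theorem one_le : 1 ≤ t := by
  have := card_mul_relIndex (inf_le_right (a := P) (b := cj h P))
  rw [H.idx, card_cj, ht] at this
  rcases t with - | t
  · exact absurd (Nat.eq_one_of_mul_eq_one_left this) hp.out.one_lt.ne'
  · omega

theorem card_X {i j : ℤ} (k : ℕ) (e : j - i + 1 = k) (hk : k ≤ t) : Nat.card (𝐗 i j) = p ^ k := by
  have := H.good ht t le_rfl (t - k) (by omega) j (i + t - 1) (by omega)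
  refine Nat.eq_of_mul_eq_mul_right (pow_pos hp.out.pos (t - k)) (this.trans ?_)
  rw [ht, ← pow_add, Nat.add_sub_cancel' hk]

theorem X_bot {i j : ℤ} (e : j < i) : 𝐗 i j = ⊥ :=
  le_bot_iff.1 ((SX_mono le_rfl (show j ≤ i - 1 by omega)).trans
    (Subgroup.card_eq_one.1 (H.card_X ht 0 (by omega) (by omega))).le)

theorem X_ne (i : ℤ) : 𝐗 i i ≠ ⊥ := fun e => by
  have := H.card_X ht (i := i) (j := i) 1 (by omega) (H.one_le ht)
  rw [e, Subgroup.card_bot, pow_one] at this
  exact hp.out.one_lt.ne this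

theorem idx_X {i j i' j' : ℤ} (h0 : j - i + 1 ≤ t) (h1 : i ≤ i') (h2 : j' ≤ j)
    (h3 : j' - i' + 1 = j - i) (h4 : i ≤ j) : (𝐗 i' j').relIndex (𝐗 i j) = p :=
  (H.good ht t le_rfl).idx (by omega) h2 (by omega) (by omega) (by omega)

theorem pgX {i j : ℤ} (h0 : j - i + 1 ≤ t) : IsPGroup p (𝐗 i j) := H.pgI (by omega)

theorem comm_X {i j : ℤ} (h0 : j - i + 1 ≤ t) (h4 : i ≤ j) :
    ⁅𝐗 i j, 𝐗 i j⁆ ≤ 𝐗 (i + 1) (j - 1) :=
  le_trans (le_inf
    (comm_le_of_relIndex_prime (H.pgX ht h0) (SX_mono (by omega) le_rfl)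
      (H.idx_X ht h0 (by omega) le_rfl (by omega) h4))
    (comm_le_of_relIndex_prime (H.pgX ht h0) (SX_mono le_rfl (by omega))
      (H.idx_X ht h0 le_rfl (by omega) (by omega) h4))) (SX_inf (by omega))

theorem gen_X {L : Subgroup G} {i j : ℤ} (h0 : j - i + 1 ≤ t)
    (hL : ∀ k, i ≤ k → k ≤ j → 𝐗 k k ≤ L) : 𝐗 i j ≤ L := by
  have key : ∀ n : ℕ, ∀ i' j', i ≤ i' → j' ≤ j → j' - i' = n → 𝐗 i' j' ≤ L := by
    intro n
    induction n with
    | zero => intro i' j' h1 h2 h3; exact (show i' = j' by omega) ▸ hL i' h1 (by omega)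
    | succ n ih =>
      intro i' j' h1 h2 h3
      refine (H.good ht t le_rfl).gen (by omega) (by omega) ?_ (ih i' (j' - 1) h1 (by omega) (by omega))
      exact (SI_mono le_rfl (by omega)).trans (ih (i' + 1) j' (by omega) h2 (by omega))
  by_cases e : j < i
  · rw [H.X_bot ht e]; exact bot_le
  · exact key (j - i).toNat i j le_rfl le_rfl (by omega)

theorem SC_zero : SC P h t 0 := by
  have := H.comm_X ht (i := 0) (j := 0) (by have := H.one_le ht; omega) le_rfl
  exact comm_eq_bot.1 (le_bot_iff.1 (this.trans (H.X_bot ht (by omega)).le))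

theorem exists_u : (∀ d, SC P h t d) ∨
    ∃ u : ℕ, 1 ≤ u ∧ ¬ SC P h t u ∧ ∀ d : ℤ, -u < d → d < u → SC P h t d := by
  classical
  by_cases hex : ∃ u : ℕ, ¬ SC P h t u
  · refine Or.inr ⟨Nat.find hex, Nat.pos_of_ne_zero fun e => Nat.find_spec hex ?_,
      Nat.find_spec hex, fun d h1 h2 => ?_⟩
    · rw [e]; exact H.SC_zero ht
    · have key : ∀ n : ℕ, n < Nat.find hex → SC P h t n := fun n hn =>
        not_not.1 (Nat.find_min hex hn)
      rcases Int.eq_nat_or_neg d with ⟨n, rfl | rfl⟩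
      · exact key n (by omega)
      · exact SC_neg (key n (by omega))
  · push Not at hex
    refine Or.inl fun d => ?_
    rcases Int.eq_nat_or_neg d with ⟨n, rfl | rfl⟩
    · exact hex n
    · exact SC_neg (hex n)

theorem X_CC {u : ℤ} (hu : ∀ d : ℤ, -u < d → d < u → SC P h t d) {i j i' j' : ℤ}
    (h0 : j - i + 1 ≤ t) (h1 : j' - i' + 1 ≤ t) (h2 : j' - i < u) (h3 : j - i' < u) :
    𝐗 i j ≤ CC(𝐗 i' j') :=
  H.gen_X ht h0 fun _ _ _ => le_CC_symm (H.gen_X ht h1 fun _ _ _ =>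
    (SC_iff rfl).2 (hu _ (by omega) (by omega)))

theorem comm_le {u : ℤ} (h1 : 1 ≤ u) (h2 : u + 1 ≤ t) (hn : ¬ SC P h t u)
    (hu : ∀ d : ℤ, -u < d → d < u → SC P h t d) :
    ⁅𝐗 0 0, 𝐗 u u⁆ ≤ 𝐗 (t - u) (2 * u - t) ∧ 2 * (t : ℤ) ≤ 3 * u := by
  have c0 : ⁅𝐗 0 0, 𝐗 u u⁆ ≤ 𝐗 (0 + 1) (u - 1) := (Subgroup.commutator_mono
    (SX_mono le_rfl (by omega)) (SX_mono (by omega) le_rfl)).trans
      (H.comm_X ht (by omega) (by omega))
  have k3 : ∀ {A B W : Subgroup G}, B ≤ CC(W) → ⁅W, A⁆ ≤ CC(B) → ⁅A, B⁆ ≤ CC(W) :=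
    fun {A B W} e1 e2 => comm_eq_bot.1 (le_bot_iff.1 (three_subgroups (le_NN_of_normal _ _)
      (le_NN_of_normal _ _) (le_NN_of_normal _ _) (by rw [comm_eq_bot.2 e1]; simp)
      (comm_eq_bot.2 e2).le))
  have ka : ∀ n : ℕ, (n : ℤ) + 1 ≤ t - u → ⁅𝐗 0 0, 𝐗 u u⁆ ≤ 𝐗 (n + 1) (u - 1) := by
    intro n
    induction n with
    | zero => exact fun _ => c0
    | succ n ih =>
      intro hn'
      push_cast at hn' ⊢
      have i1 := ih (by omega)
      by_cases e : u - 1 < n + 1
      · rw [H.X_bot ht e] at i1; exact i1.trans bot_le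
      by_contra hc
      have c1 : ⁅𝐗 0 0, 𝐗 u u⁆ ≤ CC(𝐗 (n + 1 + u) (n + 1 + u)) :=
        k3 (H.X_CC ht hu (by omega) (by omega) (by omega) (by omega))
          (((Subgroup.commutator_mono (SX_mono (i := 0) (by omega) le_rfl)
            (SX_mono le_rfl (by omega))).trans (H.comm_X ht (by omega) (by omega))).trans
              (H.X_CC ht hu (by omega) (by omega) (by omega) (by omega)))
      have c2 := eq_of_relIndex_prime hp.out
        (H.idx_X ht (i := n + 1) (j := u - 1) (i' := n + 1 + 1) (j' := u - 1) (by omega) (by omega)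
          le_rfl (by omega) (by omega))
        (le_inf (SX_mono (by omega) le_rfl) (H.X_CC ht hu (i' := n + 1 + u) (j' := n + 1 + u)
          (by omega) (by omega) (by omega) (by omega))) inf_le_left
        fun hle => hc ((le_inf i1 c1).trans hle)
      exact hn ((SC_iff (i := n + 1) (by omega)).1
        ((SX_mono le_rfl (by omega)).trans (c2.ge.trans inf_le_right)))
  have kb : ∀ n : ℕ, (n : ℤ) + 1 ≤ t - u → ⁅𝐗 0 0, 𝐗 u u⁆ ≤ 𝐗 1 (u - 1 - n) := by
    intro n
    induction n with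
    | zero => exact fun _ => c0.trans (SX_mono (by omega) (by omega))
    | succ n ih =>
      intro hn'
      push_cast at hn' ⊢
      have i1 := ih (by omega)
      by_cases e : u - 1 - n < 1
      · rw [H.X_bot ht e] at i1; exact i1.trans bot_le
      by_contra hc
      have c1 : ⁅𝐗 u u, 𝐗 0 0⁆ ≤ CC(𝐗 (-1 - n) (-1 - n)) :=
        k3 (H.X_CC ht hu (by omega) (by omega) (by omega) (by omega))
          (((Subgroup.commutator_mono (SX_mono (j := u) le_rfl (by omega))
            (SX_mono (by omega) le_rfl)).trans (H.comm_X ht (by omega) (by omega))).trans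
              (H.X_CC ht hu (by omega) (by omega) (by omega) (by omega)))
      rw [Subgroup.commutator_comm] at c1
      have c2 := eq_of_relIndex_prime hp.out
        (H.idx_X ht (i := 1) (j := u - 1 - n) (i' := 1) (j' := u - 1 - (n + 1)) (by omega) le_rfl
          (by omega) (by omega) (by omega))
        (le_inf (SX_mono le_rfl (by omega)) (H.X_CC ht hu (i' := -1 - n) (j' := -1 - n)
          (by omega) (by omega) (by omega) (by omega))) inf_le_left
        fun hle => hc ((le_inf i1 c1).trans hle)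
      exact hn ((SC_iff (i := -1 - n) (j := u - 1 - n) (by omega)).1 (le_CC_symm
        ((SX_mono (by omega) le_rfl).trans (c2.ge.trans inf_le_right))))
  obtain ⟨n, hn'⟩ := Int.eq_ofNat_of_zero_le (show 0 ≤ t - u - 1 by omega)
  have c3 : ⁅𝐗 0 0, 𝐗 u u⁆ ≤ 𝐗 (t - u) (2 * u - t) :=
    ((le_inf (ka n (by omega)) (kb n (by omega))).trans (SX_inf (by omega))).trans
      (SX_mono (by omega) (by omega))
  refine ⟨c3, not_lt.1 fun e => hn ?_⟩
  exact comm_eq_bot.1 (le_bot_iff.1 (c3.trans (H.X_bot ht (by omega)).le))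

/-- The Sims--Glauberman bound. -/
theorem cases {n : ℕ} {K : Subgroup G} (hK : ∀ L, (∀ i : ℕ, i ≤ n → cj (h ^ i) P ≤ L) → K ≤ L)
    (hZ : P ⊓ CC(K) = ⊥) : ∃ u : ℕ, ¬ SC P h t u ∧ (∀ d : ℤ, -u < d → d < u → SC P h t d) ∧
      ((t ≤ u ∧ u ≤ n) ∨ (u + 1 ≤ t ∧ 2 * t ≤ 3 * u ∧ 2 * u ≤ t + n)) := by
  have h1 := H.one_le ht
  have key : ∀ (u j : ℤ), (∀ d : ℤ, -u < d → d < u → SC P h t d) → j ≤ 0 → 1 - t ≤ j →
      n - j < u → j + t - 1 < u → False := fun u j hu j1 j2 j3 j4 => by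
    refine H.X_ne ht j (le_bot_iff.1 (hZ ▸ le_inf ?_ (le_CC_symm (hK _ fun i hi => ?_))))
    · have := SX_eq (P := P) (h := h) (t := t) (i := 1 - t) (j := 0) (by omega)
      rw [zpow_zero, cj_one] at this
      exact (SX_mono j2 j1).trans this.le
    · rw [← zpow_natCast, ← SX_eq (t := t) (i := i + 1 - t) (by omega)]
      exact H.X_CC ht hu (by omega) (by omega) (by omega) (by omega)
  rcases H.exists_u ht with hu | ⟨u, u1, hn, hu⟩
  · exact (key (n + t) 0 (fun d _ _ => hu d) le_rfl (by omega) (by omega) (by omega)).elim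
  refine ⟨u, hn, hu, ?_⟩
  by_cases e : t ≤ u
  · exact Or.inl ⟨e, not_lt.1 fun e' => key u 0 hu le_rfl (by omega) (by omega) (by omega)⟩
  · have := (H.comm_le ht (by omega) (by omega) hn hu).2
    exact Or.inr ⟨by omega, by omega, not_lt.1 fun e' =>
      key u (u - t) hu (by omega) (by omega) (by omega) (by omega)⟩

end SM

end H10
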