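import Cfsg.Agent.H10.Sims
import Cfsg.Agent.H10.JC5
import Cfsg.Agent.H3.PComp
import Cfsg.Agent.H6.Q8
import Mathlib.GroupTheory.SpecificGroups.Dihedral

/-!
Groups that are dihedral modulo `O₂`.
-/

set_option autoImplicit false

namespace H10

open Cfsg
open scoped commutatorElement

variable {G : Type*} [Group G] [Finite G]

theorem coprime_resOf_of_central {p : ℕ} [Fact p.Prime] {Z C : Subgroup G} (h : IsSylowIn p Z C)
    (hc : C ≤ CC(Z)) : (Nat.card (resOf p C)).Coprime p := by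
  have h1 : HasNormalPComplement p C := ⟨h.toSylow, _, inferInstance,
    MonoidHom.ker_transferSylow_isComplement' h.toSylow fun x _ => by
      show x ∈ CC((h.toSylow : Subgroup C))
      rw [h.coe_toSylow, CC_subgroupOf h.le]; exact hc x.2⟩
  rwa [H3.hasNormalPComplement_iff_coprime, ← card_map_subtype, resOf_def] at h1

theorem dihedral_facts {n : ℕ} (hn : 2 ≤ n) (φ : G →* DihedralGroup n)
    (hφ : Function.Surjective φ) (hk : φ.ker = pCore 2 G) {T : Subgroup G}
    (hT : IsSylowIn 2 T ⊤) : (pCore 2 G).relIndex T = 2 ∧ T ≠ ⊤ ∧ (∃ h, T ⊔ cj h T = ⊤) ∧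
      ∃ M : Subgroup G, M.Normal ∧ resOf 2 ⊤ ≤ M ∧ T ⊓ M = pCore 2 G := by
  haveI : NeZero n := ⟨by omega⟩
  have hQ : IsPGroup 2 φ.ker := hk ▸ isPGroup_pCore'
  have hcm : ∀ A : Subgroup (DihedralGroup n), IsPGroup 2 A → IsPGroup 2 (A.comap φ) :=
    fun A hA => hA.comap_of_ker_isPGroup φ hQ
  have hodd : Odd n := by
    rw [← Nat.not_even_iff_odd]
    rintro ⟨m, hm⟩
    have h0 : (m : ZMod n) + m = 0 := by rw [← Nat.cast_add, ← hm, ZMod.natCast_self]
    have h2 : (DihedralGroup.r (m : ZMod n)) ^ 2 ^ 1 = 1 := by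
      rw [pow_one, pow_two, DihedralGroup.r_mul_r, h0]; rfl
    have hc : ⊤ ≤ CC(Subgroup.zpowers (DihedralGroup.r (m : ZMod n))) := by
      rw [CC_zpowers]
      rintro (i | i) -
      · rw [Subgroup.mem_centralizer_singleton_iff]; simp [add_comm]
      · rw [Subgroup.mem_centralizer_singleton_iff]
        simp only [DihedralGroup.sr_mul_r, DihedralGroup.r_mul_sr]
        rw [sub_eq_add_neg, neg_eq_of_add_eq_zero_right h0]
    haveI := normal_of_top_le_NN (hc.trans (CC_le_NN _))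
    obtain ⟨x, hx⟩ := hφ (DihedralGroup.r (m : ZMod n))
    have h3 := le_pCore' (hcm _ (isPGroup_zpowers h2))
      (show x ∈ (Subgroup.zpowers _).comap φ from hx ▸ Subgroup.mem_zpowers _)
    rw [← hk, MonoidHom.mem_ker, hx] at h3
    have h4 : (m : ZMod n) = 0 := DihedralGroup.r.inj h3
    have := Nat.le_of_dvd (by omega) ((ZMod.natCast_eq_zero_iff _ _).1 h4)
    omega
  have hi : φ.ker.index = 2 * n := by
    rw [Subgroup.index_ker, MonoidHom.range_eq_top.2 hφ, Subgroup.card_top, DihedralGroup.nat_card]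
  have hQT : φ.ker ≤ T := by rw [hk, ← pCoreOf_top]; exact hT.pCoreOf_le
  have hsyl : ∀ i : ZMod n, IsSylowIn 2 ((Subgroup.zpowers (DihedralGroup.sr i)).comap φ) ⊤ ∧
      ((Subgroup.zpowers (DihedralGroup.sr i)).comap φ).index = n := fun i => by
    have e : ((Subgroup.zpowers (DihedralGroup.sr i)).comap φ).index = n := by
      rw [Subgroup.index_comap_of_surjective _ hφ]
      have := (Subgroup.zpowers (DihedralGroup.sr i)).card_mul_index
      rw [Nat.card_zpowers, DihedralGroup.orderOf_sr, DihedralGroup.nat_card] at this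
      omega
    refine ⟨isSylowIn_of_not_dvd le_top (hcm _ (isPGroup_zpowers_of_orderOf_eq
      (DihedralGroup.orderOf_sr i))) ?_, e⟩
    rw [Subgroup.relIndex_top_right, e]
    exact hodd.not_two_dvd_nat
  obtain ⟨a, -, ha⟩ := (hsyl 0).1.exists_cj hT
  obtain ⟨b, -, hb⟩ := (hsyl 0).1.exists_cj (hsyl 1).1
  have hTi : T.index = n := by rw [← ha, index_cj, (hsyl 0).2]
  have hrot : ∀ i : ZMod n, DihedralGroup.r i ∈ Subgroup.zpowers (DihedralGroup.r (1 : ZMod n)) :=
    fun i => ⟨i.val, by simp⟩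
  refine ⟨?_, fun e => ?_, ⟨a * b * a⁻¹, ?_⟩,
    (Subgroup.zpowers (DihedralGroup.r (1 : ZMod n))).comap φ, ?_, ?_, ?_⟩
  · have := Subgroup.relIndex_mul_index hQT
    rw [hi, hTi, hk] at this
    exact Nat.eq_of_mul_eq_mul_right (by omega) this
  · rw [e, Subgroup.index_top] at hTi; omega
  · rw [← ha, cj_mul, cj_mul, cj_inv_cj, hb, ← cj_sup, cj_eq_top,
      Subgroup.comap_sup_eq _ _ _ hφ, eq_top_iff]
    intro x _
    have h1 : ∀ i : ZMod n, DihedralGroup.r i ∈ Subgroup.zpowers (DihedralGroup.sr (0 : ZMod n)) ⊔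
        Subgroup.zpowers (DihedralGroup.sr 1) := fun i => Subgroup.zpowers_le_of_mem (by
      simpa using mul_mem (Subgroup.mem_sup_left (Subgroup.mem_zpowers (DihedralGroup.sr 0)))
        (Subgroup.mem_sup_right (Subgroup.mem_zpowers (DihedralGroup.sr (1 : ZMod n))))) (hrot i)
    rw [Subgroup.mem_comap]
    rcases φ x with i | i
    · exact h1 i
    · simpa using mul_mem (Subgroup.mem_sup_left (Subgroup.mem_zpowers (DihedralGroup.sr 0))) (h1 i)
  · refine Subgroup.Normal.comap ⟨?_⟩ φ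
    rintro _ ⟨k, rfl⟩ (i | i) <;> simp [hrot]
  · refine resOf_le_iff.2 fun x _ hx => ?_
    rw [Subgroup.mem_comap]
    rcases e : φ x with i | i
    · exact hrot i
    · have := orderOf_map_dvd φ x
      rw [e, DihedralGroup.orderOf_sr] at this
      exact absurd (Nat.Coprime.eq_one_of_dvd hx.symm this) (by norm_num)
  · rw [← hk]
    refine le_antisymm (fun x hx => ?_) (le_inf hQT (Subgroup.ker_le_comap _ _))
    obtain ⟨k, hk'⟩ := isPGroup_iff_mem.1 hT.isPGroup x hx.1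
    have h1 : orderOf (φ x) ∣ 2 ^ k := orderOf_dvd_of_pow_eq_one (by rw [← map_pow, hk', map_one])
    have h2 : orderOf (φ x) ∣ n := by
      have := orderOf_dvd_of_mem_zpowers (show φ x ∈ _ from hx.2)
      rwa [DihedralGroup.orderOf_r_one] at this
    exact orderOf_eq_one_iff.1 (Nat.eq_one_of_dvd_coprimes
      ((Nat.coprime_two_left.2 hodd).pow_left k) h1 h2)

theorem s3_of_central {T Q D : Subgroup G} [Q.Normal] (hT : IsSylowIn 2 T ⊤)
    (hQ : IsElementaryAbelian 2 Q) (h2 : Q.relIndex T = 2) (hC : CC(Q) ≤ Q) (hD : D ≤ Q)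
    (hDc : ⊤ ≤ CC(D)) (h4 : D.relIndex Q = 4) (hn : ¬ ⊤ ≤ NN(T)) :
    S3 ⊤ T ∧ CharPIn 2 (⊤ : Subgroup G) ∧ pCoreOf 2 ⊤ = Q ∧ CC(resOf 2 ⊤).relIndex Q = 4 := by
  have hQO : Q ≤ pCoreOf 2 ⊤ := le_pCoreOf (elab_isPGroup hQ) le_top (le_NN_of_normal _ _)
  have e : pCoreOf 2 ⊤ = Q := by
    refine le_antisymm ?_ hQO
    by_contra h
    exact hn (eq_of_relIndex_prime Nat.prime_two h2 hQO hT.pCoreOf_le h ▸ le_NN_pCoreOf _)
  have hc : CharPIn 2 (⊤ : Subgroup G) := by rwa [charPIn_top, ← pCoreOf_top, e]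
  haveI : D.Normal := normal_of_top_le_NN (hDc.trans (CC_le_NN _))
  have hk : IsKleinFour (Q.map (QuotientGroup.mk' D)) := klein_of_elab (elab_map _ hQ) (by
    rw [← h4, ← Subgroup.relIndex_ker, QuotientGroup.ker_mk'])
  have h6 := H6.four_relIndex_dvd hk (L := ⊤) (le_NN_of_normal _ _)
  rw [Subgroup.relIndex_top_right,
    ← Subgroup.index_comap_of_surjective _ (QuotientGroup.mk'_surjective D)] at h6
  set K := CC(Q.map (QuotientGroup.mk' D)).comap (QuotientGroup.mk' D) with hK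
  have hK1 : ⁅Q, K⁆ ≤ D := Subgroup.commutator_le.2 fun x hx y hy => by
    rw [← QuotientGroup.eq_one_iff, ← QuotientGroup.mk'_apply, map_commutatorElement]
    exact commutatorElement_eq_one_iff_mul_comm.2 (mem_CC.1 hy _ ⟨x, hx, rfl⟩)
  haveI : CC(Q.map (QuotientGroup.mk' D)).Normal :=
    normal_of_top_le_NN (le_NN_CC (le_NN_of_normal _ _))
  have hKQ : K ≤ Q := e ▸ le_pCoreOf (hc.isPGroup le_top (e ▸ resOf_le_CC_of_step
    ((elab_isPGroup hQ).to_le hD) ((Subgroup.commutator_mono le_rfl (resOf_le K)).trans hK1)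
    (le_top.trans hDc))) le_top (le_NN_of_normal _ _)
  have h7 := (Subgroup.index_dvd_of_le hKQ).trans h6
  have h8 := Subgroup.relIndex_mul_index (hQO.trans hT.pCoreOf_le)
  have h9 := hT.not_dvd_relIndex
  rw [Subgroup.relIndex_top_right] at h9
  have h10 : T.index ≠ 1 := fun e' => hn (by rw [Subgroup.index_eq_one.1 e', NN_top])
  have s : S3 ⊤ T := s3_of_relIndex hT (by
    rw [e, Subgroup.relIndex_top_right]
    have := Nat.le_of_dvd (by omega) h7
    rw [h2] at h8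
    have h11 : T.index = 3 := by
      rw [← h8] at h7 this
      generalize T.index = m at *
      have : m ≤ 3 := by omega
      interval_cases m <;> omega
    omega)
  refine ⟨s, hc, e, ?_⟩
  have h5 := h4 ▸ Subgroup.relIndex_dvd_of_le_left Q
    ((le_CC_symm hDc).trans (CC_anti (le_top (a := resOf 2 ⊤))))
  have hn' : resOf 2 ⊤ ≤ NN(Q) := le_NN_of_normal _ _
  have h6 : ¬ Q ≤ CC(resOf 2 ⊤) := fun e' =>
    s.k3.not_le_pgroup (elab_isPGroup hQ) ((le_CC_symm e').trans hC)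
  have a : CC(resOf 2 ⊤).relIndex Q ≠ 1 := fun e => h6 (Subgroup.relIndex_eq_one.1 e)
  have b : CC(resOf 2 ⊤).relIndex Q ≠ 2 := fun e => by
    have := comm_le_of_relIndex_two e (le_NN_CC (le_NN_self _)) hn'
    rw [← comm_eq_bot, s.k3.comm_comm (elab_isPGroup hQ) hn', comm_eq_bot] at this
    exact h6 this
  have c := Nat.le_of_dvd (by omega) h5
  generalize CC(resOf 2 (⊤ : Subgroup G)).relIndex Q = m at *
  interval_cases m <;> omega

namespace SM

variable {P : Subgroup G} {h : G} {t : ℕ} (H : SM 2 P h) (ht : Nat.card P = 2 ^ t)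
include H ht

local notation "𝐗" => SX P h t

theorem card_Y (i : ℤ) : Nat.card (𝐗 i i) = 2 := H.card_X ht 1 (by omega) (H.one_le ht)

theorem sq_Y {i : ℤ} {x : G} (hx : x ∈ 𝐗 i i) : x ^ 2 = 1 := by
  have := pow_card_eq_one' (G := 𝐗 i i) (x := ⟨x, hx⟩)
  rw [H.card_Y ht] at this
  exact congrArg Subtype.val this

theorem elab_X {u : ℤ} (hu : ∀ d : ℤ, -u < d → d < u → SC P h t d) {i j : ℤ}
    (h0 : j - i + 1 ≤ t) (h1 : j - i < u) : IsElementaryAbelian 2 (𝐗 i j) :=
  elab_of_le_omegaOne (H.X_CC ht hu h0 h0 h1 h1) (H.gen_X ht h0 fun _ h2 h3 =>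
    le_omegaOne (SX_mono h2 h3) fun _ hx => H.sq_Y ht hx)

theorem six (e : t = 6) (hn : ¬ SC P h t 4) (hu : ∀ d : ℤ, -4 < d → d < 4 → SC P h t d) :
    𝐗 (-4) 1 ≤ NN(𝐗 (-4) (-1)) := by
  have h0 : 𝐗 (-5) 0 ≤ NN(𝐗 (-4) (-1)) := le_NN_of_comm_le_of_le
    ((Subgroup.commutator_mono le_rfl le_rfl).trans (H.comm_X ht (by omega) (by omega)))
    (SX_mono (by omega) (by omega))
  refine H.gen_X ht (by omega) fun k k1 k2 => ?_
  by_cases e1 : k ≤ 0
  · exact (SX_mono (by omega) e1).trans h0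
  obtain rfl : k = 1 := by omega
  refine le_NN_of_cj_le fun w hw => cj_le_iff.2 (H.gen_X ht (by omega) fun j j1 j2 a ha => ?_)
  have haA : a ∈ 𝐗 (-4) (-1) := SX_mono j1 j2 ha
  rw [mem_cj, inv_inv, show w * a * w⁻¹ = ⁅w, a⁆ * a by simp [commutatorElement_def]]
  refine mul_mem ?_ haA
  have hd : ⁅w, a⁆ ∈ 𝐗 (-4 + 1) (1 - 1) := H.comm_X ht (by omega) (by omega)
    (Subgroup.commutator_mem_commutator (SX_mono (by omega) le_rfl hw) (SX_mono j1 (by omega) ha))
  by_cases e2 : -2 ≤ j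
  · rw [commutatorElement_eq_one_iff_mul_comm.2 (mem_CC.1 (H.X_CC ht hu (i' := 1) (j' := 1)
      (by omega) (by omega) (by omega) (by omega) ha) w hw)]
    exact one_mem _
  by_cases e3 : j = -3
  · subst e3
    have h1 := cj_mono (h ^ (-3 : ℤ)) (H.comm_le ht (by omega) (by omega) hn hu).1
    rw [cj_commutator, cj_SX (i' := -3) (j' := -3) _ (by omega) (by omega),
      cj_SX (i' := 1) (j' := 1) _ (by omega) (by omega),
      cj_SX (i' := -1) (j' := -1) _ (by omega) (by omega), Subgroup.commutator_comm] at h1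
    exact SX_mono (by omega) le_rfl (h1 (Subgroup.commutator_mem_commutator hw ha))
  obtain rfl : j = -4 := by omega
  have hB := H.elab_X ht hu (i := -4 + 1) (j := 1 - 1) (by omega) (by omega)
  have h1 : 𝐗 (-4 + 1) (1 - 1) ⊓ CC(𝐗 (-4) (-4)) ≤ 𝐗 (-3) (-1) := by
    by_contra hc
    have := eq_of_relIndex_prime Nat.prime_two (H.idx_X ht (i' := -3) (j' := -1) (by omega)
      (by omega) (by omega) (by omega) (by omega)) (le_inf (SX_mono (by omega) (by omega))
      (H.X_CC ht hu (by omega) (by omega) (by omega) (by omega))) inf_le_left hc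
    exact hn ((SC_iff (i := -4) (j := 0) (by omega)).1 (le_CC_symm
      ((SX_mono (by omega) (by omega)).trans (this.ge.trans inf_le_right))))
  refine SX_mono (by omega) le_rfl (h1 ⟨hd, ?_⟩)
  have a2 := H.sq_Y ht ha
  have d2 := hB.2 _ hd
  have h2 : (⁅w, a⁆ * a) ^ 2 = 1 := by
    rw [show ⁅w, a⁆ * a = w * a * w⁻¹ by simp [commutatorElement_def], conj_pow, a2]; simp
  have h3 : a * ⁅w, a⁆ = ⁅w, a⁆ * a := by
    generalize ⁅w, a⁆ = d at *
    rw [pow_two] at a2 d2 h2
    rw [← inv_eq_of_mul_eq_one_right h2, mul_inv_rev, inv_eq_of_mul_eq_one_right a2,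
      inv_eq_of_mul_eq_one_right d2]
  by_cases a1 : a = 1
  · subst a1; simp
  have e4 : Subgroup.zpowers a = 𝐗 (-4) (-4) := Subgroup.eq_of_le_of_card_ge
    (Subgroup.zpowers_le_of_mem ha) (by
      rw [H.card_Y ht, Nat.card_zpowers, orderOf_eq_prime a2 a1])
  rw [← e4]
  show _ ∈ CC(Subgroup.zpowers a)
  rw [CC_zpowers, Subgroup.mem_centralizer_singleton_iff]
  exact h3.symm

end SM

end H10
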