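/-
`Y`-minimal groups with `O_p` generated by conjugates of `Y ∩ O_p`.
-/
import Cfsg.Agent.H10.Misc

set_option autoImplicit false
set_option linter.unusedSectionVars false

namespace H10

open Cfsg

variable {X : Type*} [Group X] [Finite X] {p : ℕ} [Fact p.Prime]

/-- the abstract part of `X ∈ 𝔏(Y)` -/
structure YT (p : ℕ) (Y : Subgroup X) : Prop where
  el : IsElementaryAbelian p Y
  hA : pCore p X ≤ ncl (Y ⊓ pCore p X) ⊤
  nA : pCore p X ≤ NN(Y)
  nn : ¬ ⊤ ≤ NN(Y)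
  gen : ⊤ ≤ ncl Y ⊤
  umax : ∀ K, Y ≤ K → K ≠ ⊤ → K ≤ NN(Y)

theorem pCore_normal' : (pCore p X).Normal := by
  rw [← pCoreOf_top]; exact normal_of_top_le_NN (le_NN_pCoreOf ⊤)

theorem center_conj {c : X} (hc : c ∈ Subgroup.center X) (g : X) : g * c * g⁻¹ = c := by
  rw [Subgroup.mem_center_iff.1 hc g, mul_inv_cancel_right]

namespace YT

variable {Y : Subgroup X} (h : YT p Y)
include h

theorem cj (g : X) : YT p (cj g Y) := by
  haveI : (pCore p X).Normal := pCore_normal'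
  refine ⟨elab_cj g h.el, ?_, ?_, ?_, ?_, ?_⟩
  · have := cj_mono g h.hA
    rwa [cj_ncl, cj_inf, cj_top, cj_eq_of_normal] at this
  · have := cj_mono g h.nA
    rwa [cj_normalizer, cj_eq_of_normal] at this
  · intro e
    refine h.nn ?_
    rwa [← cj_normalizer, ← cj_top g, cj_le_cj] at e
  · have := cj_mono g h.gen
    rwa [cj_ncl, cj_top] at this
  · intro K h1 h2
    rw [← cj_normalizer, le_cj_iff]
    exact h.umax _ (cj_le_iff.1 h1) fun e => h2 (cj_eq_top.1 e)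

theorem not_le : ¬ Y ≤ pCore p X := fun e =>
  haveI : (pCore p X).Normal := pCore_normal'
  h.nn (h.gen.trans ((ncl_le e (le_NN_of_normal _ _)).trans h.nA))

theorem NN_le {T : Subgroup X} (hT : IsPGroup p T) (hY : Y ≤ T) : NN(T) ≤ NN(Y) := by
  refine h.umax _ (hY.trans (le_NN_self T)) fun e => h.not_le (hY.trans ?_)
  haveI := normal_of_top_le_NN e.ge
  exact le_pCore' hT

theorem wc {g : X} (hg : H10.cj g Y ≤ NN(Y)) : g ∈ NN(Y) := by
  obtain ⟨T, hT, hYT⟩ := exists_isSylowIn_ge (elab_isPGroup h.el) (le_top (a := Y))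
  have h1 : T ≤ NN(Y) := (le_NN_self T).trans (h.NN_le hT.isPGroup hYT)
  have h2 : IsSylowIn p T NN(Y) := hT.of_le h1 le_top
  obtain ⟨n, hn, hle⟩ := h2.exists_cj_le (isPGroup_cj g (elab_isPGroup h.el)) hg
  rw [← cj_mul, cj_le_iff] at hle
  have h3 := hT.cj_top (n * g)⁻¹
  have h4 : IsSylowIn p (H10.cj (n * g)⁻¹ T) NN(Y) :=
    h3.of_le ((le_NN_self _).trans (h.NN_le h3.isPGroup hle)) le_top
  obtain ⟨k, hk, e⟩ := h4.exists_cj h2
  rw [← cj_mul] at e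
  have h5 : k * (n * g)⁻¹ ∈ NN(Y) := h.NN_le hT.isPGroup hYT (mem_NN.2 e)
  have h6 : g = n⁻¹ * (k * (n * g)⁻¹)⁻¹ * k := by group
  rw [h6]
  exact Subgroup.mul_mem _ (Subgroup.mul_mem _ (Subgroup.inv_mem _ hn) (Subgroup.inv_mem _ h5)) hk

theorem sup_eq {g : X} (hg : g ∉ NN(Y)) : Y ⊔ H10.cj g Y = ⊤ := by
  by_contra e
  exact hg (h.wc (le_sup_right.trans (h.umax _ le_sup_left e)))

theorem inf_le {g : X} (hg : g ∉ NN(Y)) : Y ⊓ H10.cj g Y ≤ Subgroup.center X := by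
  rw [← CC_top, ← h.sup_eq hg, CC_sup]
  exact inf_le_inf (elab_le_CC h.el) (elab_le_CC (h.cj g).el)

omit h in
theorem cj_inf_center (g : X) : H10.cj g Y ⊓ Subgroup.center X = Y ⊓ Subgroup.center X := by
  ext x
  simp only [Subgroup.mem_inf, mem_cj]
  refine and_congr_left fun hx => ?_
  have := center_conj hx g⁻¹
  rw [inv_inv] at this
  rw [this]

theorem comm_le : ⁅pCore p X, Y⁆ ≤ Y ⊓ pCore p X :=
  haveI : (pCore p X).Normal := pCore_normal'
  le_inf (comm_le_right h.nA) (comm_le_left (le_NN_of_normal _ _))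

theorem core_le {g : X} (hg : g ∉ NN(Y)) :
    pCore p X ≤ (Y ⊓ pCore p X) ⊔ (H10.cj g Y ⊓ pCore p X) := by
  refine h.hA.trans (ncl_le le_sup_left ?_)
  rw [← h.sup_eq hg]
  have hle : (Y ⊓ pCore p X) ⊔ (H10.cj g Y ⊓ pCore p X) ≤ pCore p X :=
    sup_le inf_le_right inf_le_right
  exact sup_le (le_NN_of_comm_le_of_le (h.comm_le.trans le_sup_left) hle)
    (le_NN_of_comm_le_of_le ((h.cj g).comm_le.trans le_sup_right) hle)

theorem exists_not_mem : ∃ g, g ∉ NN(Y) := by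
  by_contra e
  push Not at e
  exact h.nn fun g _ => e g

theorem nB : pCore p X ≤ NN(Y ⊓ pCore p X) := le_NN_inf h.nA (le_NN_self _)

theorem core_comm : ⁅pCore p X, pCore p X⁆ ≤ Y ⊓ Subgroup.center X := by
  obtain ⟨g, hg⟩ := h.exists_not_mem
  have h' := h.cj g
  have hn : ∀ K : Subgroup X, K ≤ NN(Y ⊓ Subgroup.center X) := fun K =>
    (le_CC_symm (inf_le_right.trans ((CC_top (G := X)).symm.le.trans (CC_anti le_top)))).trans
      (CC_le_NN _)
  have h1 : ⁅Y ⊓ pCore p X, H10.cj g Y ⊓ pCore p X⁆ ≤ Y ⊓ Subgroup.center X := by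
    have h2 : ⁅Y ⊓ pCore p X, H10.cj g Y ⊓ pCore p X⁆ ≤ Y ⊓ H10.cj g Y :=
      le_inf ((comm_le_left (inf_le_right.trans h.nB)).trans inf_le_left)
        ((comm_le_right (inf_le_right.trans h'.nB)).trans inf_le_left)
    exact le_inf (h2.trans inf_le_left) (h2.trans (h.inf_le hg))
  have h0 : ∀ {Z : Subgroup X}, YT p Z → ⁅Z ⊓ pCore p X, Z ⊓ pCore p X⁆ ≤ Y ⊓ Subgroup.center X := by
    intro Z hZ
    rw [comm_eq_bot.2 (inf_le_left.trans ((elab_le_CC hZ.el).trans (CC_anti inf_le_left)))]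
    exact bot_le
  refine (Subgroup.commutator_mono (h.core_le hg) (h.core_le hg)).trans ?_
  refine comm_sup_le (hn _) (hn _) (comm_sup_le' (hn _) (hn _) (h0 h) h1)
    (comm_sup_le' (hn _) (hn _) ?_ (h0 h'))
  rw [Subgroup.commutator_comm]; exact h1

theorem mem_core {y : X} {k : ℕ} (hy : y ^ p ^ k = 1) (hn : ∀ g, y ∈ NN(H10.cj g Y)) :
    y ∈ pCore p X := by
  obtain ⟨T, hT, hYT⟩ := exists_isSylowIn_ge (elab_isPGroup h.el) (le_top (a := Y))
  set D := (NN(Y)).normalCore with hD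
  have hyD : y ∈ D := by
    intro g
    have := hn g⁻¹
    rw [← cj_normalizer, mem_cj, inv_inv] at this
    exact this
  have hR : IsSylowIn p (T ⊓ D) D := by
    simpa using hT.inf_normal' (le_NN_of_normal ⊤ D)
  have h1 := hR.frattini_sup le_top (le_NN_of_normal ⊤ D)
  have h2 : ⊤ ≤ NN(T ⊓ D) := by
    by_contra e
    have h3 : NN(T ⊓ D) ≤ NN(Y) := h.umax _
      (hYT.trans (le_NN_inf (le_NN_self T) (le_NN_of_normal T D))) fun e' => e e'.ge
    exact h.nn (h1.ge.trans (sup_le (Subgroup.normalCore_le _) (inf_le_right.trans h3)))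
  haveI := normal_of_top_le_NN h2
  have h3 : Subgroup.zpowers y ≤ T ⊓ D :=
    hR.le_of_le_NN (isPGroup_zpowers hy) ((Subgroup.zpowers_le).2 hyD) (le_NN_of_normal _ _)
  exact le_pCore' hR.isPGroup (h3 (Subgroup.mem_zpowers y))

theorem mem_of_comm {y a : X} (hy : y ∈ Y) (hy' : y ∉ pCore p X) (ha : a ∈ pCore p X)
    (hc : y * a * y⁻¹ * a⁻¹ ∈ Y ⊓ Subgroup.center X) : a ∈ Y := by
  obtain ⟨g, hg⟩ : ∃ g, y ∉ NN(H10.cj g Y) := by
    by_contra e
    push Not at e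
    exact hy' (h.mem_core (k := 1) (by rw [pow_one]; exact h.el.2 y hy) e)
  have h' := h.cj g
  have hg' : g ∉ NN(Y) := fun e => hg (by rw [cj_eq_of_mem_NN e]; exact le_NN_self Y hy)
  obtain ⟨b, hb, b', hb', rfl⟩ :=
    (mem_sup_of_NN (inf_le_right.trans h'.nB)).1 (h.core_le hg' ha)
  have h1 : b * y = y * b := mem_CC.1 (elab_le_CC h.el hy) b hb.1
  have h2 : y * b' * y⁻¹ * b'⁻¹ ∈ Y ⊓ Subgroup.center X := by
    have e : y * (b * b') * y⁻¹ * (b * b')⁻¹ = b * (y * b' * y⁻¹ * b'⁻¹) * b⁻¹ := by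
      rw [← mul_assoc y, ← h1]; group
    have e2 := center_conj hc.2 b⁻¹
    rw [e] at e2 hc
    rw [← e2] at hc
    simpa [mul_assoc] using hc
  set N := Subgroup.zpowers b' ⊔ (Y ⊓ Subgroup.center X) with hN
  have hNY : N ≤ H10.cj g Y :=
    sup_le ((Subgroup.zpowers_le).2 hb'.1) (by rw [← cj_inf_center g]; exact inf_le_left)
  have h3 : y ∈ NN(N) := by
    refine mem_NN_of_cj_le ?_
    rw [hN, cj_sup, cj_zpowers]
    refine sup_le ((Subgroup.zpowers_le).2 ?_) ?_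
    · have e : y * b' * y⁻¹ = (y * b' * y⁻¹ * b'⁻¹) * b' := by group
      rw [e]
      exact Subgroup.mul_mem _ (Subgroup.mem_sup_right h2)
        (Subgroup.mem_sup_left (Subgroup.mem_zpowers b'))
    · rw [cj_inf, cj_eq_of_normal y (Subgroup.center X), cj_inf_center]
      exact le_sup_right
  have h4 : ⊤ ≤ NN(N) := by
    by_contra e
    exact hg (h'.umax _ (((elab_le_CC h'.el).trans (CC_anti hNY)).trans (CC_le_NN N))
      (fun e' => e e'.ge) h3)
  have h5 : N ≤ Y := by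
    rw [← cj_eq_of_mem_NN (h4 (Subgroup.mem_top g)), cj_le_cj] at hNY
    exact hNY
  exact Y.mul_mem hb.1 (h5 (Subgroup.mem_sup_left (Subgroup.mem_zpowers b')))

end YT

/-- `x` acts fixed-point-freely on `O_p(X) / C` -/
def FpfOn (p : ℕ) (C : Subgroup X) (x : X) : Prop :=
  ∀ a ∈ pCore p X, x * a * x⁻¹ * a⁻¹ ∈ C → a ∈ C

theorem dmem_iff {C : Subgroup X} [C.Normal] {x a : X} : x * a * x⁻¹ * a⁻¹ ∈ C ↔
    Commute (QuotientGroup.mk' C x) (QuotientGroup.mk' C a) := by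
  rw [← QuotientGroup.eq_one_iff, ← commutatorElement_def, ← commutatorElement_eq_one_iff_commute,
    ← map_commutatorElement]
  rfl

theorem FpfOn.of_pow {C : Subgroup X} [C.Normal] {x : X} {n : ℕ} (h : FpfOn p C (x ^ n)) :
    FpfOn p C x := fun a ha hc => h a ha (by
  rw [dmem_iff] at hc ⊢
  rw [map_pow]
  exact hc.pow_left n)

theorem inf_center_normal (Y : Subgroup X) : (Y ⊓ Subgroup.center X).Normal :=
  ⟨fun x hx g => by rw [center_conj hx.2]; exact hx⟩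

namespace YT

variable {Y : Subgroup X} (h : YT p Y)
include h

theorem commute_core {a b : X} (ha : a ∈ pCore p X) (hb : b ∈ pCore p X) :
    haveI := inf_center_normal Y
    Commute (QuotientGroup.mk' (Y ⊓ Subgroup.center X) a)
      (QuotientGroup.mk' (Y ⊓ Subgroup.center X) b) :=
  haveI := inf_center_normal Y
  dmem_iff.1 (h.core_comm (Subgroup.commutator_mem_commutator ha hb))

theorem fpf_mul {g u v x : X} (hg : g ∉ NN(Y)) (hu : u ∈ Y) (hu' : u ∉ pCore p X)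
    (hv : v ∈ H10.cj g Y) (hv' : v ∉ pCore p X) (hx : x ∈ pCore p X) :
    FpfOn p (Y ⊓ Subgroup.center X) (u * v * x) := by
  haveI := inf_center_normal Y
  intro a ha hc
  have h' := h.cj g
  have h1 := h.commute_core hx ha
  rw [dmem_iff, map_mul] at hc
  have h2 := hc.mul_left h1.inv_left
  rw [mul_inv_cancel_right, ← dmem_iff] at h2
  have h3 : u⁻¹ * a * u⁻¹⁻¹ * a⁻¹ ∈ Y := by
    have := conj_mem_of_mem_NN (h.nA ha) hu
    have e : u⁻¹ * a * u⁻¹⁻¹ * a⁻¹ = u⁻¹ * (a * u * a⁻¹) := by group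
    rw [e]; exact Y.mul_mem (Y.inv_mem hu) this
  have h4 : v * a * v⁻¹ * a⁻¹ ∈ H10.cj g Y := by
    have := conj_mem_of_mem_NN (h'.nA ha) (Subgroup.inv_mem _ hv)
    have e : v * a * v⁻¹ * a⁻¹ = v * (a * v⁻¹ * a⁻¹) := by group
    rw [e]; exact Subgroup.mul_mem _ hv this
  have e : v * a * v⁻¹ * a⁻¹ =
      (u⁻¹ * (u * v * a * (u * v)⁻¹ * a⁻¹) * u⁻¹⁻¹) * (u⁻¹ * a * u⁻¹⁻¹ * a⁻¹) := by group
  rw [center_conj h2.2] at e
  have h5 : v * a * v⁻¹ * a⁻¹ ∈ Y := e ▸ Y.mul_mem h2.1 h3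
  have h6 : v * a * v⁻¹ * a⁻¹ ∈ Subgroup.center X := h.inf_le hg ⟨h5, h4⟩
  have h7 : u⁻¹ * a * u⁻¹⁻¹ * a⁻¹ ∈ Subgroup.center X := by
    rw [e] at h6
    exact (Subgroup.mul_mem_cancel_left _ h2.2).1 h6
  have h8 := h'.mem_of_comm hv hv' ha ⟨h4, h6⟩
  have h9 := h.mem_of_comm (Y.inv_mem hu) (fun e => hu' ((Subgroup.inv_mem_iff _).1 e)) ha ⟨h3, h7⟩
  exact ⟨h9, h.inf_le hg ⟨h9, h8⟩⟩

theorem fpf_of_central {z u : X} {k : ℕ} (hu : u ^ p ^ k = 1)
    (hz : u⁻¹ * z * u * z⁻¹ ∈ pCore p X) (hf : FpfOn p (Y ⊓ Subgroup.center X) (z * u)) :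
    FpfOn p (Y ⊓ Subgroup.center X) z := by
  haveI := inf_center_normal Y
  haveI : (pCore p X).Normal := pCore_normal'
  set f := QuotientGroup.mk' (Y ⊓ Subgroup.center X) with hf'
  intro a ha hc
  by_contra hne
  set W := (pCore p X).map f ⊓ Subgroup.centralizer {f z} with hW
  have hW0 : W ≠ ⊥ := by
    intro e
    have h1 : f a ∈ W := ⟨Subgroup.mem_map_of_mem f ha,
      Subgroup.mem_centralizer_singleton_iff.2 (dmem_iff.1 hc).symm⟩
    rw [e, Subgroup.mem_bot] at h1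
    exact hne ((QuotientGroup.eq_one_iff a).1 h1)
  have hn : Subgroup.zpowers (f u) ≤ NN(W) := by
    rw [Subgroup.zpowers_le]
    refine mem_NN_of_conj_mem ?_
    rintro _ ⟨⟨b, hb, rfl⟩, hb'⟩
    refine ⟨⟨u * b * u⁻¹, Subgroup.Normal.conj_mem inferInstance b hb u, by simp⟩, ?_⟩
    have h1 : Commute (f b) (f z) := Subgroup.mem_centralizer_singleton_iff.1 hb'
    have h2 : Commute (f b) (f (u⁻¹ * z * u * z⁻¹)) := h.commute_core hb hz
    have h3 := h2.mul_right h1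
    rw [← map_mul, inv_mul_cancel_right, map_mul, map_mul, map_inv] at h3
    refine Subgroup.mem_centralizer_singleton_iff.2 ?_
    calc f u * f b * (f u)⁻¹ * f z = f u * (f b * ((f u)⁻¹ * f z * f u)) * (f u)⁻¹ := by group
      _ = f z * (f u * f b * (f u)⁻¹) := by rw [h3.eq]; group
  have h1 := inf_CC_ne_bot' ((isPGroup_pCore'.map f).to_le (inf_le_left : W ≤ _))
    (isPGroup_zpowers (x := f u) (k := k) (by rw [← map_pow, hu, map_one])) hn hW0
  obtain ⟨⟨_, ⟨⟨b, hb, rfl⟩, hb1⟩, hb2⟩, hb3⟩ := Subgroup.ne_bot_iff_exists_ne_one.1 h1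
  have h2 : Commute (f z) (f b) := (Subgroup.mem_centralizer_singleton_iff.1 hb1).symm
  have h3 : Commute (f u) (f b) := mem_CC.1 hb2 _ (Subgroup.mem_zpowers _)
  have h4 := hf b hb (dmem_iff.2 (by rw [map_mul]; exact h2.mul_left h3))
  exact hb3 (Subtype.ext ((QuotientGroup.eq_one_iff b).2 h4))

end YT

/-- `x` is a product of two non-commuting nontrivial elements conjugate into `U` -/
def PRd {H : Type*} [Group H] (U : Subgroup H) (x : H) : Prop :=
  ∃ u v k l : H, u ∈ cj k U ∧ v ∈ cj l U ∧ u * v ≠ v * u ∧ x = u * v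

theorem PRd.of_conj {H : Type*} [Group H] {U : Subgroup H} {x g : H} (h : PRd U (g * x * g⁻¹)) :
    PRd U x := by
  obtain ⟨u, v, k, l, hu, hv, hne, e⟩ := h
  refine ⟨g⁻¹ * u * g⁻¹⁻¹, g⁻¹ * v * g⁻¹⁻¹, g⁻¹ * k, g⁻¹ * l, ?_, ?_, fun e' => hne ?_, ?_⟩
  · rw [cj_mul]; exact conj_mem_cj hu
  · rw [cj_mul]; exact conj_mem_cj hv
  · rw [conj_mul, conj_mul] at e'
    simpa using e'
  · rw [conj_mul, ← e]; group

theorem YT.fpf_of_prd {Y : Subgroup X} (h : YT p Y) {H : Type*} [Group H] {φ : X →* H}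
    (hφ : Function.Surjective φ) (hk : φ.ker = pCore p X) {x : X} (hx : PRd (Y.map φ) (φ x)) :
    FpfOn p (Y ⊓ Subgroup.center X) x := by
  obtain ⟨u, v, k, l, hu, hv, hne, e⟩ := hx
  obtain ⟨k, rfl⟩ := hφ k
  obtain ⟨l, rfl⟩ := hφ l
  rw [← map_cj] at hu hv
  obtain ⟨u, hu, rfl⟩ := hu
  obtain ⟨v, hv, rfl⟩ := hv
  have h' := h.cj k
  have h1 : (u * v)⁻¹ * x ∈ pCore p X := by
    rw [← hk, MonoidHom.mem_ker, map_mul, map_inv, map_mul, e, inv_mul_cancel]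
  have h2 : H10.cj l Y = H10.cj (l * k⁻¹) (H10.cj k Y) := by rw [← cj_mul, inv_mul_cancel_right]
  have := h'.fpf_mul (g := l * k⁻¹) (u := u) (v := v) (fun e => hne ?_) hu (fun e => hne ?_)
    (h2 ▸ hv) (fun e => hne ?_) h1
  · rwa [mul_inv_cancel_left, YT.cj_inf_center] at this
  · rw [cj_eq_of_mem_NN e] at h2
    rw [← map_mul, ← map_mul, mem_CC.1 (elab_le_CC h'.el hu) v (h2 ▸ hv)]
  · rw [← hk, MonoidHom.mem_ker] at e
    rw [e, one_mul, mul_one]
  · rw [← hk, MonoidHom.mem_ker] at e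
    rw [e, one_mul, mul_one]

end H10
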