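/-
Products of two conjugates: `SL₂(q)`, `Sz(q)` and dihedral groups.
-/
import Cfsg.Agent.H10.YL1
import Cfsg.Agent.H4.Dickson
import Cfsg.Agent.H4.M2
import Cfsg.Agent.H22.GL2
import Cfsg.Agent.H26.SzSol

set_option autoImplicit false
set_option linter.unusedSectionVars false

namespace H10

open Cfsg
open scoped MatrixGroups

section inv

variable {H : Type*} [Group H] [Finite H]

theorem mem_zpowers_sq {s x : H} (s2 : s * s = 1) (hx : x ∈ Subgroup.zpowers s) : x = 1 ∨ x = s := by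
  obtain ⟨k, rfl⟩ := hx
  have a2' : s ^ (2 : ℤ) = 1 := by rw [zpow_two, s2]
  rcases Int.even_or_odd' k with ⟨m, rfl | rfl⟩
  · left; simp only; rw [zpow_mul, a2', one_zpow]
  · right; simp only; rw [zpow_add, zpow_mul, a2', one_zpow, one_mul, zpow_one]

theorem prd_of_inv {U : Subgroup H} {s x k : H} (hs : s ∈ cj k U) (s2 : s * s = 1)
    (hi : s * x * s⁻¹ = x⁻¹) (ho : Odd (orderOf x)) (h1 : x ≠ 1) : PRd U x := by
  obtain ⟨j, hj⟩ := ho
  have si : s⁻¹ = s := inv_eq_of_mul_eq_one_right s2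
  have h2 : x ^ (j + 1) * x ^ (j + 1) = x := by
    rw [← pow_add, show j + 1 + (j + 1) = orderOf x + 1 by omega, pow_succ, pow_orderOf_eq_one,
      one_mul]
  have h3 : s * x ^ (j + 1) * s⁻¹ = (x ^ (j + 1))⁻¹ := by rw [← conj_pow, hi, inv_pow]
  refine ⟨s, s * x, k, (x ^ (j + 1))⁻¹ * k, hs, ?_, fun e => h1 ?_, ?_⟩
  · rw [cj_mul]
    have : s * x = (x ^ (j + 1))⁻¹ * s * (x ^ (j + 1))⁻¹⁻¹ := by
      rw [inv_inv]
      conv_rhs => rw [← h3]
      rw [inv_mul_cancel_right, mul_assoc, h2]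
    rw [this]
    exact conj_mem_cj hs
  · rw [← mul_assoc, s2, one_mul] at e
    rw [si, ← e] at hi
    have h4 : x ^ 2 = 1 := by rw [pow_two]; exact mul_eq_one_iff_eq_inv.2 hi
    have h5 := orderOf_dvd_of_pow_eq_one h4
    rw [← orderOf_eq_one_iff]
    rcases (Nat.dvd_prime Nat.prime_two).1 h5 with e | e <;> omega
  · rw [← mul_assoc, s2, one_mul]

theorem inv_of_mem_rot {s t x : H} (s2 : s * s = 1) (t2 : t * t = 1)
    (hx : x ∈ Subgroup.zpowers (s * t)) : s * x * s⁻¹ = x⁻¹ := by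
  obtain ⟨k, rfl⟩ := hx
  have : s * (s * t) * s⁻¹ = (s * t)⁻¹ := by
    rw [← mul_assoc, s2, one_mul, _root_.mul_inv_rev, inv_eq_of_mul_eq_one_right t2]
  simp only
  rw [← conj_zpow, this, inv_zpow]

theorem dih_cases {s t x : H} (s2 : s * s = 1) (t2 : t * t = 1)
    (hx : x ∈ Subgroup.zpowers s ⊔ Subgroup.zpowers t) :
    x ∈ Subgroup.zpowers (s * t) ∨ s * x ∈ Subgroup.zpowers (s * t) := by
  have h1 : Subgroup.zpowers s ⊔ Subgroup.zpowers t ≤
      Subgroup.zpowers s ⊔ Subgroup.zpowers (s * t) := by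
    refine sup_le le_sup_left ((Subgroup.zpowers_le).2 ?_)
    have : t = s * (s * t) := by rw [← mul_assoc, s2, one_mul]
    rw [this]
    exact Subgroup.mul_mem _ (Subgroup.mem_sup_left (Subgroup.mem_zpowers s))
      (Subgroup.mem_sup_right (by rw [← this]; exact Subgroup.mem_zpowers _))
  have h2 : Subgroup.zpowers s ≤ NN(Subgroup.zpowers (s * t)) :=
    (Subgroup.zpowers_le).2 (mem_NN_of_conj_mem fun y hy => by
      rw [inv_of_mem_rot s2 t2 hy]; exact Subgroup.inv_mem _ hy)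
  obtain ⟨a, ha, b, hb, rfl⟩ := (mem_sup_of_NN h2).1 (h1 hx)
  rcases mem_zpowers_sq s2 ha with rfl | rfl
  · left; rwa [one_mul]
  · right; rwa [← mul_assoc, s2, one_mul]

theorem exists_gen_of_card_two {U : Subgroup H} (h : Nat.card U = 2) :
    ∃ s, s ≠ 1 ∧ s * s = 1 ∧ U = Subgroup.zpowers s := by
  haveI : Fact (Nat.Prime 2) := ⟨Nat.prime_two⟩
  obtain ⟨s, hs, os⟩ := exists_orderOf_eq_of_dvd (p := 2) (L := U) (h ▸ dvd_rfl)
  refine ⟨s, ne_one_of_orderOf_eq os, by rw [← pow_two, ← os, pow_orderOf_eq_one], ?_⟩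
  exact (Subgroup.eq_of_le_of_card_ge ((Subgroup.zpowers_le).2 hs)
    (by rw [Nat.card_zpowers, os, h])).symm

theorem prd_dih {U : Subgroup H} (h : Nat.card U = 2) {g : H} (hg : U ⊔ cj g U = ⊤) {x : H}
    (ho : Odd (orderOf x)) (h1 : x ≠ 1) : PRd U x := by
  obtain ⟨s, -, s2, rfl⟩ := exists_gen_of_card_two h
  rw [cj_zpowers] at hg
  have t2 : g * s * g⁻¹ * (g * s * g⁻¹) = 1 := by rw [conj_mul, s2]; simp
  refine prd_of_inv (k := 1) (s := s) (by rw [cj_one]; exact Subgroup.mem_zpowers s) s2 ?_ ho h1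
  rcases dih_cases s2 t2 (hg ▸ Subgroup.mem_top x) with e | e
  · exact inv_of_mem_rot s2 t2 e
  · exfalso
    have h2 := inv_of_mem_rot s2 t2 e
    rw [← mul_assoc, s2, one_mul, _root_.mul_inv_rev, mul_left_inj] at h2
    have h4 : x ^ 2 = 1 := by rw [pow_two]; exact mul_eq_one_iff_eq_inv.2 h2
    have h5 := orderOf_dvd_of_pow_eq_one h4
    rcases (Nat.dvd_prime Nat.prime_two).1 h5 with e | e
    · exact h1 (orderOf_eq_one_iff.1 e)
    · rw [e] at ho; exact absurd ho (by decide)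

theorem uniq_dih {U V : Subgroup H} (h : Nat.card U = 2) {g : H} (hg : U ⊔ cj g U = ⊤)
    (hO : ∀ N : Subgroup H, N.Normal → IsPGroup 2 N → N = ⊥) (hV : IsElementaryAbelian 2 V)
    (h0 : V ≠ ⊥) (hn : V ≤ NN(U)) : V = U := by
  obtain ⟨s, s1, s2, rfl⟩ := exists_gen_of_card_two h
  rw [cj_zpowers] at hg
  set t := g * s * g⁻¹ with ht
  have t2 : t * t = 1 := by rw [ht, conj_mul, s2]; simp
  have key : ∀ r ∈ Subgroup.zpowers (s * t), r * r = 1 → r = 1 := by
    intro r hr r2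
    have h1 : s * r * s⁻¹ = r := by rw [inv_of_mem_rot s2 t2 hr, inv_eq_of_mul_eq_one_right r2]
    have h2 : Commute r (s * t) := by
      obtain ⟨k, rfl⟩ := hr
      exact (Commute.refl _).zpow_left k
    have h3 : Commute r s := (mul_inv_eq_iff_eq_mul.1 h1).symm
    have h4 : Commute r t := by
      have := h3.mul_right h2
      rwa [← mul_assoc, s2, one_mul] at this
    have h5 : ⊤ ≤ CC(Subgroup.zpowers r) := by
      rw [← hg, CC_zpowers]
      exact sup_le ((Subgroup.zpowers_le).2 (Subgroup.mem_centralizer_singleton_iff.2 h3.symm))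
        ((Subgroup.zpowers_le).2 (Subgroup.mem_centralizer_singleton_iff.2 h4.symm))
    have h6 := hO _ (normal_of_top_le_NN (h5.trans (CC_le_NN _)))
      (isPGroup_zpowers (k := 1) (by rw [pow_one, pow_two, r2]))
    exact Subgroup.zpowers_eq_bot.1 h6
  have hle : V ≤ Subgroup.zpowers s := by
    intro v hv
    have v2 : v * v = 1 := by rw [← pow_two]; exact hV.2 v hv
    have h1 : v * s * v⁻¹ = s := by
      rcases mem_zpowers_sq s2 (conj_mem_of_mem_NN (hn hv) (Subgroup.mem_zpowers s)) with e | e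
      · exact absurd (by simpa using e) s1
      · exact e
    rcases dih_cases s2 t2 (hg ▸ Subgroup.mem_top v) with e | e
    · rw [key v e v2]; exact Subgroup.one_mem _
    · have h2 := key _ e (by
        rw [mul_assoc, ← mul_assoc v, mul_inv_eq_iff_eq_mul.1 h1, mul_assoc, v2, mul_one, s2])
      rw [eq_inv_of_mul_eq_one_right h2]
      exact Subgroup.inv_mem _ (Subgroup.mem_zpowers s)
  refine Subgroup.eq_of_le_of_card_ge hle ?_
  rw [h]
  exact (Subgroup.one_lt_card_iff_ne_bot V).2 h0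

end inv

section sz

variable {H : Type*} [Group H] {F : Type*} [Field F] [Fintype F] {m : ℕ}

theorem prd_sz (M : H26.SzModel H F m) {U : Subgroup H} (hU : IsElementaryAbelian 2 U)
    (h0 : U ≠ ⊥) {x : H} (ho : Odd (orderOf x)) (h1 : x ≠ 1) : PRd U x := by
  haveI := M.finite
  haveI : Fact (Nat.Prime 2) := ⟨Nat.prime_two⟩
  have h2 : 2 ∣ Nat.card NN(Subgroup.centralizer {x}) := by
    rcases M.cent_cases h1 ho with h | ⟨k, -, h⟩
    · rw [h.card_normalizer]; exact Dvd.dvd.mul_right (by norm_num) _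
    · rw [h, H26.SzModel.card_normalizer_H]; exact Dvd.intro _ rfl
  obtain ⟨s, hs, os⟩ := exists_orderOf_eq_of_dvd h2
  have s2 : s * s = 1 := by rw [← pow_two, ← os, pow_orderOf_eq_one]
  have s1 := ne_one_of_orderOf_eq os
  obtain ⟨k, hk⟩ := M.exists_mem_conj_Q_of_sq s2
  have hi := (M.conj k).YY_inv ((M.conj k).Z_le_Q hk) s1 ⟨h1, ho, hs⟩ s2
  obtain ⟨⟨y, hy⟩, y1⟩ := Subgroup.ne_bot_iff_exists_ne_one.1 h0
  obtain ⟨a, ha⟩ := M.exists_conj_u_zero_one s2 s1
  obtain ⟨b, hb⟩ := M.exists_conj_u_zero_one (x := y) (by rw [← pow_two]; exact hU.2 y hy)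
    (fun e => y1 (Subtype.ext e))
  refine prd_of_inv (k := a * b⁻¹) ?_ s2 hi ho h1
  have : s = a * b⁻¹ * y * (a * b⁻¹)⁻¹ := by rw [ha, hb]; group
  rw [this]
  exact conj_mem_cj hy

theorem uniq_sz (M : H26.SzModel H F m) {U V : Subgroup H} (hU : IsElementaryAbelian 2 U)
    (hc : Nat.card U = Fintype.card F) (hV : IsElementaryAbelian 2 V) (h0 : V ≠ ⊥)
    (hn : V ≤ NN(U)) (hn' : NN(U) ≤ NN(V)) : V = U := by
  haveI := M.finite
  haveI : Fact (Nat.Prime 2) := ⟨Nat.prime_two⟩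
  obtain ⟨k, hk⟩ := M.exists_le_conj_Q
    (isPGroup_sup_of_NN (elab_isPGroup hV) (elab_isPGroup hU) hn)
  set N := M.conj k
  have hZ : ∀ {W : Subgroup H}, IsElementaryAbelian 2 W → W ≤ N.Q → W ≤ N.Z := fun hW hle x hx =>
    (N.mul_self_eq_one_iff_mem_Z (hle hx)).1 (by rw [← pow_two]; exact hW.2 x hx)
  have h1 : U = N.Z :=
    Subgroup.eq_of_le_of_card_ge (hZ hU (le_sup_right.trans hk)) (by rw [N.card_Z, hc])
  have h2 : V ≤ N.Z := hZ hV (le_sup_left.trans hk)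
  rw [h1] at hn' ⊢
  refine le_antisymm h2 fun z hz => ?_
  obtain ⟨⟨v, hv⟩, v1⟩ := Subgroup.ne_bot_iff_exists_ne_one.1 h0
  obtain ⟨b, rfl⟩ := N.mem_Z.1 (h2 hv)
  obtain ⟨c, rfl⟩ := N.mem_Z.1 hz
  have hb : b ≠ 0 := fun e => v1 (Subtype.ext (N.u_eq_one_iff.2 ⟨rfl, e⟩))
  by_cases hc0 : c = 0
  · rw [hc0, N.u_zero]; exact V.one_mem
  obtain ⟨s, hs⟩ := N.sq_mul_σ_surj (c / b)
  have hs0 : s ≠ 0 := by
    rintro rfl
    rw [zero_pow two_ne_zero, zero_mul, eq_comm, div_eq_zero_iff] at hs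
    exact hs.elim hc0 hb
  have h3 : N.h (Units.mk0 s hs0) ∈ NN(N.Z) :=
    mem_NN_of_conj_mem fun x hx => N.conj_mem_Z (N.H_le_B (N.h_mem_H _)) hx
  have h4 := conj_mem_of_mem_NN (hn' h3) hv
  rwa [N.h_conj_u, mul_zero, Units.val_mk0, hs, div_mul_cancel₀ _ hb] at h4

end sz

section sl

open Matrix

variable {F : Type*} [Field F] [Fintype F] {p : ℕ} [Fact p.Prime] [CharP F p]

theorem sl2_pow_of_trace {u : SL(2, F)} (h : u.1.trace = 2) : u ^ p = 1 := by
  have h1 : ∀ n : ℕ, (u ^ n).1 = (n : F) • u.1 + (1 - (n : F)) • (1 : Matrix (Fin 2) (Fin 2) F) := by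
    intro n
    induction n with
    | zero => simp
    | succ n ih =>
      rw [pow_succ, Matrix.SpecialLinearGroup.coe_mul, ih, add_mul, smul_mul_assoc, H4.m2_cayley,
        h, u.2, smul_mul_assoc, one_mul]
      push_cast
      module
  apply Subtype.ext
  rw [h1, CharP.cast_eq_zero]
  simp

theorem prd_sl2_aux {U : Subgroup SL(2, F)} (hU : IsSylowIn p U ⊤) {x : SL(2, F)}
    (ht : x.1.trace ≠ 2) (hc : x.1 1 0 ≠ 0) : PRd U x := by
  have hd := x.2
  rw [det_fin_two] at hd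
  rw [trace_fin_two] at ht
  let u : SL(2, F) := ⟨!![x.1 0 0, -(x.1 0 0 - 1) ^ 2 / x.1 1 0; x.1 1 0, 2 - x.1 0 0], by
    rw [det_fin_two_of]; field_simp; ring⟩
  let v : SL(2, F) := H4.upT ((x.1 0 0 + x.1 1 1 - 2) / x.1 1 0)
  have cj' : ∀ w : SL(2, F), w.1.trace = 2 → ∃ k, w ∈ cj k U := fun w hw => by
    obtain ⟨k, -, hk⟩ := hU.exists_le_cj (isPGroup_zpowers (x := w) (k := 1)
      (by rw [pow_one, sl2_pow_of_trace hw])) le_top
    exact ⟨k, hk (Subgroup.mem_zpowers w)⟩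
  obtain ⟨k, hk⟩ := cj' u (by simp [u, trace_fin_two])
  obtain ⟨l, hl⟩ := cj' v (by simp [v, H4.coe_upT, trace_fin_two]; norm_num)
  refine ⟨u, v, k, l, hk, hl, fun e => ht ?_, ?_⟩
  · have := congrArg (fun M : SL(2, F) => M.1 0 0) e
    simp only [H4.sl2_mul_apply] at this
    simp [u, v, H4.coe_upT] at this
    rcases this with e | e
    all_goals first | exact sub_eq_zero.1 e | exact absurd e hc
  · apply H4.sl2_ext <;> rw [H4.sl2_mul_apply] <;> simp [u, v, H4.coe_upT]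
    · field_simp
      linear_combination -hd
    · field_simp
      ring

theorem prd_sl2 {U : Subgroup SL(2, F)} (hU : IsSylowIn p U ⊤) {x : SL(2, F)}
    (ht : x.1.trace ≠ 2) (hs : ¬ H4.Sc x.1) : PRd U x := by
  by_cases hc : x.1 1 0 = 0
  swap
  · exact prd_sl2_aux hU ht hc
  have tr : ∀ g : SL(2, F), (g * x * g⁻¹).1.trace ≠ 2 := fun g => by
    rw [Matrix.SpecialLinearGroup.coe_mul, Matrix.SpecialLinearGroup.coe_mul, trace_mul_cycle,
      ← Matrix.SpecialLinearGroup.coe_mul, inv_mul_cancel]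
    simpa using ht
  by_cases hb : x.1 0 1 = 0
  · refine PRd.of_conj (g := H4.loT 1) (prd_sl2_aux hU (tr _) ?_)
    rw [H4.loT_inv]
    simp only [H4.sl2_mul_apply]
    simp [H4.coe_loT, hb, hc]
    intro e
    exact hs ⟨hb, hc, by linear_combination e⟩
  · let w : SL(2, F) := ⟨!![0, 1; -1, 0], by simp [det_fin_two]⟩
    refine PRd.of_conj (g := w) (prd_sl2_aux hU (tr _) ?_)
    have hw : w⁻¹ = w * w * w := by
      refine inv_eq_of_mul_eq_one_right ?_
      apply H4.sl2_ext <;> simp only [H4.sl2_mul_apply] <;> simp [w]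
    rw [hw]
    simp only [H4.sl2_mul_apply]
    simp [w, hb]

theorem uniq_sl2 {U V : Subgroup SL(2, F)} (hU : IsSylowIn p U ⊤) (hV : IsPGroup p V) (h0 : V ≠ ⊥)
    (hn : V ≤ NN(U)) (hn' : NN(U) ≤ NN(V)) : V = U := by
  obtain ⟨g, -, hg⟩ := hU.exists_cj (isSylowIn_top (H22.slSylow F p))
  rw [H22.coe_slSylow] at hg
  have h1 : cj g V ≤ H22.slU F := hg ▸ cj_mono g (hU.le_of_le_NN hV le_top hn)
  have h2 : H22.slB F ≤ NN(cj g V) := by
    rw [← H22.normalizer_slU, ← hg, ← cj_normalizer, ← cj_normalizer]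
    exact cj_mono g hn'
  rw [← cj_inj (g := g), hg]
  have h3 : cj g V ≠ ⊥ := fun e => h0 (cj_eq_bot.1 e)
  generalize cj g V = W at h1 h2 h3
  have hup : ∀ x ∈ H22.slU F, x = H4.upT (x.1 0 1) := fun x hx => by
    rw [H22.mem_slU] at hx
    apply H4.sl2_ext <;> simp [H4.coe_upT, hx.1, hx.2.1, hx.2.2]
  refine le_antisymm h1 fun z hz => ?_
  obtain ⟨⟨v, hv⟩, v1⟩ := Subgroup.ne_bot_iff_exists_ne_one.1 h3
  have e := hup v (h1 hv)
  set b := v.1 0 1
  have hb : b ≠ 0 := fun e' => v1 (Subtype.ext (by rw [e', H4.upT_zero] at e; exact e))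
  have h4 : ∀ s : F, H4.upT (s * s * b) ∈ W := by
    intro s
    by_cases hs : s = 0
    · rw [hs, mul_zero, zero_mul, H4.upT_zero]; exact W.one_mem
    let d : SL(2, F) := ⟨!![s, 0; 0, s⁻¹], by simp [det_fin_two, hs]⟩
    have h5 := conj_mem_of_mem_NN (h2 (show d ∈ H22.slB F from H22.mem_slB.2 (by simp [d]))) hv
    have h6 : d * v * d⁻¹ = H4.upT (s * s * b) := by
      rw [mul_inv_eq_iff_eq_mul, e]
      apply H4.sl2_ext <;> simp only [H4.sl2_mul_apply] <;> simp [d, H4.coe_upT]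
      field_simp
    exact h6 ▸ h5
  obtain ⟨s, t, hst⟩ := H4.exists_norm_eq (F := F) (t := 0) (d := 1) (by
    by_cases h2 : (2 : F) = 0
    · exact Or.inr h2
    · left
      rw [mul_zero, mul_one, zero_sub, neg_ne_zero, show (4 : F) = 2 * 2 by norm_num]
      exact mul_ne_zero h2 h2) (z.1 0 1 / b)
  have h7 : z.1 0 1 = s * s * b + t * t * b := by
    rw [eq_div_iff hb] at hst
    linear_combination -hst
  rw [hup z hz, h7, H4.upT_add]
  exact W.mul_mem (h4 s) (h4 t)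

end sl

end H10
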