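/-
The family `𝔏_G(Y_M)`.
-/
import Cfsg.Agent.H10.YL2
import Cfsg.Agent.H10.PRed
import Cfsg.Agent.H3.PComp
import Cfsg.Agent.H26.SzInst

set_option autoImplicit false
set_option linter.unusedSectionVars false

namespace H10

open Cfsg
open scoped MatrixGroups

variable {X : Type*} [Group X] [Finite X] {p : ℕ} [Fact p.Prime]

/-- the possible quotients -/
def YCase (p n : ℕ) (H : Type*) [Group H] : Prop :=
  (∃ (F : Type) (_ : Field F) (_ : Fintype F), Fintype.card F = n ∧ Nonempty (H ≃* SL(2, F))) ∨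
  (p = 2 ∧ ∃ (F : Type) (_ : Field F) (_ : Fintype F) (m : ℕ), Fintype.card F = 2 ^ (2 * m + 1) ∧
    Fintype.card F = n ∧ Nonempty (H ≃* ↥(Lie.Sz F (2 ^ (m + 1))))) ∨
  (p = 2 ∧ ∃ r : ℕ, r.Prime ∧ r ≠ 2 ∧ Nonempty (H ≃* DihedralGroup r))

theorem charP_of_dvd_card {F : Type*} [Field F] [Fintype F] (h : p ∣ Fintype.card F) :
    CharP F p := by
  obtain ⟨q, hq⟩ := CharP.exists F
  obtain ⟨n, hp, hn⟩ := FiniteField.card F q
  rw [hn] at h
  have := (Nat.prime_dvd_prime_iff_eq Fact.out hp).1 ((Fact.out : p.Prime).dvd_of_dvd_pow h)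
  exact this ▸ hq

namespace YT

variable {Y : Subgroup X} (h : YT p Y) {H : Type*} [Group H] {φ : X →* H}
  (hφ : Function.Surjective φ) (hk : φ.ker = pCore p X)
include h hk

theorem map_ne : Y.map φ ≠ ⊥ := fun e => h.not_le (hk ▸ (Subgroup.map_eq_bot_iff Y).1 e)

omit h in
theorem card_map : Nat.card (Y.map φ) = (Y ⊓ pCore p X).relIndex Y := by
  rw [Subgroup.inf_relIndex_left, ← hk, Subgroup.relIndex_ker]

omit h in
theorem pow_of_map {x : X} {k : ℕ} (hx : φ x ^ p ^ k = 1) : ∃ k, x ^ p ^ k = 1 := by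
  rw [← map_pow, ← MonoidHom.mem_ker, hk] at hx
  obtain ⟨j, hj⟩ := isPGroup_iff_mem.1 isPGroup_pCore' _ hx
  exact ⟨k + j, by rw [pow_add, pow_mul, hj]⟩

include hφ

omit h in
theorem core_bot (N : Subgroup H) (hN : N.Normal) (hp : IsPGroup p N) : N = ⊥ := by
  have h1 : IsPGroup p (N.comap φ) := isPGroup_iff_mem.2 fun x hx => by
    obtain ⟨k, hk'⟩ := isPGroup_iff_mem.1 hp _ hx
    exact pow_of_map hk hk'
  haveI : (N.comap φ).Normal := hN.comap φ
  have h2 := le_pCore' h1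
  rw [← Subgroup.map_comap_eq_self_of_surjective hφ N, Subgroup.map_eq_bot_iff, hk]
  exact h2

omit hk in
theorem exists_map_sup : ∃ g, Y.map φ ⊔ H10.cj g (Y.map φ) = ⊤ := by
  obtain ⟨g, hg⟩ := h.exists_not_mem
  refine ⟨φ g, ?_⟩
  rw [← map_cj, ← Subgroup.map_sup, h.sup_eq hg, Subgroup.map_top_of_surjective _ hφ]

theorem NN_map_le : NN(Y.map φ) ≤ (NN(Y)).map φ := by
  intro g hg
  obtain ⟨g, rfl⟩ := hφ g
  refine Subgroup.mem_map_of_mem φ (h.wc ?_)
  have h1 : (H10.cj g Y).map φ ≤ Y.map φ := by rw [map_cj, cj_eq_of_mem_NN hg]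
  rw [Subgroup.map_le_iff_le_comap, Subgroup.comap_map_eq, hk] at h1
  exact h1.trans (sup_le (le_NN_self Y) h.nA)

omit hφ hk in
theorem sylow_sl2 {F : Type*} [Field F] [Fintype F] {φ : X →* SL(2, F)}
    (hk : φ.ker = pCore p X) (hF : Fintype.card F = (Y ⊓ pCore p X).relIndex Y) :
    ∃ _ : CharP F p, IsSylowIn p (Y.map φ) ⊤ := by
  have hp := (elab_isPGroup h.el).map φ
  rw [← card_map hk] at hF
  haveI : CharP F p := charP_of_dvd_card (hF ▸ dvd_card_of_isPGroup_ne_bot hp (h.map_ne hk))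
  refine ⟨this, isSylowIn_of_card_ge (isSylowIn_top (H22.slSylow F p)) hp le_top ?_⟩
  rw [H22.card_sylow_SL_two, hF]

omit hφ h hk in
theorem card_dih {Y : Subgroup X} (h : YT 2 Y) {r : ℕ} (hr : r.Prime) (hr2 : r ≠ 2)
    {φ : X →* DihedralGroup r} (hk : φ.ker = pCore 2 X) : Nat.card (Y.map φ) = 2 := by
  haveI : NeZero r := ⟨hr.ne_zero⟩
  have hp := (elab_isPGroup h.el).map φ
  obtain ⟨k, hk'⟩ := IsPGroup.iff_card.1 hp
  have h1 := Subgroup.card_subgroup_dvd_card (Y.map φ)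
  rw [DihedralGroup.nat_card, hk'] at h1
  have h2 := (Nat.Coprime.pow_left k ((Nat.coprime_primes Nat.prime_two hr).2 hr2.symm)).dvd_of_dvd_mul_right h1
  rw [← hk'] at h2
  rcases (Nat.dvd_prime Nat.prime_two).1 h2 with e | e
  · exact absurd (Subgroup.card_eq_one.1 e) (h.map_ne hk)
  · exact e

end YT

theorem ker_comp_mk {H : Type*} [Group H] [(pCore p X).Normal] (e : X ⧸ pCore p X ≃* H) :
    (e.toMonoidHom.comp (QuotientGroup.mk' (pCore p X))).ker = pCore p X := by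
  ext x
  simp [MonoidHom.mem_ker]

theorem surj_comp_mk {H : Type*} [Group H] [(pCore p X).Normal] (e : X ⧸ pCore p X ≃* H) :
    Function.Surjective (e.toMonoidHom.comp (QuotientGroup.mk' (pCore p X))) :=
  e.surjective.comp (QuotientGroup.mk'_surjective _)

theorem YT.fpf {Y : Subgroup X} (h : YT p Y) [(pCore p X).Normal]
    (hc : YCase p ((Y ⊓ pCore p X).relIndex Y) (X ⧸ pCore p X)) {x : X}
    (hx : ¬ ∃ k, orderOf x = p ^ k) : FpfOn p (Y ⊓ Subgroup.center X) x := by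
  haveI := inf_center_normal Y
  obtain ⟨k, hk⟩ := exists_pow_coprime (p := p) (isOfFinOrder_of_finite x)
  refine FpfOn.of_pow (n := p ^ k) ?_
  have h1 : x ^ p ^ k ≠ 1 := fun e => hx (by
    obtain ⟨j, -, hj⟩ := (Nat.dvd_prime_pow Fact.out).1 (orderOf_dvd_of_pow_eq_one e)
    exact ⟨j, hj⟩)
  generalize x ^ p ^ k = y at hk h1
  have h2 : ∀ {H : Type} [Group H] {φ : X →* H}, φ.ker = pCore p X → φ y ^ p ≠ 1 := by
    intro H _ φ hφ e
    obtain ⟨j, hj⟩ := YT.pow_of_map hφ (k := 1) (by rw [pow_one, e])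
    exact h1 (H3.eq_one_of_pow_of_coprime hj hk)
  have h3 : ∀ {H : Type} [Group H] (φ : X →* H), p = 2 → Odd (orderOf (φ y)) := by
    intro H _ φ hp
    subst hp
    exact (Nat.coprime_two_right.1 hk).of_dvd_nat (orderOf_map_dvd φ y)
  rcases hc with ⟨F, _, _, hF, ⟨e⟩⟩ | ⟨rfl, F, _, _, m, hm, hF, ⟨e⟩⟩ | ⟨rfl, r, hr, hr2, ⟨e⟩⟩
  all_goals
    have hk := ker_comp_mk e
    have hφ := surj_comp_mk e
    generalize e.toMonoidHom.comp (QuotientGroup.mk' _) = φ at hk hφ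
    have h4 : φ y ≠ 1 := fun e => h2 hk (by rw [e, one_pow])
  · obtain ⟨_, hS⟩ := h.sylow_sl2 hk hF
    have ht : (φ y).1.trace ≠ 2 := fun e => h2 hk (sl2_pow_of_trace e)
    by_cases hs : H4.Sc (φ y).1
    swap
    · exact h.fpf_of_prd hφ hk (prd_sl2 hS ht hs)
    obtain ⟨u, hu⟩ := hφ (H4.upT 1)
    obtain ⟨j, hj⟩ := YT.pow_of_map hk (x := u) (k := 1) (by
      rw [hu, pow_one, H4.upT_pow, CharP.cast_eq_zero, zero_mul, H4.upT_zero])
    refine h.fpf_of_central hj ?_ (h.fpf_of_prd hφ hk (prd_sl2 hS ?_ ?_))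
    · have : φ y * φ u = φ u * φ y := Subtype.ext (hs.comm _)
      rw [← hk, MonoidHom.mem_ker, map_mul, map_mul, map_mul, map_inv, map_inv, mul_assoc _ (φ y),
        this]
      group
    · rw [map_mul, hu, Matrix.trace_fin_two, H4.sl2_mul_apply, H4.sl2_mul_apply]
      rw [Matrix.trace_fin_two] at ht
      simpa [H4.coe_upT, hs.1, hs.2.1] using ht
    · intro e
      have h5 := e.1
      rw [map_mul, hu, H4.sl2_mul_apply] at h5
      have h6 := (φ y).2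
      rw [Matrix.det_fin_two] at h6
      simp [H4.coe_upT, hs.1] at h5
      simp [h5, hs.1] at h6
  · rcases Nat.eq_zero_or_pos m with rfl | hm0
    · haveI : Finite (Lie.Sz F (2 ^ (0 + 1))) := Finite.of_surjective _ hφ
      obtain ⟨g, hg⟩ := h.exists_map_sup hφ
      exact h.fpf_of_prd hφ hk (prd_dih (by rw [YT.card_map hk, ← hF, hm]; rfl) hg (h3 φ rfl) h4)
    · exact h.fpf_of_prd hφ hk (prd_sz (H26.Sz.lieModel hm0 hm) (elab_map φ h.el) (h.map_ne hk)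
        (h3 φ rfl) h4)
  · haveI : Finite (DihedralGroup r) := Finite.of_surjective _ hφ
    obtain ⟨g, hg⟩ := h.exists_map_sup hφ
    exact h.fpf_of_prd hφ hk (prd_dih (h.card_dih hr hr2 hk) hg (h3 φ rfl) h4)

theorem YT.uniq {Y : Subgroup X} (h : YT p Y) [(pCore p X).Normal]
    (hc : YCase p ((Y ⊓ pCore p X).relIndex Y) (X ⧸ pCore p X)) {W : Subgroup X}
    (h1 : ⁅W, W⁆ ≤ pCore p X) (h2 : ∀ w ∈ W, w ^ p ∈ pCore p X) (h3 : ¬ W ≤ pCore p X)
    (h4 : W ≤ NN(Y)) (h5 : NN(Y) ≤ NN(W)) : W ⊔ pCore p X = Y ⊔ pCore p X := by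
  rcases hc with ⟨F, _, _, hF, ⟨e⟩⟩ | ⟨rfl, F, _, _, m, hm, hF, ⟨e⟩⟩ | ⟨rfl, r, hr, hr2, ⟨e⟩⟩
  all_goals
    have hk := ker_comp_mk e
    have hφ := surj_comp_mk e
    generalize e.toMonoidHom.comp (QuotientGroup.mk' _) = φ at hk hφ
    have hV : IsElementaryAbelian _ (W.map φ) := isElementaryAbelian_iff.2 ⟨by
      rw [← comm_eq_bot, ← Subgroup.map_commutator, Subgroup.map_eq_bot_iff, hk]; exact h1, by
      rintro _ ⟨w, hw, rfl⟩
      rw [← map_pow, ← MonoidHom.mem_ker, hk]; exact h2 w hw⟩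
    have h0 : W.map φ ≠ ⊥ := fun e => h3 (hk ▸ (Subgroup.map_eq_bot_iff W).1 e)
    have hn : W.map φ ≤ NN(Y.map φ) := map_le_NN_map φ h4
    have hn' : NN(Y.map φ) ≤ NN(W.map φ) := (h.NN_map_le hφ hk).trans (map_le_NN_map φ h5)
    rw [← hk, ← Subgroup.comap_map_eq, ← Subgroup.comap_map_eq]
    congr 1
  · obtain ⟨_, hS⟩ := h.sylow_sl2 hk hF
    exact uniq_sl2 hS (elab_isPGroup hV) h0 hn hn'
  · rcases Nat.eq_zero_or_pos m with rfl | hm0
    · haveI : Finite (Lie.Sz F (2 ^ (0 + 1))) := Finite.of_surjective _ hφ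
      obtain ⟨g, hg⟩ := h.exists_map_sup hφ
      exact uniq_dih (by rw [YT.card_map hk, ← hF, hm]; rfl) hg (YT.core_bot hφ hk) hV h0 hn
    · exact uniq_sz (H26.Sz.lieModel hm0 hm) (elab_map φ h.el) (by rw [YT.card_map hk, hF]) hV h0
        hn hn'
  · haveI : Finite (DihedralGroup r) := Finite.of_surjective _ hφ
    obtain ⟨g, hg⟩ := h.exists_map_sup hφ
    exact uniq_dih (h.card_dih hr hr2 hk) hg (YT.core_bot hφ hk) hV h0 hn

variable {G : Type*} [Group G] [Finite G]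

theorem elab_YOf (M : Subgroup G) : IsElementaryAbelian p (YOf p M) :=
  elab_of_le (elab_ZO _) (pRed_YOf M).le_ZO

theorem yT_of_frakL {M L : Subgroup G} (h : IsInFrakL p M L) : YT p ((YOf p M).subgroupOf L) := by
  obtain ⟨h1, h2, h3, h4, -, ⟨h5, h6⟩, -⟩ := h
  refine ⟨elab_subgroupOf (elab_YOf M) L, ?_, ?_, ?_, ?_, ?_⟩
  · rw [← pCoreOf_def, Subgroup.map_subtype_inj] at h2
    rw [ncl_top]
    refine h2.le.trans (le_of_eq ?_)
    rw [pCoreOf_def, ← pCoreOf_subgroupOf]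
    rfl
  · rw [NN_subgroupOf h1, ← pCoreOf_subgroupOf]
    exact Subgroup.subgroupOf_mono L h3
  · rw [NN_subgroupOf h1, top_le_iff, Subgroup.subgroupOf_eq_top]
    exact fun e => h5.not_ge (le_inf le_rfl e)
  · rw [ncl_top]; exact h4.1.ge
  · intro K hK hne
    rw [NN_subgroupOf h1, ← map_subtype_le_iff]
    refine (h6 _ (le_map_subtype_iff.2 ⟨h1, hK⟩) (lt_of_le_of_ne (Subgroup.map_subtype_le K)
      fun e => hne ?_)).trans inf_le_right
    rw [← subgroupOf_map_subtype' K, e, Subgroup.subgroupOf_self]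

theorem yCase_of_frakL {M L : Subgroup G} (h : IsInFrakL p M L) [(pCore p L).Normal] :
    YCase p (((YOf p M).subgroupOf L ⊓ pCore p L).relIndex ((YOf p M).subgroupOf L))
      (L ⧸ pCore p L) := by
  have e : ((YOf p M).subgroupOf L ⊓ pCore p L).relIndex ((YOf p M).subgroupOf L) =
      (YOf p M ⊓ pCoreOf p L).relIndex (YOf p M) := by
    rw [← pCoreOf_subgroupOf, ← Subgroup.relIndex_subgroupOf h.1]
    rfl
  rw [e]
  exact h.2.2.2.2.2.2

end H10
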