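import Cfsg.Agent.H10.SG4
import Cfsg.Agent.H10.JC4
import Cfsg.Agent.H9.NormalCyc
import Cfsg.Agent.H6.Count

/-!
Groups in which the centralizer of a `2`-central involution is `2`-closed.
-/

set_option autoImplicit false
set_option linter.unusedSectionVars false

namespace H10.Sg

open Cfsg H10 Subgroup
open H5 (plOf ppOf oppOf GF ocore)
open scoped commutatorElement

universe u

local notation "C₁(" a ")" => Subgroup.centralizer (Singleton.singleton a : Set _)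

variable {G : Type u} [Group G] [Finite G]

theorem thompson (hO2 : ∀ N : Subgroup G, N.Normal → N.index ≠ 2) {T T₀ : Subgroup G}
    (hT : IsSylowIn 2 T ⊤) (h0 : T₀ ≤ T) (h2 : T₀.relIndex T = 2) {t : G} (ht : orderOf t = 2) :
    ∃ g, g * t * g⁻¹ ∈ T₀ := by
  obtain ⟨g, -, hg⟩ := hT.exists_cj_le (ea_one ht).two le_top
  have h1 := hg (conj_mem_cj (mem_zpowers t))
  by_cases e : g * t * g⁻¹ ∈ T₀
  · exact ⟨g, e⟩
  obtain ⟨S, rfl⟩ := hT.exists_sylow_top
  rcases Cfsg.Agent.S0111.result S T₀ h0 h2 _ (by rw [ord_conj, ht]) h1 e with ⟨M, h6, h7, -⟩ | ⟨k, hk⟩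
  · exact absurd h7 (hO2 M h6)
  · exact ⟨k * g, by convert hk using 1; group⟩

theorem mem_of_sq {T C : Subgroup G} (hT : IsSylowIn 2 T ⊤) (hC : T ≤ C) {n : G} (hn : n ∈ NN(T))
    (h2 : n * n ∈ C) : n ∈ C := by
  obtain ⟨k, hk⟩ := exists_pow_coprime (p := 2) (isOfFinOrder_of_finite n)
  obtain ⟨j, hj⟩ := Nat.coprime_two_right.1 hk
  have h1 : n ^ (2 * j + 1) ∈ T := zpowers_le.1 (hT.le_of_le_NN (isPGroup_zpowers (k := k) (by
    rw [← pow_mul, mul_comm, pow_mul, ← hj, pow_orderOf_eq_one])) le_top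
    (zpowers_le.2 (pow_mem hn _)))
  have h3 := hC h1
  rwa [pow_succ, pow_mul, mul_mem_cancel_left (pow_mem (by rwa [sq]) j)] at h3

theorem isConj_of {a b g : G} (h : g * a * g⁻¹ = b) : IsConj a b := isConj_iff.2 ⟨g, h⟩

theorem four_cases {U : Subgroup G} (hU : EA 2 U) (h4 : Nat.card U = 4) {z u w : G} (hz : z ∈ U)
    (hu : u ∈ U) (hw : w ∈ U) (z1 : z ≠ 1) (u1 : u ≠ 1) (huz : u ≠ z) :
    w = 1 ∨ w = z ∨ w = u ∨ w = z * u := by
  have hz2 := hU.ord hz z1
  rcases mem_four hU h4 hz hu hw z1 (fun h => ((mem_zp hz2).1 h).elim u1 huz) with h | h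
  · exact ((mem_zp hz2).1 h).imp_right Or.inl
  · refine Or.inr (Or.inr (((mem_zp hz2).1 h).imp (fun e => ?_) fun e => ?_))
    · rw [eq_inv_of_mul_eq_one_left e, inv_eq_of_mul_eq_one_right (hU.sq hu)]
    · rw [← e, mul_assoc, hU.sq hu, mul_one]

theorem ea_pair {a b : G} (ha : orderOf a = 2) (hb : orderOf b = 2) (hne : b ≠ a)
    (hc : a * b = b * a) : EA 2 (zpowers a ⊔ zpowers b) ∧ Nat.card (zpowers a ⊔ zpowers b : Subgroup G) = 4 := by
  have h0 : b ∉ zpowers a := fun h => ((mem_zp ha).1 h).elim (H6.ord2_ne_one hb) hne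
  refine ⟨(ea_one ha).succ (H6.ord2_mul_self hb) (zpowers_le.2 (mem_C1.2 hc)) h0, ?_⟩
  have h1 := card_sup_mul_card_inf (L := zpowers a) (N := zpowers b)
    (zpowers_le.2 (CC_le_NN _ (by rw [CC_zpowers]; exact mem_C1.2 hc)))
  have h2 : zpowers a ⊓ zpowers b = ⊥ := eq_bot_iff.2 fun x hx =>
    ((mem_zp hb).1 hx.2).elim (fun e => e ▸ one_mem _) fun e => absurd (e ▸ hx.1) h0
  rw [h2, card_bot, Nat.card_zpowers, Nat.card_zpowers, ha, hb] at h1
  omega

/-- In `2`-rank at most two there is a single class of involutions. -/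
theorem conj_all (hO2 : ∀ N : Subgroup G, N.Normal → N.index ≠ 2) (h2 : ∀ B : Subgroup G, ¬ EA 3 B)
    {T : Subgroup G} (hT : IsSylowIn 2 T ⊤) {s h : G} (hs : orderOf s = 2) (hsT : s ∈ T)
    (hc : T ≤ C₁(s)) (hh : h * s * h⁻¹ ∈ T) (hne : h * s * h⁻¹ ≠ s) {t : G} (ht : orderOf t = 2) :
    IsConj s t := by
  obtain ⟨y, hy⟩ : ∃ y, y = h * s * h⁻¹ := ⟨_, rfl⟩
  rw [← hy] at hh hne
  have oy : orderOf y = 2 := by rw [hy, ord_conj, hs]
  have s1 := H6.ord2_ne_one hs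
  have y1 := H6.ord2_ne_one oy
  have csy : IsConj s y := isConj_of hy.symm
  have red : ∀ T₀ ≤ T, T₀.relIndex T = 2 → (∀ x ∈ T₀, orderOf x = 2 → IsConj s x) →
      ∀ x, orderOf x = 2 → IsConj s x := fun T₀ a b c x hx => by
    obtain ⟨g, hg⟩ := thompson hO2 hT a b hx
    exact (c _ hg (by rw [ord_conj, hx])).trans (isConj_of rfl).symm
  by_cases hU : ∃ U, U ≤ T ∧ T ≤ NN(U) ∧ EA 2 U ∧ Nat.card U = 4
  swap
  · rcases H9.cyclic_or_dqs hT.isPGroup (fun V hV h1 h3 h4 => hU ⟨V.map T.subtype, map_subtype_le _,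
      le_NN_map_subtype V, ⟨H5.elemAb_map _ ⟨h1, h3⟩, by rw [card_map_subtype, h4]; rfl⟩,
        by rw [card_map_subtype, h4]⟩) with h1 | ⟨m, a, b, -, -, h1, -⟩
    · exact absurd (H6.ord2_unique_of_isCyclic h1 hh hsT oy hs) hne
    · have h3 : (zpowers (a : G)).relIndex T = 2 := by
        rw [← h1, relIndex, ← subgroupOf_map_subtype' (zpowers a), MonoidHom.map_zpowers]; rfl
      obtain ⟨g, hg⟩ := thompson hO2 hT (zpowers_le.2 a.2) h3 hs
      refine red _ (zpowers_le.2 a.2) h3 (fun x hx ox => ?_) t ht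
      exact isConj_of (H6.ord2_unique_of_isCyclic inferInstance hg hx (by rw [ord_conj, hs]) ox)
  obtain ⟨U, hUT, hn, hU, h4⟩ := hU
  have inU : ∀ x ∈ CC(U), x * x = 1 → x ∈ U := fun x hx e => by
    by_contra h0
    exact h2 _ (hU.succ e (fun u hu => mem_C1.2 (mem_CC.1 hx u hu)) h0)
  have hsU : s ∈ U := inU s (mem_CC.2 fun u hu => mem_C1.1 (hc (hUT hu))) (H6.ord2_mul_self hs)
  have all : ∀ u ∈ U, u ≠ s → IsConj s u → IsConj s (s * u) → ∀ x ∈ T ⊓ CC(U), orderOf x = 2 →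
      IsConj s x := fun u hu a b c x hx ox => by
    rcases four_cases hU h4 hsU hu (inU x hx.2 (H6.ord2_mul_self ox)) s1
      (fun e => s1 (isConj_one_left.1 (e ▸ b))) a with e | e | e | e
    exacts [absurd e (H6.ord2_ne_one ox), e ▸ IsConj.refl _, e ▸ b, e ▸ c]
  by_cases hTU : T ≤ CC(U)
  · have hyU := inU y (hTU hh) (H6.ord2_mul_self oy)
    obtain ⟨S, rfl⟩ := hT.exists_sylow_top
    obtain ⟨n, hnN, hn1⟩ := H6.burnside_fusion_comm S (fun x hx => mem_C1.1 (hc hx))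
      (fun x hx => (mem_CC.1 (hTU hx) y hyU).symm) csy
    have h5 : n * y * n⁻¹ ∈ U := inU _ (hTU (conj_mem_of_mem_NN hnN hh))
      (H6.ord2_mul_self (by rw [ord_conj, oy]))
    have h6 : IsConj s (s * y) := by
      rcases four_cases hU h4 hsU hyU h5 s1 y1 hne with e | e | e | e
      · exact absurd (conj_eq_one_iff.1 e) y1
      · refine absurd (hn1.symm.trans (conj_eq_of (mem_of_sq hT hc hnN (mem_C1_of ?_)))) hne
        calc _ = n * (n * s * n⁻¹) * n⁻¹ := by group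
          _ = s := by rw [hn1, e]
      · exact absurd (conj_injective (e.trans hn1.symm)) hne
      · exact csy.trans (isConj_of e)
    obtain ⟨g, -, hg⟩ := hT.exists_cj_le (ea_one ht).two le_top
    have h7 := hg (conj_mem_cj (mem_zpowers t))
    exact (all y hyU hne csy h6 _ ⟨h7, hTU h7⟩ (by rw [ord_conj, ht])).trans (isConj_of rfl).symm
  have h5 : (T ⊓ CC(U)).relIndex T = 2 := by
    rw [inf_relIndex_left]
    exact ((Nat.dvd_prime Nat.prime_two).1 (H2.relIndex_cent_dvd_of_pgroup (p := 2) hU.two h4.le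
      hT.isPGroup hn)).resolve_left fun e' => hTU (relIndex_eq_one.1 e')
  -- elements of `T` outside `C(U)` swap the other two involutions
  have swp : ∀ x ∈ T, x ∉ CC(U) → ∀ u ∈ U, u ≠ 1 → u ≠ s → x * u * x⁻¹ = s * u := by
    intro x hx hxU u hu u1 us
    rcases four_cases hU h4 hsU hu (conj_mem_of_mem_NN (hn hx) hu) s1 u1 us with e | e | e | e
    · exact absurd (conj_eq_one_iff.1 e) u1
    · exact absurd (conj_injective (e.trans (conj_eq_of (hc hx)).symm)) us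
    · refine absurd (mem_CC.2 fun w hw => ?_) hxU
      have a1 := mem_C1.1 (mem_C1_of e)
      have a2 := mem_C1.1 (hc hx)
      rcases four_cases hU h4 hsU hu hw s1 u1 us with e | e | e | e <;> rw [e]
      exacts [by simp, a2.symm, a1.symm, by rw [mul_assoc, ← a1, ← mul_assoc, ← a2, mul_assoc]]
    · exact e
  obtain ⟨x₀, hx₀, hx₀'⟩ := SetLike.not_le_iff_exists.1 hTU
  suffices ∃ u ∈ U, u ≠ s ∧ IsConj s u by
    obtain ⟨u, hu, a, b⟩ := this
    exact red _ inf_le_left h5 (all u hu a b (b.trans (isConj_of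
      (swp x₀ hx₀ hx₀' u hu (fun e => s1 (isConj_one_left.1 (e ▸ b))) a)))) t ht
  by_contra! hno
  have hyU : y ∉ CC(U) := fun e => hno y (inU y e (H6.ord2_mul_self oy)) hne csy
  obtain ⟨u, hu, u1, us⟩ : ∃ u ∈ U, u ≠ 1 ∧ u ≠ s := by
    by_contra! e
    refine hyU (mem_CC.2 fun w hw => ?_)
    by_cases w1 : w = 1
    · simp [w1]
    · rw [e w hw w1]; exact (mem_C1.1 (hc hh)).symm
  have hsy : y * s = s * y := mem_C1.1 (hc hh)
  obtain ⟨hV, hV4⟩ := ea_pair oy hs hne.symm hsy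
  have hyu : u * y * u⁻¹ = s * y := by
    have a := swp y hh hyU u hu u1 us
    have b := hU.sq hu
    have c := hU.comm hu hsU
    rw [inv_eq_of_mul_eq_one_right b]
    rw [inv_eq_of_mul_eq_one_right (H6.ord2_mul_self oy)] at a
    calc u * y * u = u * (y * u * y) * y := by
          rw [mul_assoc, mul_assoc, mul_assoc (y * u), H6.ord2_mul_self oy, mul_one]
      _ = s * y := by rw [a, ← mul_assoc, c, mul_assoc s, b, mul_one]
  have inV : ∀ x ∈ T ⊓ C₁(y), x * x = 1 → x ∈ zpowers y ⊔ zpowers s := fun x hx e => by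
    by_contra h0
    exact h2 _ (hV.succ e (sup_le (zpowers_le.2 (mem_C1.2 (mem_C1.1 hx.2).symm))
      (zpowers_le.2 (mem_C1.2 (mem_C1.1 (hc hx.1)).symm))) h0)
  have m1 : y ∈ zpowers y ⊔ zpowers s := mem_sup_left (mem_zpowers y)
  have m2 : s ∈ zpowers y ⊔ zpowers s := mem_sup_right (mem_zpowers s)
  -- an extremal conjugate
  obtain ⟨g, hg, hg'⟩ := (hT.of_le hc le_top).exists_cj_le (P := cj h⁻¹ (T ⊓ C₁(y)))
    (isPGroup_cj _ (hT.isPGroup.to_le inf_le_left)) ((cj_mono _ inf_le_right).trans (by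
      rw [cj_centralizer_singleton, hy]; simp [mul_assoc]))
  rw [← cj_mul] at hg'
  have k1 : g * h⁻¹ * y * (g * h⁻¹)⁻¹ = s := by
    rw [← conj_eq_of hg, hy]; group
  have nsq : ∀ x ∈ T ⊓ C₁(y), x * x ≠ s := fun x hx e => by
    have a := hg' (conj_mem_cj hx)
    have b : g * h⁻¹ * x * (g * h⁻¹)⁻¹ * (g * h⁻¹ * x * (g * h⁻¹)⁻¹) = g * h⁻¹ * s * (g * h⁻¹)⁻¹ := by
      rw [← e]; group
    have c : _ * _ ∈ T ⊓ CC(U) := mem_subgroupOf.1 (mul_self_mem_of_index_two h5 ⟨_, a⟩)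
    simp only at c
    rw [b] at c
    exact hno _ (inU _ c.2 (H6.ord2_mul_self (by rw [ord_conj, hs])))
      (fun e' => hne (conj_injective (k1.trans e'.symm))) (isConj_of rfl)
  have sq : ∀ x ∈ T ⊓ C₁(y), (x * x) * (x * x) = 1 → x * x = 1 := fun x hx e => by
    have a : ⁅u, x⁆ ∈ U := by
      rw [commutatorElement_def, mul_assoc, mul_assoc, ← mul_assoc x]
      exact mul_mem hu (conj_mem_of_mem_NN (hn hx.1) (inv_mem hu))
    have b : u * (x * x) * u⁻¹ = x * x := by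
      by_cases hxU : x ∈ CC(U)
      · rw [mem_CC.1 (mul_mem hxU hxU) u hu, mul_inv_cancel_right]
      have c := swp x hx.1 hxU u hu u1 us
      have d := mem_C1.1 (hc hx.1)
      have c' : x * u = s * u * x := by rw [← c, inv_mul_cancel_right]
      rw [mul_inv_eq_iff_eq_mul]
      calc u * (x * x) = s * s * u * x * x := by rw [H6.ord2_mul_self hs, one_mul, mul_assoc]
        _ = x * s * u * x := by rw [d, mul_assoc s x, c']; group
        _ = _ := by rw [mul_assoc x x, c']; group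
    rcases four_cases hV hV4 m2 m1 (inV _ (mul_mem hx hx) e) s1 y1 hne with e' | e' | e' | e'
    · exact e'
    · exact absurd e' (nsq x hx)
    · rw [e', hyu] at b; exact absurd (mul_eq_right.1 b) s1
    · rw [e', ← mul_assoc, hU.comm hu hsU, mul_assoc, mul_assoc, ← mul_assoc u, hyu] at b
      exact absurd (mul_eq_right.1 (mul_left_cancel b)) s1
  have hP : T ⊓ C₁(y) ≤ zpowers y ⊔ zpowers s := fun x hx => by
    obtain ⟨k, hk⟩ := isPGroup_iff_mem.1 hT.isPGroup x hx.1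
    refine inV x hx ?_
    induction k generalizing x with
    | zero => rw [pow_zero, pow_one] at hk; simp [hk]
    | succ k ih => exact sq x hx (ih _ (mul_mem hx hx) (by rwa [← _root_.sq, ← pow_mul, ← pow_succ']))
  have hTe := small_cent hT.isPGroup hU h4 hUT hn oy hh hsU s1 hc hyU hP
  have hVT : zpowers y ⊔ zpowers s ≤ T := sup_le (zpowers_le.2 hh) (zpowers_le.2 hsT)
  have h8 : (zpowers y ⊔ zpowers s).relIndex T = 2 := by
    have a := card_mul_relIndex hVT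
    have b := card_sup_mul_card_inf (L := zpowers y) (N := U) ((zpowers_le.2 hh).trans hn)
    have c : zpowers y ⊓ U = ⊥ := eq_bot_iff.2 fun x hx => ((mem_zp oy).1 hx.1).elim
      (fun e => e ▸ one_mem _) fun e => absurd (hU.le_CC (e ▸ hx.2)) hyU
    rw [sup_comm, ← hTe, c, card_bot, Nat.card_zpowers, oy, h4] at b
    rw [hV4] at a
    omega
  refine hno u hu us (red _ hVT h8 (fun x hx ox => ?_) u (hU.ord hu u1))
  rcases four_cases hV hV4 m2 m1 hx s1 y1 hne with e | e | e | e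
  exacts [absurd e (H6.ord2_ne_one ox), e ▸ IsConj.refl _, e ▸ csy, e ▸ csy.trans (isConj_of hyu)]

theorem char_two_of_core (he : Even (Nat.card G))
    (hL : ∀ t : G, orderOf t = 2 → plOf 2 C₁(t) = ⊥) (h : ∀ t : G, orderOf t = 2 → ocore t = ⊥) :
    IsCharacteristicTwoType G := by
  refine ⟨he, fun T hT h1 => H5.fstar_eq_pCore_iff_centralizer.1
    (Cfsg.Agent.S1292.result (fun t ht => ?_) T hT h1)⟩
  rw [H5.fstar_eq_pCore_iff_of, H5.fstarOf_eq_opOf_iff, ← H5.plOf_eq_layerOf (h t ht)]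
  exact ⟨hL t ht, h t ht⟩

/-- One class of involutions with `2`-closed centralizers. -/
theorem se_or_core (hO : pPrimeCore 2 G = ⊥) (hL : ∀ t : G, orderOf t = 2 → plOf 2 C₁(t) = ⊥)
    {T : Subgroup G} (hT : IsSylowIn 2 T ⊤) {s : G} (hs : orderOf s = 2) (hsT : s ∈ T)
    (hc : T ≤ C₁(s)) (hn : C₁(s) ≤ NN(T)) (hall : ∀ t : G, orderOf t = 2 → IsConj s t) :
    (∃ M : Subgroup G, IsStronglyEmbedded M) ∨ ∀ t : G, orderOf t = 2 → ocore t = ⊥ := by
  have k0 : ocore s ≤ CC(T) := comm_eq_bot.1 (eq_bot_iff.2 ((le_inf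
    (comm_le_left (hc.trans (H5.le_normalizer_oppOf 2 le_normalizer)))
    (comm_le_right ((H5.oppOf_le 2 _).trans hn))).trans (eq_bot_of_isPGroup_of_not_dvd
      (hT.isPGroup.to_le inf_le_right) inf_le_left
        (not_dvd_of_coprime (H5.coprime_card_oppOf 2 _))).le))
  have k1 : ∀ t : G, orderOf t = 2 → ∀ w : G, orderOf w = 2 → w * t = t * w → ocore t ≤ ocore w := by
    intro t ht w hw e
    refine le_trans (le_inf le_rfl ?_) (H5.core_balance_of_plOf (k := 1)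
      (by rw [pow_one, ← ht, pow_orderOf_eq_one]) e.symm (hL w hw))
    obtain ⟨g, rfl⟩ := isConj_iff.1 (hall t ht)
    rw [ocore, H5.cj_oppOf_centralizer₁]
    refine (cj_mono g k0).trans ?_
    rw [cj_centralizer, ← CC_zpowers]
    refine CC_anti (le_cj_iff.2 ((hT.of_le hc le_top).le_of_le_NN (isPGroup_cj _ (ea_one hw).two) ?_ ?_))
    all_goals rw [cj_zpowers, zpowers_le]
    · exact mem_C1.2 (by
        calc _ = g⁻¹ * (w * (g * s * g⁻¹)) * g := by group
          _ = _ := by rw [e]; group)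
    · exact hn (mem_C1.2 (by
        calc _ = g⁻¹ * (w * (g * s * g⁻¹)) * g := by group
          _ = _ := by rw [e]; group))
  have k2 : ∀ t ∈ T, orderOf t = 2 → ocore t = ocore s := fun t h1 ht =>
    le_antisymm (k1 t ht s hs (mem_C1.1 (hc h1)).symm) (k1 s hs t ht (mem_C1.1 (hc h1)))
  by_cases hM : NN(ocore s) = ⊤
  · have h0 := H5.eq_bot_of_forall_cj hO (H5.coprime_card_oppOf 2 C₁(s)) fun g =>
      mem_NN.1 (hM ▸ mem_top g)
    refine Or.inr fun t ht => ?_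
    obtain ⟨g, rfl⟩ := isConj_iff.1 (hall t ht)
    rw [ocore, H5.cj_oppOf_centralizer₁, h0]; exact cj_bot g
  refine Or.inl ⟨_, se_iff_spe.2 (spe_of_centralizers hM (hT.of_le
    (hc.trans (H5.le_normalizer_oppOf 2 le_normalizer)) le_top) (fun x hx ox => ?_) fun g hg => mem_NN.2 ?_)⟩
  · rw [← k2 x hx ox]; exact H5.le_normalizer_oppOf 2 le_normalizer
  · exact (H5.cj_oppOf_centralizer₁ 2 g s).symm.trans
      (k2 _ (conj_mem_of_mem_NN hg hsT) (by rw [ord_conj, hs]))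

theorem h8_of_center {T Z : Subgroup G} (hT : IsSylowIn 2 T ⊤) (hZ : EA 2 Z) (hc : T ≤ CC(Z))
    (h3 : ¬ PRankLE 2 2 G) : ∀ t : G, orderOf t = 2 → ∃ B, EA 3 B ∧ t ∈ B := by
  obtain ⟨A, hA, hAT⟩ := exists_eight_le hT h3
  refine h8_of_sylow hT fun t ht h2 => ⟨1, ?_⟩
  rw [one_mul, inv_one, mul_one]
  by_cases e : t ∈ Z
  · exact ⟨A ⊔ Z, ⟨elab_sup hA.1 hZ.1 (hAT.trans hc),
      hA.2.trans (card_le_of_le le_sup_left)⟩, mem_sup_right e⟩
  · exact ⟨_, hZ.succ (H6.ord2_mul_self h2) (fun u hu => mem_C1.2 (mem_CC.1 (hc ht) u hu)) e,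
      mem_sup_right (mem_zpowers t)⟩

end H10.Sg
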