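import Cfsg.Agent.H10.ZC1
import Cfsg.Agent.H19.BS3
import Cfsg.Agent.H6.Fus

/-!
The structure of `ZC`-groups.
-/

set_option autoImplicit false
set_option linter.unusedSectionVars false

namespace H10.Sg

open Cfsg H10 Subgroup
open H5 (plOf ppOf oppOf GF ocore)
open scoped commutatorElement

universe u

local notation "C₁(" a ")" => Subgroup.centralizer (Singleton.singleton a : Set _)

variable {G : Type u} [Group G] [Finite G]

theorem plOf_sub (hC : ∀ t : G, orderOf t = 2 → Group.IsSolvable C₁(t)) (X : Subgroup G) (t : X)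
    (ht : orderOf t = 2) : plOf 2 C₁(t) = ⊥ := by
  refine H5.plOf_eq_bot_of_solvable ((H5.isSolvable_map_iff X.subtype_injective).1
    (H5.isSolvable_of_le (hC t (by rw [orderOf_coe, ht])) ?_))
  rintro _ ⟨x, hx, rfl⟩
  exact mem_C1.2 (congrArg Subtype.val (mem_C1.1 hx))

theorem res_no_two (N : Subgroup (pResidual 2 G)) : N.index ≠ 2 := by
  obtain ⟨P⟩ : Nonempty (Sylow 2 (pResidual 2 G)) := inferInstance
  refine H6.no_index_two_of_le_pResidual P (le_top.trans (Eq.ge ?_)) N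
  rw [← resOf_subgroupOf, ← resOf_top, resOf_resOf, subgroupOf_self]

theorem sylow_sub {S X : Subgroup G} (hS : IsSylowIn 2 S ⊤) [X.Normal] :
    IsSylowIn 2 ((S ⊓ X).subgroupOf X) ⊤ :=
  isSylowIn_subgroupOf_top (hS.inf_normal le_top (le_NN_of_normal _ _))

theorem res_sup_normal {S Z : Subgroup G} (hS : IsSylowIn 2 S ⊤) (hZ : S ≤ NN(Z)) :
    (pResidual 2 G ⊔ Z).Normal := by
  have := pResidual_normal' (p := 2) (G := G)
  refine normal_of_top_le_NN (hS.le_of_resOf_le ?_ (le_NN_sup (le_NN_of_normal _ _) hZ))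
  rw [resOf_top]; exact le_sup_left.trans (le_NN_self _)

theorem inf_res_ne_bot (he : Even (Nat.card G)) (hO' : pPrimeCore 2 G = ⊥) (hO : pCore 2 G = ⊥)
    {S : Subgroup G} (hS : IsSylowIn 2 S ⊤) : S ⊓ pResidual 2 G ≠ ⊥ := fun e => by
  have := pResidual_normal' (p := 2) (G := G)
  have h1 := hS.inf_normal (N := pResidual 2 G) le_top (le_NN_of_normal _ _)
  rw [e] at h1
  have h2 := H5.eq_bot_of_forall_cj hO' (coprime_of_not_dvd h1.not_dvd_of_eq_bot) fun g =>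
    cj_eq_of_normal g _
  have h3 := isPGroup_of_resOf_eq_bot (resOf_top.trans h2)
  have h4 : (⊤ : Subgroup G) = ⊥ := eq_bot_iff.2 ((le_pCore' h3).trans hO.le)
  rw [← card_top, h4, card_bot] at he
  exact absurd he (by decide)

theorem zc_main (he : Even (Nat.card G))
    (hC : ∀ t : G, orderOf t = 2 → Group.IsSolvable C₁(t)) {S : Subgroup G} (hS : IsSylowIn 2 S ⊤)
    (hZ : CC(ZO 2 S) ≤ NN(S)) (hO' : pPrimeCore 2 G = ⊥) (hO : pCore 2 G = ⊥) :
    (∃ M : Subgroup (pResidual 2 G), IsStronglyEmbedded M) ∨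
      (Nat.card (ZO 2 S ⊓ pResidual 2 G : Subgroup G) = 2 ∧ ∀ h ∈ pResidual 2 G,
        ∀ z ∈ ZO 2 S ⊓ pResidual 2 G, h * z * h⁻¹ ∈ S → h * z * h⁻¹ ∈ ZO 2 S) ∨
      (Nat.card (ZO 2 S) = 4 ∧ omegaOne 2 (S ⊓ pResidual 2 G) = ZO 2 S) ∨
      IsCharacteristicTwoType (pResidual 2 G ⊔ ZO 2 S : Subgroup G) := by
  have hHn := pResidual_normal' (p := 2) (G := G)
  have hXn := res_sup_normal hS (le_NN_ZO (p := 2) (le_NN_self S))
  have hR := inf_res_ne_bot he hO' hO hS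
  have hres := res_no_two (G := G)
  generalize pResidual 2 G = H at *
  have h0 : ZO 2 S ⊓ H ≠ ⊥ := fun e => inf_ZO_ne_bot hS.isPGroup (inf_le_left : S ⊓ H ≤ S)
    (le_NN_inf (le_NN_self S) (le_NN_of_normal _ _)) hR
    (eq_bot_iff.2 ((le_inf inf_le_right (inf_le_left.trans inf_le_right)).trans e.le))
  obtain ⟨s, hs, os⟩ := exists_orderOf_eq_of_ne_bot ((isPGroup_ZO S).to_le inf_le_left) h0
  have ev : ∀ X : Subgroup G, s ∈ X → Even (Nat.card X) := fun X hX =>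
    even_iff_two_dvd.2 (os ▸ X.orderOf_dvd_natCard hX)
  by_cases h4 : 2 ^ 2 ≤ Nat.card (ZO 2 S)
  · set X := H ⊔ ZO 2 S
    have hZX : ZO 2 S ≤ X := le_sup_right
    by_cases h3 : PRankLE 2 2 X
    · have inZ : ∀ x ∈ S ⊓ X, x * x = 1 → x ∈ ZO 2 S := fun x hx e => by
        by_contra h1
        have := EA.succ ⟨elab_ZO S, h4⟩ e (fun z hz => mem_C1.2 (mem_CC.1 (ZO_le_CC S hz) x hx.1).symm) h1
        exact H5.not_pRankLE_iff.2 ⟨_, sup_le hZX (zpowers_le.2 hx.2), this⟩ h3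
      obtain ⟨k, hk⟩ := (isPGroup_ZO (p := 2) S).exists_card_eq
      have h5 : Nat.card (ZO 2 S) = 4 := by
        have : ¬ 2 ^ 3 ≤ Nat.card (ZO 2 S) := fun e =>
          H5.not_pRankLE_iff.2 ⟨_, hZX, elab_ZO S, e⟩ h3
        rw [hk, Nat.pow_le_pow_iff_right (by norm_num)] at h4 this
        rw [hk, show k = 2 by omega]; rfl
      by_cases h6 : ZO 2 S ≤ H
      · exact Or.inr (Or.inr (Or.inl ⟨h5, le_antisymm (omegaOne_le_iff.2 fun x hx e =>
          inZ x ⟨hx.1, mem_sup_left hx.2⟩ (by rwa [← sq]))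
          (le_omegaOne (le_inf (ZO_le S) h6) fun x hx => (mem_ZO.1 hx).2.2)⟩))
      refine Or.inr (Or.inl ⟨?_, fun h hh z hz e => inZ _ ⟨e, mem_sup_left (hHn.conj_mem _ hz.2 h)⟩ ?_⟩)
      · have a := card_lt_of_lt (inf_lt_left.2 h6)
        have b := card_dvd_of_le (inf_le_left : ZO 2 S ⊓ H ≤ _)
        have c := ev _ hs
        have d : 0 < Nat.card (ZO 2 S ⊓ H : Subgroup G) := Nat.card_pos
        rw [h5] at a
        obtain ⟨m, hm⟩ := c
        omega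
      · calc _ = h * (z ^ 2) * h⁻¹ := by rw [sq]; group
          _ = 1 := by rw [(mem_ZO.1 hz.1).2.2]; group
    refine Or.inr (Or.inr (Or.inr (char_two_of_core (ev _ (hZX hs.1)) (plOf_sub hC X) fun t ht =>
      core_eq_bot (H19.pPrimeCore_normal_eq_bot hO' X) (plOf_sub hC X)
        (h8_of_center (Z := (ZO 2 S).subgroupOf X) (sylow_sub hS)
          ⟨elab_subgroupOf (elab_ZO S) X, by rwa [card_subgroupOf_of_le hZX]⟩ ?_ h3) ht)))
    rw [CC_subgroupOf hZX]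
    exact comap_mono (inf_le_left.trans (le_CC_ZO S))
  have hZs : ZO 2 S = zpowers s := by
    refine (H5.eq_of_le_of_card_le (zpowers_le.2 hs.1) ?_).symm
    obtain ⟨m, hm⟩ := ev _ hs.1
    rw [Nat.card_zpowers, os]; omega
  have hZH : ZO 2 S ≤ H := hZs ▸ zpowers_le.2 hs.2
  rw [sup_eq_left.2 hZH]
  by_cases hw : ∀ h ∈ H, ∀ z ∈ ZO 2 S ⊓ H, h * z * h⁻¹ ∈ S → h * z * h⁻¹ ∈ ZO 2 S
  · exact Or.inr (Or.inl ⟨by rw [inf_eq_left.2 hZH, hZs, Nat.card_zpowers, os], hw⟩)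
  push Not at hw
  obtain ⟨h, hh, z, hz, k1, k2⟩ := hw
  have hzs : z = s := ((mem_zp os).1 (hZs ▸ hz.1)).resolve_left fun e => k2 (by simp [e, one_mem])
  subst hzs
  have hOH := H19.pPrimeCore_normal_eq_bot hO' H
  by_cases h3 : PRankLE 2 2 H
  swap
  · exact Or.inr (Or.inr (Or.inr (char_two_of_core (ev _ hs.2) (plOf_sub hC H) fun t ht =>
      core_eq_bot hOH (plOf_sub hC H) (h8_of_index (fun N _ => hres N) h3) ht)))
  have os' : orderOf (⟨z, hs.2⟩ : H) = 2 := by rw [orderOf_mk, os]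
  have k3 : (S ⊓ H).subgroupOf H ≤ C₁((⟨z, hs.2⟩ : H)) := fun x hx =>
    mem_C1.2 (Subtype.ext (mem_CC.1 (ZO_le_CC S hs.1) x hx.1))
  have k4 : (⟨z, hs.2⟩ : H) ∈ (S ⊓ H).subgroupOf H := ⟨ZO_le S hs.1, hs.2⟩
  refine (se_or_core hOH (plOf_sub hC H) (sylow_sub hS) os' k4 k3 (fun x hx => ?_) fun t ht =>
    conj_all (h := ⟨h, hh⟩) (fun N _ => hres N) (fun B hB => H5.not_pRankLE_iff_top.2 ⟨B, hB⟩ h3)
      (sylow_sub hS) os' k4 k3 ⟨k1, hHn.conj_mem _ hs.2 h⟩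
      (fun e => k2 (by rw [show h * z * h⁻¹ = z from congrArg Subtype.val e]; exact hs.1)) ht).imp_right
    fun k => Or.inr (Or.inr (char_two_of_core (ev _ hs.2) (plOf_sub hC H) k))
  rw [NN_subgroupOf inf_le_right]
  refine mem_NN_inf (hZ ?_) (le_NN_of_normal ⊤ H (mem_top _))
  rw [hZs, CC_zpowers]
  exact mem_C1.2 (congrArg Subtype.val (mem_C1.1 hx))

end H10.Sg
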